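import Mathlib.Algebra.BigOperators.Ring.Finset
import Mathlib.Algebra.Order.BigOperators.Ring.Finset
import Mathlib.Data.Fintype.BigOperators
import Mathlib.Data.Int.Order.Units
import Mathlib.Tactic

/-!
# Exceptional configurations

Integer vectors with Gram matrix `e J + I`, all orthogonal to a positive weight, are
`w + δ ε_(f i)` for a common vector `w`, a sign `δ` and an injective `f`.
-/

namespace Cfsg.Agent.DefectOne

variable {X : Type*} [Fintype X]

theorem abs_le_one_of_sum_sq {u : X → ℤ} (h : ∑ x, u x ^ 2 ≤ 3) (x : X) :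
    u x = 0 ∨ u x = 1 ∨ u x = -1 := by
  have h1 : u x ^ 2 ≤ 3 :=
    le_trans (Finset.single_le_sum (fun y _ => sq_nonneg (u y)) (Finset.mem_univ x)) h
  have : -2 < u x ∧ u x < 2 := by constructor <;> nlinarith
  omega

/-- A vector of norm two orthogonal to a positive weight is a difference of unit vectors. -/
theorem eq_diff_of_norm_two [DecidableEq X] {D u : X → ℤ} (hD : ∀ x, 0 < D x)
    (h0 : ∑ x, D x * u x = 0) (h2 : ∑ x, u x ^ 2 = 2) :
    ∃ a b, a ≠ b ∧ u = Pi.single a 1 - Pi.single b 1 := by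
  have hval := abs_le_one_of_sum_sq (by omega : ∑ x, u x ^ 2 ≤ 3)
  set S := Finset.univ.filter fun x => u x ≠ 0 with hS
  have hcard : S.card = 2 := by
    have : ∑ x, u x ^ 2 = ∑ x ∈ S, (1 : ℤ) := by
      rw [← Finset.sum_filter_add_sum_filter_not Finset.univ (fun x => u x ≠ 0),
        Finset.sum_eq_zero (s := Finset.univ.filter fun x => ¬ u x ≠ 0) fun x hx => by
          simp only [Finset.mem_filter, not_not] at hx; rw [hx.2]; rfl, add_zero]
      refine Finset.sum_congr rfl fun x hx => ?_
      rcases hval x with h | h | h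
      · exact absurd h (Finset.mem_filter.1 hx).2
      all_goals rw [h]; rfl
    rw [this] at h2
    simp only [Finset.sum_const, nsmul_eq_mul, mul_one] at h2
    exact_mod_cast h2
  obtain ⟨a, b, hab, hSab⟩ := Finset.card_eq_two.1 hcard
  have hz : ∀ x, x ≠ a → x ≠ b → u x = 0 := fun x ha hb => by
    by_contra h
    have : x ∈ S := Finset.mem_filter.2 ⟨Finset.mem_univ _, h⟩
    rw [hSab] at this
    simp [ha, hb] at this
  have hsum : D a * u a + D b * u b = 0 := by
    rw [← h0, ← Finset.sum_subset (Finset.subset_univ {a, b}), Finset.sum_pair hab]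
    intro x _ hx
    simp only [Finset.mem_insert, Finset.mem_singleton, not_or] at hx
    rw [hz x hx.1 hx.2, mul_zero]
  have ha0 : u a ≠ 0 := (Finset.mem_filter.1 (hSab ▸ by simp : a ∈ S)).2
  have hb0 : u b ≠ 0 := (Finset.mem_filter.1 (hSab ▸ by simp : b ∈ S)).2
  have hda := hD a
  have hdb := hD b
  rcases hval a with h | h | h <;> rcases hval b with h' | h' | h' <;>
    try contradiction
  · rw [h, h'] at hsum; linarith
  · refine ⟨a, b, hab, funext fun x => ?_⟩
    by_cases hxa : x = a
    · subst hxa; simp [h, hab]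
    by_cases hxb : x = b
    · subst hxb; simp [h', Ne.symm hab]
    simp [hz x hxa hxb, hxa, hxb]
  · refine ⟨b, a, hab.symm, funext fun x => ?_⟩
    by_cases hxa : x = a
    · subst hxa; simp [h, hab]
    by_cases hxb : x = b
    · subst hxb; simp [h', Ne.symm hab]
    simp [hz x hxa hxb, hxa, hxb]
  · rw [h, h'] at hsum; linarith

theorem single_sub_single_inner [DecidableEq X] (a b a' b' : X) :
    ∑ x, (Pi.single a (1 : ℤ) - Pi.single b 1 : X → ℤ) x *
        (Pi.single a' (1 : ℤ) - Pi.single b' 1 : X → ℤ) x =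
      (if a = a' then 1 else 0) - (if a = b' then 1 else 0) - (if b = a' then 1 else 0) +
        (if b = b' then 1 else 0) := by
  simp only [Pi.sub_apply, mul_sub, Finset.sum_sub_distrib, Pi.single_apply,
    mul_ite, mul_one, mul_zero, Finset.sum_ite_eq', Finset.mem_univ, if_true]
  simp only [eq_comm (a := a'), eq_comm (a := b')]
  split_ifs <;> omega

/-- **The exceptional configuration**: vectors with Gram matrix `e J + I`, orthogonal to a
positive weight, differ from a common vector by signed unit vectors. -/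
theorem exists_exceptional {Ω : Type*} [Fintype Ω] [DecidableEq Ω] [DecidableEq X] [Nontrivial Ω]
    (e : ℤ) (c : Ω → X → ℤ)
    (hgram : ∀ i j, ∑ x, c i x * c j x = e + if i = j then 1 else 0) {D : X → ℤ}
    (hD : ∀ x, 0 < D x) (horth : ∀ i, ∑ x, D x * c i x = 0) :
    ∃ (w : X → ℤ) (δ : ℤ) (f : Ω → X) (a : ℤ), (δ = 1 ∨ δ = -1) ∧ Function.Injective f ∧
      (∀ i x, c i x = w x + if x = f i then δ else 0) ∧ (∀ i, w (f i) = a) ∧
      ∑ x, w x ^ 2 + 2 * δ * a = e := by
  obtain ⟨i₀⟩ := (inferInstance : Nonempty Ω)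
  set d : Ω → X → ℤ := fun i x => c i x - c i₀ x with hd
  have hdd : ∀ i j, ∑ x, d i x * d j x =
      (if i = j then 1 else 0) - (if i = i₀ then 1 else 0) - (if i₀ = j then 1 else 0) + 1 := by
    intro i j
    simp only [hd, sub_mul, mul_sub, Finset.sum_sub_distrib, hgram, if_true]
    split_ifs <;> omega
  have hdiff : ∀ i, i ≠ i₀ → ∃ a b, a ≠ b ∧ d i = Pi.single a 1 - Pi.single b 1 := by
    intro i hi
    refine eq_diff_of_norm_two hD ?_ ?_
    · simp only [hd, mul_sub, Finset.sum_sub_distrib, horth, sub_zero]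
    · simp only [pow_two, hdd, if_neg hi, if_neg (Ne.symm hi), if_true]
      norm_num
  choose A B hAB hdAB using hdiff
  have hip : ∀ i j (hi : i ≠ i₀) (hj : j ≠ i₀), i ≠ j →
      (A i hi = A j hj ∧ B i hi ≠ B j hj) ∨ (A i hi ≠ A j hj ∧ B i hi = B j hj) := by
    intro i j hi hj hij
    have h1 := hdd i j
    rw [hdAB i hi, hdAB j hj, single_sub_single_inner, if_neg hij, if_neg hi,
      if_neg (Ne.symm hj)] at h1
    have a1 := hAB i hi
    have a2 := hAB j hj
    by_cases h3 : A i hi = A j hj <;> by_cases h4 : B i hi = B j hj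
    · rw [if_pos h3, if_pos h4, if_neg (fun h => a2 (h3 ▸ h)),
        if_neg (fun h => a1 (h3.trans h.symm))] at h1
      omega
    · exact Or.inl ⟨h3, h4⟩
    · exact Or.inr ⟨h3, h4⟩
    · rw [if_neg h3, if_neg h4] at h1
      split_ifs at h1 <;> omega
  obtain ⟨i₁, hi₁⟩ := exists_ne i₀
  -- all differences share the first entry or all share the second
  have hmain : (∀ i hi, B i hi = B i₁ hi₁) ∨ (∀ i hi, A i hi = A i₁ hi₁) := by
    by_contra hcon
    push Not at hcon
    obtain ⟨⟨k, hk, hkB⟩, ⟨l, hl, hlA⟩⟩ := hcon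
    have hk1 : i₁ ≠ k := fun h => hkB (by subst h; rfl)
    have hl1 : i₁ ≠ l := fun h => hlA (by subst h; rfl)
    rcases hip i₁ k hi₁ hk hk1 with ⟨e1, -⟩ | ⟨-, e1⟩
    · rcases hip i₁ l hi₁ hl hl1 with ⟨e2, -⟩ | ⟨-, e2⟩
      · exact hlA e2.symm
      · have hkl : k ≠ l := fun h => hlA (by subst h; exact e1.symm)
        rcases hip k l hk hl hkl with ⟨e3, -⟩ | ⟨-, e3⟩
        · exact hlA ((e1.trans e3).symm)
        · exact hkB (e3.trans e2.symm)
    · exact hkB e1.symm
  have key : ∃ (δ : ℤ) (w : X → ℤ) (f : Ω → X), (δ = 1 ∨ δ = -1) ∧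
      ∀ i x, c i x = w x + if x = f i then δ else 0 := by
    rcases hmain with hB | hA
    · refine ⟨1, fun x => c i₀ x - (Pi.single (B i₁ hi₁) (1 : ℤ) : X → ℤ) x,
        fun i => if hi : i = i₀ then B i₁ hi₁ else A i hi, Or.inl rfl, fun i x => ?_⟩
      by_cases hi : i = i₀
      · subst hi; simp only [dite_true, Pi.single_apply]; split_ifs <;> omega
      · have h1 := congrFun (hdAB i hi) x
        simp only [hd, Pi.sub_apply, Pi.single_apply, hB i hi] at h1
        simp only [dif_neg hi, Pi.single_apply]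
        omega
    · refine ⟨-1, fun x => c i₀ x + (Pi.single (A i₁ hi₁) (1 : ℤ) : X → ℤ) x,
        fun i => if hi : i = i₀ then A i₁ hi₁ else B i hi, Or.inr rfl, fun i x => ?_⟩
      by_cases hi : i = i₀
      · subst hi; simp only [dite_true, Pi.single_apply]; split_ifs <;> omega
      · have h1 := congrFun (hdAB i hi) x
        simp only [hd, Pi.sub_apply, Pi.single_apply, hA i hi] at h1
        simp only [dif_neg hi, Pi.single_apply]
        split_ifs at h1 ⊢ <;> omega
  obtain ⟨δ, w, f, hδ, hc⟩ := key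
  have hinj : Function.Injective f := by
    intro i j hij
    by_contra hne
    have h1 := hgram i i
    have h2 := hgram i j
    rw [if_pos rfl] at h1
    rw [if_neg hne] at h2
    simp only [hc, hij] at h1 h2
    omega
  have hδ2 : δ * δ = 1 := by rcases hδ with rfl | rfl <;> rfl
  have hnorm : ∀ i, ∑ x, w x ^ 2 + 2 * δ * w (f i) = e := by
    intro i
    have h1 := hgram i i
    simp only [hc, if_pos, add_mul, mul_add, Finset.sum_add_distrib, mul_ite, ite_mul, mul_zero,
      zero_mul, Finset.sum_ite_eq', Finset.mem_univ, hδ2] at h1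
    simp only [pow_two]
    linarith [mul_comm δ (w (f i))]
  refine ⟨w, δ, f, w (f i₀), hδ, hinj, hc, fun i => ?_, hnorm i₀⟩
  have h1 := hnorm i
  rw [← hnorm i₀] at h1
  rcases hδ with rfl | rfl <;> linarith

end Cfsg.Agent.DefectOne
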