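import Cfsg.Agent.Lib.DefectOne.Vectors
import Cfsg.Agent.Lib.Blocks.ThirdMain
import Cfsg.Agent.Lib.Blocks.PPrimeNormal
import Cfsg.Agent.Lib.Char.KernelSum
import Cfsg.Agent.Lib.Char.Linear
import Cfsg.Agent.Lib.Transfer.Burnside
import Cfsg.Agent.Lib.PCore.Basic

/-!
# The principal block for an abelian Sylow subgroup with a free normalizer action

`P` is an abelian Sylow `p`-subgroup and `C_G(y) ∩ N_G(P) = C_G(P)` for `1 ≠ y ∈ P`. The
coordinates `cC P χ l = ⟨χ_P, 1⟩ - ⟨χ_P, l⟩` of the principal block have Gram matrix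
`m J + I` on the nontrivial linear characters of `P` modulo `N_G(P)`.
-/

set_option linter.style.haveILetI false
set_option linter.unusedSectionVars false

namespace Cfsg.Agent.DefectOne

open Cfsg Cfsg.Agent
open scoped ComplexConjugate Classical

universe u

variable {G : Type u} [Group G] [Fintype G] {p : ℕ} [hp : Fact p.Prime]

/-- The hypothesis: `P` abelian, and `N_G(P) / C_G(P)` acts freely on `P`. -/
structure FreeData (P : Sylow p G) : Prop where
  comm : IsMulCommutative P
  free : ∀ y : G, y ∈ (P : Subgroup G) → y ≠ 1 →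
    Subgroup.centralizer ({y} : Set G) ⊓ Subgroup.normalizer ((P : Subgroup G) : Set G) =
      Subgroup.centralizer ((P : Subgroup G) : Set G)

variable {P : Sylow p G}

theorem FreeData.mul_comm (h : FreeData P) {a b : G} (ha : a ∈ (P : Subgroup G))
    (hb : b ∈ (P : Subgroup G)) : a * b = b * a :=
  congrArg Subtype.val (h.comm.is_comm.comm (⟨a, ha⟩ : (P : Subgroup G)) ⟨b, hb⟩)

/-- Centralizers of nontrivial elements of `P` have normal `p`-complements. -/
theorem FreeData.hasNormalPComplement (h : FreeData P) {y : G} (hy : y ∈ (P : Subgroup G))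
    (hy1 : y ≠ 1) : HasNormalPComplement p (Subgroup.centralizer ({y} : Set G)) := by
  have hPC : (P : Subgroup G) ≤ Subgroup.centralizer ({y} : Set G) := fun x hx =>
    Subgroup.mem_centralizer_singleton_iff.2 (h.mul_comm hx hy)
  refine Transfer.hasNormalPComplement_of_normalizer_le_centralizer (P.subtype hPC) fun g hg => ?_
  have hgN : (g : G) ∈ Subgroup.normalizer ((P : Subgroup G) : Set G) := by
    refine Subgroup.mem_normalizer_iff.2 fun x => ⟨fun hx => ?_, fun hx => ?_⟩
    · exact (Subgroup.mem_normalizer_iff.1 hg ⟨x, hPC hx⟩).1 hx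
    · have hxC : x ∈ Subgroup.centralizer ({y} : Set G) := by
        have := (Subgroup.centralizer ({y} : Set G)).mul_mem
          ((Subgroup.centralizer ({y} : Set G)).mul_mem (inv_mem g.2) (hPC hx)) g.2
        simpa [mul_assoc] using this
      exact (Subgroup.mem_normalizer_iff.1 hg ⟨x, hxC⟩).2 hx
  have hgC : (g : G) ∈ Subgroup.centralizer ((P : Subgroup G) : Set G) :=
    h.free y hy hy1 ▸ Subgroup.mem_inf.2 ⟨g.2, hgN⟩
  refine Subgroup.mem_centralizer_iff.2 fun x hx => Subtype.ext ?_
  exact Subgroup.mem_centralizer_iff.1 hgC x hx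

theorem index_pPrimeCore_of_hasNormalPComplement {H : Type u} [Group H] [Finite H]
    (h : HasNormalPComplement p H) :
    (pPrimeCore p H).index = p ^ (Nat.card H).factorization p ∧
      ∀ g : H, ¬ p ∣ orderOf g → g ∈ pPrimeCore p H := by
  obtain ⟨Q, K, hK, hc⟩ := h
  have hcop : Nat.Coprime (Nat.card K) p :=
    Nat.Coprime.symm ((Nat.Prime.coprime_iff_not_dvd hp.out).2 fun hd => by
      have h1 := Q.not_dvd_index
      rw [hc.index_eq_card] at h1
      exact h1 hd)
  have hKle : K ≤ pPrimeCore p H := le_sSup ⟨hK, hcop⟩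
  have hidx : K.index = p ^ (Nat.card H).factorization p := by
    rw [hc.symm.index_eq_card, Q.card_eq_multiplicity]
  have hle : pPrimeCore p H ≤ K := by
    intro g hg
    have h1 : orderOf (g : H ⧸ K) ∣ orderOf g := orderOf_map_dvd (QuotientGroup.mk' K) g
    have h2 : orderOf (g : H ⧸ K) ∣ p ^ (Nat.card H).factorization p := by
      rw [← hidx, Subgroup.index_eq_card]; exact orderOf_dvd_natCard _
    have h3 : Nat.Coprime (orderOf g) p :=
      Nat.Coprime.coprime_dvd_left (Subgroup.orderOf_dvd_natCard _ hg) PCore.coprime_card_pPrimeCore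
    exact (QuotientGroup.eq_one_iff g).1 (orderOf_eq_one_iff.1
      (Nat.eq_one_of_dvd_coprimes (Nat.Coprime.pow_right _ h3) h1 h2))
  refine ⟨by rw [le_antisymm hle hKle]; exact hidx, fun g hg => hKle ?_⟩
  have h1 : orderOf (g : H ⧸ K) ∣ orderOf g := orderOf_map_dvd (QuotientGroup.mk' K) g
  have h2 : orderOf (g : H ⧸ K) ∣ p ^ (Nat.card H).factorization p := by
    rw [← hidx, Subgroup.index_eq_card]; exact orderOf_dvd_natCard _
  exact (QuotientGroup.eq_one_iff g).1 (orderOf_eq_one_iff.1
    (Nat.eq_one_of_dvd_coprimes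
      (Nat.Coprime.pow_right _ ((Nat.Prime.coprime_iff_not_dvd hp.out).2 hg).symm) h1 h2))

theorem FreeData.exists_pow_orderOf (_h : FreeData P) {y : G} (hy : y ∈ (P : Subgroup G)) :
    ∃ k, orderOf y = p ^ k := by
  obtain ⟨k, hk⟩ := IsPGroup.iff_orderOf.1 P.isPGroup' ⟨y, hy⟩
  exact ⟨k, by rwa [Subgroup.orderOf_mk] at hk⟩

variable {M : Ideal AlgInt} [M.IsMaximal]

/-- Characters in the principal block are constant on the `p`-sections of `P`. -/
theorem FreeData.apply_section (h : FreeData P) (hpM : (p : AlgInt) ∈ M) {χ : IrrCharacter G}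
    (hχ : χ ∈ principalBlock M G) {z y : G} (hz : IsPPart p z y) (hy : y ∈ (P : Subgroup G))
    (hy1 : y ≠ 1) : χ.1 z = χ.1 y := by
  obtain ⟨s, rfl, hs⟩ := Blocks.exists_regular_factor hz
  refine Blocks.principal_apply_mul_core hpM (h.exists_pow_orderOf hy) ?_ hχ
  exact Subgroup.mem_map_of_mem _
    ((index_pPrimeCore_of_hasNormalPComplement (h.hasNormalPComplement hy hy1)).2 s hs)

theorem FreeData.sum_principal_sq (h : FreeData P) (hpM : (p : AlgInt) ∈ M) {y : G}
    (hy : y ∈ (P : Subgroup G)) (hy1 : y ≠ 1) :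
    ∑ χ ∈ Finset.univ.filter (· ∈ principalBlock M G), χ.1 y * conj (χ.1 y) =
      (Nat.card P : ℂ) := by
  set C := Subgroup.centralizer ({y} : Set G) with hC
  haveI := Fintype.ofFinite C
  have hx := h.exists_pow_orderOf hy
  have h1 : IsPRegular p (1 : C) := by simp [IsPRegular, hp.out.ne_one]
  have := Blocks.second_main_orth hpM hx (Blocks.isPBlock_principalBlock hpM (G := G)) h1 h1
  simp only [OneMemClass.coe_one, mul_one] at this
  rw [this, Blocks.inducingSet_principalBlock hpM hx]
  obtain ⟨hidx, -⟩ := index_pPrimeCore_of_hasNormalPComplement (h.hasNormalPComplement hy hy1)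
  rw [Finset.sum_congr (s₂ := Finset.univ.filter
      fun η : IrrCharacter C => Char.TrivOn (pPrimeCore p C) η.1) (Finset.filter_congr fun η _ => by
      rw [Blocks.principalBlock_eq_of_index hpM ⟨_, hidx⟩]; rfl) fun η _ =>
      show η.1 1 * conj (η.1 1) = ((charDegree η.1 ^ 2 : ℕ) : ℂ) by
        rw [← Char.charDegree_cast, map_natCast]; push_cast; ring,
    ← Nat.cast_sum, Char.sum_trivOn_degree_sq, hidx]
  congr 1
  have hPC : (P : Subgroup G) ≤ C := fun x hx =>
    Subgroup.mem_centralizer_singleton_iff.2 (h.mul_comm hx hy)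
  rw [← (P.subtype hPC).card_eq_multiplicity]
  exact Nat.card_congr (Subgroup.subgroupOfEquivOfLe hPC).toEquiv

theorem sum_block_conj (hpM : (p : AlgInt) ∈ M) {g h x y : G} (hg : IsPPart p g x)
    (hh : IsPPart p h y) (hxy : ¬ IsConj x y) :
    ∑ χ ∈ Finset.univ.filter (· ∈ principalBlock M G), χ.1 g * conj (χ.1 h) = 0 :=
  Blocks.block_orthogonality hpM hg hh hxy (Blocks.isPBlock_principalBlock hpM (G := G))

theorem FreeData.isPPart_self (h : FreeData P) {y : G} (hy : y ∈ (P : Subgroup G)) :
    IsPPart p y y :=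
  ⟨1, mul_one _, Commute.one_right _, h.exists_pow_orderOf hy, by simp [hp.out.ne_one]⟩

theorem FreeData.column_orth (h : FreeData P) (hpM : (p : AlgInt) ∈ M) {y y' : G}
    (hy : y ∈ (P : Subgroup G)) (hy1 : y ≠ 1) (hy' : y' ∈ (P : Subgroup G)) :
    ∑ χ ∈ Finset.univ.filter (· ∈ principalBlock M G), χ.1 y * conj (χ.1 y') =
      if IsConj y y' then (Nat.card P : ℂ) else 0 := by
  split_ifs with hc
  · obtain ⟨a, rfl⟩ := isConj_iff.1 hc
    rw [← h.sum_principal_sq hpM hy hy1]
    exact Finset.sum_congr rfl fun χ _ => by rw [Blocks.irr_classFun χ]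
  · exact sum_block_conj hpM (h.isPPart_self hy) (h.isPPart_self hy') hc

/-- `⟨χ_P, 1⟩ - ⟨χ_P, l⟩` as a complex number. -/
noncomputable def cC (P : Sylow p G) (χ : IrrCharacter G) (l : IrrCharacter (P : Subgroup G)) : ℂ :=
  classInner (fun w : (P : Subgroup G) => χ.1 w) (Char.trivialChar (P : Subgroup G)).1 -
    classInner (fun w : (P : Subgroup G) => χ.1 w) l.1

theorem exists_int_cC (χ : IrrCharacter G) (l : IrrCharacter (P : Subgroup G)) :
    ∃ z : ℤ, cC P χ l = z := by
  obtain ⟨a, ha⟩ := Char.IsCharacter.exists_nat_classInner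
    (Char.IsCharacter.restrict (Char.irr_isCharacter χ) (P : Subgroup G))
    (Char.irr_isCharacter (Char.trivialChar (P : Subgroup G)))
  obtain ⟨b, hb⟩ := Char.IsCharacter.exists_nat_classInner
    (Char.IsCharacter.restrict (Char.irr_isCharacter χ) (P : Subgroup G)) (Char.irr_isCharacter l)
  exact ⟨(a : ℤ) - b, by unfold cC; rw [ha, hb]; push_cast; rfl⟩

/-- The integer coordinate. -/
noncomputable def cI (P : Sylow p G) (χ : IrrCharacter G) (l : IrrCharacter (P : Subgroup G)) : ℤ :=
  (exists_int_cC χ l).choose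

theorem cI_cast (χ : IrrCharacter G) (l : IrrCharacter (P : Subgroup G)) :
    (cI P χ l : ℂ) = cC P χ l :=
  ((exists_int_cC χ l).choose_spec).symm

theorem cI_trivial (χ : IrrCharacter G) : cI P χ (Char.trivialChar _) = 0 := by
  rw [← Int.cast_inj (α := ℂ), cI_cast, cC, sub_self, Int.cast_zero]

theorem FreeData.linear (h : FreeData P) (l : IrrCharacter (P : Subgroup G)) : l.1 1 = 1 :=
  Char.apply_one_of_comm h.comm.is_comm.comm l

theorem cC_eq (χ : IrrCharacter G) (l : IrrCharacter (P : Subgroup G)) :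
    cC P χ l = (Nat.card P : ℂ)⁻¹ *
      ∑ w : (P : Subgroup G), χ.1 w * (1 - conj (l.1 w)) := by
  simp only [cC, classInner, mul_sub, Finset.sum_sub_distrib]
  rw [show (Char.trivialChar (P : Subgroup G)).1 = fun _ => (1 : ℂ) from rfl]
  simp

theorem cI_eq_conj (χ : IrrCharacter G) (l : IrrCharacter (P : Subgroup G)) :
    (cI P χ l : ℂ) = (Nat.card P : ℂ)⁻¹ *
      ∑ w : (P : Subgroup G), conj (χ.1 w) * (1 - l.1 w) := by
  have := congrArg conj (cI_cast (P := P) χ l)
  rw [map_intCast, cC_eq, map_mul, map_inv₀, map_natCast, map_sum] at this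
  rw [this]
  simp

/-- `χ` on `P - 1` from the coordinates. -/
theorem FreeData.apply_eq_neg_sum (h : FreeData P) (χ : IrrCharacter G) {y : (P : Subgroup G)}
    (hy1 : y ≠ 1) : χ.1 y = -∑ l : IrrCharacter (P : Subgroup G), (cI P χ l : ℂ) * l.1 y := by
  have h1 := congrFun (Char.eq_sum_classInner_smul (G := (P : Subgroup G))
    (f := fun w : (P : Subgroup G) => χ.1 w) (Char.IsCharacter.isClassFunction
      (Char.IsCharacter.restrict (Char.irr_isCharacter χ) (P : Subgroup G)))) y
  simp only [Finset.sum_apply, Pi.smul_apply, smul_eq_mul] at h1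
  have h2 : ∑ l : IrrCharacter (P : Subgroup G), l.1 y = 0 := by
    have := Char.sum_irr_mul_conj y (1 : (P : Subgroup G))
    rw [if_neg (by simpa [isConj_one_left, isConj_one_right] using hy1)] at this
    simpa [h.linear] using this
  simp only [cI_cast, cC, sub_mul, Finset.sum_sub_distrib, ← Finset.mul_sum, h2, mul_zero,
    zero_sub, neg_neg]
  exact h1

/-- The coordinates are orthogonal to the values on `p`-regular elements. -/
theorem FreeData.sum_cI_mul (h : FreeData P) (hpM : (p : AlgInt) ∈ M)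
    (l : IrrCharacter (P : Subgroup G)) {g : G} (hg : IsPRegular p g) :
    ∑ χ ∈ Finset.univ.filter (· ∈ principalBlock M G), (cI P χ l : ℂ) * χ.1 g = 0 := by
  simp only [cI_eq_conj, mul_assoc, Finset.sum_mul, ← Finset.mul_sum]
  rw [Finset.sum_comm, Finset.sum_eq_zero, mul_zero]
  intro w _
  by_cases hw : w = 1
  · subst hw; simp [h.linear]
  · have := sum_block_conj hpM (g := g) (x := 1)
      ⟨g, one_mul _, Commute.one_left _, ⟨0, by simp⟩, hg⟩
      (h.isPPart_self w.2) (fun hc => hw (Subtype.ext (isConj_one_right.1 hc)))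
    rw [show (0 : ℂ) = (1 - l.1 w) * 0 by ring, ← this, Finset.mul_sum]
    exact Finset.sum_congr rfl fun χ _ => by ring

variable (P) in
/-- `μ` is conjugate to `l` under `N_G(P)`. -/
def NConj (l μ : IrrCharacter (P : Subgroup G)) : Prop :=
  ∃ n ∈ Subgroup.normalizer ((P : Subgroup G) : Set G),
    ∀ w w' : (P : Subgroup G), (w' : G) = n * w * n⁻¹ → μ.1 w' = l.1 w

variable (P) in
/-- Conjugation by an element of the normalizer. -/
noncomputable def nAct (n : Subgroup.normalizer ((P : Subgroup G) : Set G)) :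
    (P : Subgroup G) ≃* (P : Subgroup G) where
  toFun w := ⟨n * w * (n : G)⁻¹, (Subgroup.mem_normalizer_iff.1 n.2 _).1 w.2⟩
  invFun w := ⟨(n : G)⁻¹ * w * n, (Subgroup.mem_normalizer_iff.1 n.2 _).2
    (by simp [mul_assoc])⟩
  left_inv w := Subtype.ext (by simp [mul_assoc])
  right_inv w := Subtype.ext (by simp [mul_assoc])
  map_mul' a b := Subtype.ext (by simp [mul_assoc])

theorem nAct_coe (n : Subgroup.normalizer ((P : Subgroup G) : Set G)) (w : (P : Subgroup G)) :
    (nAct P n w : G) = n * w * (n : G)⁻¹ := rfl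

/-- `μ` moved by `n`. -/
noncomputable def nChar (μ : IrrCharacter (P : Subgroup G))
    (n : Subgroup.normalizer ((P : Subgroup G) : Set G)) : IrrCharacter (P : Subgroup G) :=
  ⟨μ.1 ∘ nAct P n, Char.IsIrrCharacter.comp_surjective μ.2 (nAct P n).toMonoidHom
    (nAct P n).surjective⟩

theorem nChar_apply (μ : IrrCharacter (P : Subgroup G))
    (n : Subgroup.normalizer ((P : Subgroup G) : Set G)) (w : (P : Subgroup G)) :
    (nChar μ n).1 w = μ.1 (nAct P n w) := rfl

theorem nConj_iff {l μ : IrrCharacter (P : Subgroup G)} :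
    NConj P l μ ↔ ∃ n, nChar μ n = l := by
  constructor
  · rintro ⟨n, hn, h⟩
    exact ⟨⟨n, hn⟩, Subtype.ext (funext fun w => h w _ rfl)⟩
  · rintro ⟨n, rfl⟩
    exact ⟨n, n.2, fun w w' hw => congrArg μ.1 (Subtype.ext hw)⟩

theorem nChar_one (μ : IrrCharacter (P : Subgroup G)) : nChar μ 1 = μ := by
  refine Subtype.ext (funext fun w => ?_)
  rw [nChar_apply]
  exact congrArg μ.1 (Subtype.ext (by simp [nAct_coe]))

theorem nChar_mul (μ : IrrCharacter (P : Subgroup G))
    (a b : Subgroup.normalizer ((P : Subgroup G) : Set G)) :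
    nChar (nChar μ a) b = nChar μ (a * b) := by
  refine Subtype.ext (funext fun w => ?_)
  simp only [nChar_apply]
  exact congrArg μ.1 (Subtype.ext (by simp [nAct_coe, mul_assoc]))

theorem nConj_equivalence : Equivalence (NConj P) where
  refl l := nConj_iff.2 ⟨1, nChar_one l⟩
  symm {l μ} h := by
    obtain ⟨n, rfl⟩ := nConj_iff.1 h
    exact nConj_iff.2 ⟨n⁻¹, by rw [nChar_mul, mul_inv_cancel, nChar_one]⟩
  trans {l μ ν} h h' := by
    obtain ⟨n, rfl⟩ := nConj_iff.1 h
    obtain ⟨n', rfl⟩ := nConj_iff.1 h'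
    exact nConj_iff.2 ⟨n' * n, (nChar_mul ν n' n).symm⟩

theorem cI_nChar (χ : IrrCharacter G) (μ : IrrCharacter (P : Subgroup G))
    (n : Subgroup.normalizer ((P : Subgroup G) : Set G)) :
    cI P χ (nChar μ n) = cI P χ μ := by
  rw [← Int.cast_inj (α := ℂ), cI_cast, cI_cast, cC_eq, cC_eq]
  congr 1
  refine Fintype.sum_equiv (nAct P n).toEquiv _ _ fun w => ?_
  simp only [MulEquiv.toEquiv_eq_coe, EquivLike.coe_coe, nAct_coe, nChar_apply]
  rw [Blocks.irr_classFun χ (w : G) (n : G)]

theorem cI_eq_of_nConj (χ : IrrCharacter G) {l μ : IrrCharacter (P : Subgroup G)}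
    (h : NConj P l μ) : cI P χ l = cI P χ μ := by
  obtain ⟨n, rfl⟩ := nConj_iff.1 h
  exact cI_nChar χ μ n

theorem nChar_eq_trivial_iff {μ : IrrCharacter (P : Subgroup G)}
    {n : Subgroup.normalizer ((P : Subgroup G) : Set G)} :
    nChar μ n = Char.trivialChar _ ↔ μ = Char.trivialChar _ := by
  constructor
  · intro h
    refine Subtype.ext (funext fun w => ?_)
    have := congrFun (congrArg Subtype.val h) ((nAct P n).symm w)
    rwa [nChar_apply, MulEquiv.apply_symm_apply] at this
  · rintro rfl; rfl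

/-- A nontrivial character is fixed only by `C_G(P)`. -/
theorem FreeData.mem_centralizer_of_nChar_eq (h : FreeData P) {μ : IrrCharacter (P : Subgroup G)}
    (hμ : μ ≠ Char.trivialChar _) {n : Subgroup.normalizer ((P : Subgroup G) : Set G)}
    (hn : nChar μ n = μ) : (n : G) ∈ Subgroup.centralizer ((P : Subgroup G) : Set G) := by
  by_contra hnC
  refine hμ (Subtype.ext (funext fun w => ?_))
  obtain ⟨lam, hlam⟩ := Char.IsCharacter.exists_monoidHom (Char.irr_isCharacter μ) (h.linear μ)
  have hinj : Function.Injective fun v : (P : Subgroup G) => v⁻¹ * nAct P n v := by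
    intro a b hab
    have h1 : nAct P n (a * b⁻¹) = a * b⁻¹ := by
      have ha : nAct P n a = a * (a⁻¹ * nAct P n a) := (mul_inv_cancel_left _ _).symm
      have hb : nAct P n b = b * (b⁻¹ * nAct P n b) := (mul_inv_cancel_left _ _).symm
      rw [map_mul, map_inv, ha, hb, show a⁻¹ * nAct P n a = b⁻¹ * nAct P n b from hab,
        _root_.mul_inv_rev, mul_assoc, mul_inv_cancel_left]
    by_contra hne
    refine hnC ((h.free _ (a * b⁻¹).2 fun he => hne (mul_inv_eq_one.1 (Subtype.ext he))) ▸
      Subgroup.mem_inf.2 ⟨Subgroup.mem_centralizer_singleton_iff.2 ?_, n.2⟩)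
    have h2 := congrArg Subtype.val h1
    rw [nAct_coe] at h2
    exact mul_inv_eq_iff_eq_mul.1 h2
  obtain ⟨v, hv⟩ := (Finite.injective_iff_surjective.1 hinj) w
  simp only at hv
  have hfix := congrFun (congrArg Subtype.val hn) v
  rw [nChar_apply] at hfix
  rw [← hlam] at hfix
  have hl0 : lam v ≠ 0 := fun h0 => by
    have := congrArg lam (mul_inv_cancel v)
    rw [map_mul, map_one, h0, zero_mul] at this
    exact zero_ne_one this
  rw [show (Char.trivialChar (P : Subgroup G)).1 w = 1 from rfl, ← hlam, ← hv, map_mul, hfix,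
    ← map_mul, inv_mul_cancel, map_one]

/-- The fibres of `n ↦ nChar μ n` have the order of `C_G(P)`. -/
theorem FreeData.card_fibre (h : FreeData P) {l μ : IrrCharacter (P : Subgroup G)}
    (hμ : μ ≠ Char.trivialChar _) :
    Nat.card {n : Subgroup.normalizer ((P : Subgroup G) : Set G) // nChar μ n = l} =
      if NConj P l μ then Nat.card (Subgroup.centralizer ((P : Subgroup G) : Set G)) else 0 := by
  split_ifs with hc
  · obtain ⟨n₀, hn₀⟩ := nConj_iff.1 hc
    have hfix : ∀ c : Subgroup.centralizer ((P : Subgroup G) : Set G),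
        nChar μ (⟨(c : G), Subgroup.centralizer_le_normalizer _ c.2⟩ * n₀) = l := by
      intro c
      rw [← nChar_mul, show nChar μ ⟨(c : G), _⟩ = μ from Subtype.ext (funext fun w => by
        rw [nChar_apply]
        refine congrArg μ.1 (Subtype.ext ?_)
        rw [nAct_coe]
        exact mul_inv_eq_iff_eq_mul.2 (Subgroup.mem_centralizer_iff.1 c.2 w w.2).symm), hn₀]
    refine (Nat.card_congr (Equiv.ofBijective (fun c => ⟨_, hfix c⟩) ⟨?_, ?_⟩)).symm
    · intro a b hab
      exact Subtype.ext (congrArg Subtype.val (mul_right_cancel (Subtype.ext_iff.1 hab)) :)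
    · rintro ⟨n, hn⟩
      refine ⟨⟨((n * n₀⁻¹ : Subgroup.normalizer ((P : Subgroup G) : Set G)) : G),
        h.mem_centralizer_of_nChar_eq hμ ?_⟩, Subtype.ext (inv_mul_cancel_right n n₀)⟩
      rw [← nChar_mul, hn, ← hn₀, nChar_mul, mul_inv_cancel, nChar_one]
  · haveI : IsEmpty {n : Subgroup.normalizer ((P : Subgroup G) : Set G) // nChar μ n = l} :=
      ⟨fun x => hc (nConj_iff.2 ⟨x.1, x.2⟩)⟩
    exact Nat.card_eq_zero.2 (Or.inl this)

theorem sum_linear_inner {H : Type u} [Group H] [Fintype H] (l ν : IrrCharacter H)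
    (hl : l ≠ Char.trivialChar H) (hν : ν ≠ Char.trivialChar H) :
    ∑ w : H, (1 - l.1 w) * (1 - conj (ν.1 w)) =
      (Nat.card H : ℂ) * (1 + if l = ν then 1 else 0) := by
  have h1 := Char.sum_apply_eq_zero hl
  have h2 : ∑ w : H, conj (ν.1 w) = 0 := by
    rw [← map_sum, Char.sum_apply_eq_zero hν, map_zero]
  have h3 : ∑ w : H, l.1 w * conj (ν.1 w) =
      (Nat.card H : ℂ) * if l = ν then 1 else 0 := by
    have : classInner l.1 ν.1 = if l = ν then 1 else 0 := by
      split_ifs with he
      · subst he; exact Char.classInner_irr_self l.2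
      · exact Char.classInner_irr_of_ne l.2 ν.2 fun hh => he (Subtype.ext hh)
    rw [← this, classInner]
    field_simp [Char.card_ne_zero (G := H)]
  simp only [sub_mul, mul_sub, one_mul, mul_one, Finset.sum_sub_distrib, h1, h2, h3]
  simp [Nat.card_eq_fintype_card]
  split_ifs <;> ring

theorem FreeData.sum_conj_eq (h : FreeData P) {w : (P : Subgroup G)} (hw : w ≠ 1)
    (F : ↥(P : Subgroup G) → ℂ) :
    (Nat.card (Subgroup.centralizer ((P : Subgroup G) : Set G)) : ℂ) *
        ∑ w' : (P : Subgroup G), (if IsConj (w : G) (w' : G) then F w' else 0) =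
      ∑ n : Subgroup.normalizer ((P : Subgroup G) : Set G), F (nAct P n w) := by
  rw [← Finset.sum_fiberwise Finset.univ
    (fun n : Subgroup.normalizer ((P : Subgroup G) : Set G) => nAct P n w)
    (fun n => F (nAct P n w)), Finset.mul_sum]
  refine Finset.sum_congr rfl fun w' _ => ?_
  rw [Finset.sum_congr rfl (g := fun _ => F w') fun n hn => by rw [(Finset.mem_filter.1 hn).2],
    Finset.sum_const, nsmul_eq_mul]
  split_ifs with hc
  · congr 1
    norm_cast
    obtain ⟨a, ha⟩ := isConj_iff.1 hc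
    obtain ⟨g, hg, he⟩ := Transfer.controlsElementFusion_normalizer_of_isMulCommutative P h.comm
      w w.2 a (ha ▸ w'.2)
    rw [ha] at he
    rw [Nat.card_eq_fintype_card, ← Finset.card_univ]
    refine Finset.card_bij (fun c _ => ⟨g, hg⟩ * ⟨(c : G), Subgroup.centralizer_le_normalizer _ c.2⟩)
      ?_ ?_ ?_
    · intro c _
      refine Finset.mem_filter.2 ⟨Finset.mem_univ _, Subtype.ext ?_⟩
      rw [nAct_coe, Subgroup.coe_mul, ← he]
      simp only [mul_assoc, mul_inv_rev]
      congr 1
      rw [← mul_assoc, ← Subgroup.mem_centralizer_iff.1 c.2 w w.2]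
      simp [mul_assoc]
    · intro a _ b _ hab
      exact Subtype.ext (congrArg Subtype.val (mul_left_cancel hab) :)
    · intro n hn
      have hn' := congrArg Subtype.val (Finset.mem_filter.1 hn).2
      rw [nAct_coe, ← he] at hn'
      refine ⟨⟨g⁻¹ * n, ?_⟩, Finset.mem_univ _, Subtype.ext (mul_inv_cancel_left g n)⟩
      rw [← h.free w w.2 fun he => hw (Subtype.ext he)]
      refine Subgroup.mem_inf.2 ⟨Subgroup.mem_centralizer_singleton_iff.2 ?_,
        Subgroup.mul_mem _ (inv_mem hg) n.2⟩
      have h3 : (n : G) * w = g * w * g⁻¹ * n := mul_inv_eq_iff_eq_mul.1 hn'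
      rw [mul_assoc, h3]
      group
  · rw [mul_zero, show (Finset.univ.filter fun n : Subgroup.normalizer ((P : Subgroup G) : Set G) =>
        nAct P n w = w') = ∅ from ?_, Finset.card_empty, Nat.cast_zero, zero_mul]
    refine Finset.filter_eq_empty_iff.2 fun n _ hn => hc (isConj_iff.2 ⟨n, ?_⟩)
    rw [← hn, nAct_coe]

/-- The Gram matrix of the coordinates. -/
theorem FreeData.gram (h : FreeData P) (hpM : (p : AlgInt) ∈ M) {m : ℕ}
    (hm : (Subgroup.centralizer ((P : Subgroup G) : Set G)).relIndex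
      (Subgroup.normalizer ((P : Subgroup G) : Set G)) = m)
    {l μ : IrrCharacter (P : Subgroup G)} (hl : l ≠ Char.trivialChar _)
    (hμ : μ ≠ Char.trivialChar _) :
    ∑ χ ∈ Finset.univ.filter (· ∈ principalBlock M G), cI P χ l * cI P χ μ =
      (m : ℤ) + if NConj P l μ then 1 else 0 := by
  set C := Subgroup.centralizer ((P : Subgroup G) : Set G) with hC
  set N := Subgroup.normalizer ((P : Subgroup G) : Set G) with hN
  have hP0 : (Nat.card P : ℂ) ≠ 0 := Nat.cast_ne_zero.2 Nat.card_pos.ne'
  have hC0 : (Nat.card C : ℂ) ≠ 0 := Nat.cast_ne_zero.2 Nat.card_pos.ne'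
  have hNC : (Nat.card N : ℂ) = (Nat.card C : ℂ) * m := by
    rw [← hm, Subgroup.relIndex, ← Nat.cast_mul, ← Nat.card_congr
      (Subgroup.subgroupOfEquivOfLe (Subgroup.centralizer_le_normalizer _)).toEquiv,
      Subgroup.card_mul_index]
  rw [← Int.cast_inj (α := ℂ)]
  push_cast
  have hl' : ∀ χ : IrrCharacter G, (cI P χ l : ℂ) = (Nat.card P : ℂ)⁻¹ *
      ∑ w : (P : Subgroup G), conj (χ.1 w) * (1 - l.1 w) := fun χ => cI_eq_conj χ l
  have hμ' : ∀ χ : IrrCharacter G, (cI P χ μ : ℂ) = (Nat.card P : ℂ)⁻¹ *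
      ∑ w : (P : Subgroup G), χ.1 w * (1 - conj (μ.1 w)) := fun χ => by rw [cI_cast, cC_eq]
  apply mul_left_cancel₀ hC0
  calc (Nat.card C : ℂ) * ∑ χ ∈ Finset.univ.filter (· ∈ principalBlock M G),
        (cI P χ l : ℂ) * (cI P χ μ : ℂ)
      = (Nat.card P : ℂ)⁻¹ * ∑ w : (P : Subgroup G), (1 - l.1 w) *
          ((Nat.card C : ℂ) * ∑ w' : (P : Subgroup G),
            if IsConj (w : G) (w' : G) then 1 - conj (μ.1 w') else 0) := by
        rw [Finset.sum_congr rfl fun χ _ => show (cI P χ l : ℂ) * (cI P χ μ : ℂ) =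
          (Nat.card P : ℂ)⁻¹ * (Nat.card P : ℂ)⁻¹ * ∑ w : (P : Subgroup G),
            ∑ w' : (P : Subgroup G), (1 - l.1 w) * (1 - conj (μ.1 w')) *
              (χ.1 w' * conj (χ.1 w)) by
          rw [hl', hμ', mul_mul_mul_comm, Finset.sum_mul_sum]
          congr 1
          exact Finset.sum_congr rfl fun w _ => Finset.sum_congr rfl fun w' _ => by ring,
          ← Finset.mul_sum, Finset.sum_comm]
        simp only [Finset.sum_comm (s := Finset.univ.filter (· ∈ principalBlock M G)),
          ← Finset.mul_sum]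
        rw [Finset.mul_sum, Finset.mul_sum, Finset.mul_sum]
        refine Finset.sum_congr rfl fun w _ => ?_
        simp only [Finset.mul_sum]
        refine Finset.sum_congr rfl fun w' _ => ?_
        by_cases hw : w = 1
        · subst hw; simp [h.linear]
        by_cases hw' : w' = 1
        · subst hw'; simp [h.linear]
        rw [← Finset.mul_sum, ← Finset.mul_sum, ← Finset.mul_sum,
          h.column_orth hpM w'.2 (fun he => hw' (Subtype.ext he)) w.2]
        by_cases hc : IsConj (w : G) (w' : G)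
        · rw [if_pos hc, if_pos hc.symm]; field_simp
        · rw [if_neg hc, if_neg fun h => hc h.symm]; simp
    _ = (Nat.card P : ℂ)⁻¹ * ∑ n : N, ∑ w : (P : Subgroup G),
          (1 - l.1 w) * (1 - conj ((nChar μ n).1 w)) := by
        congr 1
        rw [Finset.sum_comm]
        refine Finset.sum_congr rfl fun w _ => ?_
        rw [← Finset.mul_sum]
        by_cases hw : w = 1
        · subst hw; simp [h.linear]
        · rw [h.sum_conj_eq hw fun w' => 1 - conj (μ.1 w')]
          rfl
    _ = ∑ n : N, ((1 : ℂ) + if nChar μ n = l then 1 else 0) := by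
        rw [Finset.mul_sum]
        refine Finset.sum_congr rfl fun n _ => ?_
        rw [sum_linear_inner l _ hl (fun he => hμ (nChar_eq_trivial_iff.1 he)), ← mul_assoc,
          inv_mul_cancel₀ hP0, one_mul]
        simp only [eq_comm (a := l)]
    _ = (Nat.card C : ℂ) * ((m : ℂ) + if NConj P l μ then 1 else 0) := by
        rw [Finset.sum_add_distrib, Finset.sum_const, Finset.card_univ, nsmul_eq_mul, mul_one,
          ← Nat.card_eq_fintype_card, hNC, Finset.sum_boole, mul_add]
        congr 1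
        rw [← Fintype.card_subtype, ← Nat.card_eq_fintype_card, h.card_fibre hμ]
        split_ifs <;> simp [hC]

/-- The members of the orbit of `μ`. -/
theorem FreeData.card_orbit (h : FreeData P) {m : ℕ}
    (hm : (Subgroup.centralizer ((P : Subgroup G) : Set G)).relIndex
      (Subgroup.normalizer ((P : Subgroup G) : Set G)) = m)
    {μ : IrrCharacter (P : Subgroup G)} (hμ : μ ≠ Char.trivialChar _) :
    (Finset.univ.filter fun l => NConj P l μ).card = m := by
  set C := Subgroup.centralizer ((P : Subgroup G) : Set G) with hC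
  set N := Subgroup.normalizer ((P : Subgroup G) : Set G) with hN
  have h1 : Nat.card N = ∑ l : IrrCharacter (P : Subgroup G), Nat.card {n // nChar μ n = l} := by
    simp only [Nat.card_eq_fintype_card]
    rw [← Fintype.card_sigma]
    exact Fintype.card_congr (Equiv.sigmaFiberEquiv fun n => nChar μ n).symm
  simp only [h.card_fibre hμ] at h1
  rw [← Finset.sum_filter, Finset.sum_const, smul_eq_mul, ← Subgroup.card_mul_index (C.subgroupOf N),
    Nat.card_congr (Subgroup.subgroupOfEquivOfLe (Subgroup.centralizer_le_normalizer _)).toEquiv,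
    show (C.subgroupOf N).index = m from hm, Nat.mul_comm (Finset.card _)] at h1
  exact (Nat.eq_of_mul_eq_mul_left Nat.card_pos h1).symm

end Cfsg.Agent.DefectOne
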