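import Cfsg.Agent.Lib.DefectOne.PrimeOrder
import Cfsg.Agent.Lib.Char.KernelSum

/-!
# The principal block for a Sylow subgroup of order `p`

Brauer's theorem: the principal block is `X ∪ Y` with `|X| = m = |N_G(P) : C_G(P)|` and
`|Y| = (p - 1) / m`, the members of `X` having the value `±1` on the `p`-singular sections.
-/

set_option linter.style.haveILetI false
set_option linter.unusedSectionVars false

namespace Cfsg.Agent.DefectOne

open Cfsg Cfsg.Agent
open scoped ComplexConjugate Classical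

universe u

variable {G : Type u} [Group G] [Fintype G] {p : ℕ} [hp : Fact p.Prime] {P : Sylow p G}
  {M : Ideal AlgInt} [M.IsMaximal]

/-- The sum of a character over `P` is a multiple of `p`. -/
theorem exists_sum_eq_mul (hP : Nat.card P = p) (χ : IrrCharacter G) :
    ∃ n : ℕ, ∑ y : (P : Subgroup G), χ.1 y = (p : ℂ) * n := by
  obtain ⟨n, hn⟩ := Char.IsCharacter.exists_nat_classInner
    (Char.IsCharacter.restrict (Char.irr_isCharacter χ) (P : Subgroup G))
    (Char.irr_isCharacter (Char.trivialChar (P : Subgroup G)))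
  refine ⟨n, ?_⟩
  rw [← hn, classInner, show Nat.card (P : Subgroup G) = p from hP]
  rw [show (Char.trivialChar (P : Subgroup G)).1 = fun _ => (1 : ℂ) from rfl]
  simp [hp.out.ne_zero]

/-- The degree modulo `p` is the negative of the total on `P - 1`. -/
theorem degree_modEq_total (hP : Nat.card P = p) (χ : IrrCharacter G) {T : ℤ}
    (hT : ∑ y ∈ Finset.univ.erase (1 : (P : Subgroup G)), χ.1 y = T) :
    (charDegree χ.1 : ℤ) ≡ -T [ZMOD p] := by
  obtain ⟨n, hn⟩ := exists_sum_eq_mul hP χ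
  rw [← Finset.add_sum_erase _ _ (Finset.mem_univ (1 : (P : Subgroup G))), hT, OneMemClass.coe_one,
    ← Char.charDegree_cast] at hn
  have h1 : (charDegree χ.1 : ℤ) + T = p * n := by
    apply Int.cast_injective (α := ℂ)
    push_cast
    exact hn
  rw [Int.modEq_iff_dvd]
  exact ⟨-n, by linear_combination -h1⟩

/-- The total of a principal block member on `P - 1` divides `± (p - 1)`. -/
theorem exists_mul_total (hpM : (p : AlgInt) ∈ M) (hP : Nat.card P = p) {χ : IrrCharacter G}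
    (hχ : χ ∈ principalBlock M G) {T : ℤ} (hT0 : T ≠ 0)
    (hT : ∑ y ∈ Finset.univ.erase (1 : (P : Subgroup G)), χ.1 y = T) :
    ∃ N : ℕ, (N : ℤ) * |T| = (p : ℤ) - 1 := by
  have hd := freeData_of_card_eq hP
  obtain ⟨n, hconj, ⟨η₀, hη₀⟩, htot⟩ := sum_conjugates_eq hP χ (fun η ⟨σ, hσ⟩ y hy hy1 v hv hvr => by
    have hpp : IsPPart p (y * v) y :=
      ⟨v, rfl, (Subgroup.mem_centralizer_singleton_iff.1 hv).symm, hd.exists_pow_orderOf hy, hvr⟩
    rw [hσ]
    exact congrArg σ (hd.apply_section hpM hχ hpp hy hy1))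
  refine ⟨∑ η, n η, ?_⟩
  have hsum : ∑ η, (n η : ℂ) * ∑ y ∈ Finset.univ.erase (1 : (P : Subgroup G)), η.1 y =
      ((((∑ η, n η : ℕ) : ℤ) * T : ℤ) : ℂ) := by
    push_cast
    rw [Finset.sum_mul]
    refine Finset.sum_congr rfl fun η _ => ?_
    by_cases hn : n η = 0
    · simp [hn]
    obtain ⟨σ, hσ⟩ := hconj η hn
    rw [hσ, ← map_sum, hT, map_intCast]
  rw [hsum, ← Int.cast_natCast (R := ℂ) p] at htot
  have hN : 0 < ∑ η, n η :=
    (Nat.pos_of_ne_zero hη₀).trans_le (Finset.single_le_sum (fun _ _ => Nat.zero_le _) (Finset.mem_univ η₀))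
  set N : ℤ := ((∑ η, n η : ℕ) : ℤ) with hNdef
  have hN' : 0 < N := by rw [hNdef]; exact_mod_cast hN
  have hp1 : 0 ≤ (p : ℤ) - 1 := by have := hp.out.one_lt; omega
  have habs : |N * T| = N * |T| := by rw [abs_mul, abs_of_pos hN']
  rw [← habs]
  rcases htot with h | h | h
  · rw [show N * T = (p : ℤ) - 1 by exact_mod_cast h, abs_of_nonneg hp1]
  · rw [show N * T = -((p : ℤ) - 1) by exact_mod_cast h, abs_neg, abs_of_nonneg hp1]
  · exact absurd (show N * T = 0 by exact_mod_cast h) (mul_ne_zero hN'.ne' hT0)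

/-- A constant value on `P - 1` is a sign. -/
theorem abs_value_eq_one (hpM : (p : AlgInt) ∈ M) (hP : Nat.card P = p) {χ : IrrCharacter G}
    (hχ : χ ∈ principalBlock M G) {a : ℤ} (ha : a ≠ 0)
    (hval : ∀ y : (P : Subgroup G), y ≠ 1 → χ.1 y = a) : a = 1 ∨ a = -1 := by
  have hp1 : (1 : ℤ) < p := by exact_mod_cast hp.out.one_lt
  obtain ⟨N, hN⟩ := exists_mul_total hpM hP hχ (T := ((p : ℤ) - 1) * a)
    (mul_ne_zero (by omega) ha) (by
      rw [Finset.sum_congr rfl fun y hy => hval y (Finset.ne_of_mem_erase hy), Finset.sum_const,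
        Finset.card_erase_of_mem (Finset.mem_univ _), Finset.card_univ, ← Nat.card_eq_fintype_card,
        show Nat.card (P : Subgroup G) = p from hP, nsmul_eq_mul, Nat.cast_sub hp.out.pos]
      push_cast
      ring)
  rw [abs_mul, abs_of_pos (show 0 < (p : ℤ) - 1 by omega)] at hN
  have h1 : (N : ℤ) * |a| = 1 := mul_left_cancel₀ (show (p : ℤ) - 1 ≠ 0 by omega)
    (by linear_combination hN)
  exact (abs_eq zero_le_one).1 (Int.eq_one_of_mul_eq_one_left (abs_nonneg a) h1)

theorem degree_modEq_value (hP : Nat.card P = p) {χ : IrrCharacter G} {a : ℤ}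
    (hval : ∀ y : (P : Subgroup G), y ≠ 1 → χ.1 y = a) : (charDegree χ.1 : ℤ) ≡ a [ZMOD p] := by
  refine (degree_modEq_total hP χ (T := ((p : ℤ) - 1) * a) ?_).trans ?_
  · rw [Finset.sum_congr rfl fun y hy => hval y (Finset.ne_of_mem_erase hy), Finset.sum_const,
      Finset.card_erase_of_mem (Finset.mem_univ _), Finset.card_univ, ← Nat.card_eq_fintype_card,
      show Nat.card (P : Subgroup G) = p from hP, nsmul_eq_mul, Nat.cast_sub hp.out.pos]
    push_cast
    ring
  · rw [Int.modEq_iff_dvd]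
    exact ⟨a, by ring⟩

/-- The structure of the principal block for a Sylow subgroup of order `p`. -/
structure PrimeShape (P : Sylow p G) (M : Ideal AlgInt) (m : ℕ) where
  X : Finset (IrrCharacter G)
  Y : Finset (IrrCharacter G)
  εX : IrrCharacter G → ℤ
  ε : ℤ
  m_dvd : m ∣ p - 1
  union : principalBlock M G = (X : Set (IrrCharacter G)) ∪ (Y : Set (IrrCharacter G))
  disj : Disjoint X Y
  cardX : X.card = m
  cardY : Y.card = (p - 1) / m
  hεX : ∀ χ ∈ X, εX χ = 1 ∨ εX χ = -1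
  X_val : ∀ χ ∈ X, ∀ y : (P : Subgroup G), y ≠ 1 → χ.1 y = εX χ
  X_deg : ∀ χ ∈ X, (charDegree χ.1 : ℤ) ≡ εX χ [ZMOD p]
  hε : ε = 1 ∨ ε = -1
  Y_deg : ∀ θ ∈ Y, (charDegree θ.1 : ℤ) ≡ ε * m [ZMOD p]
  agree : ∀ θ ∈ Y, ∀ θ' ∈ Y, ∀ g, IsPRegular p g → θ.1 g = θ'.1 g
  relation : ∀ θ ∈ Y, ∀ g, IsPRegular p g → (ε : ℂ) * θ.1 g = ∑ χ ∈ X, (εX χ : ℂ) * χ.1 g

theorem primeShape_of_lt (hpM : (p : AlgInt) ∈ M) (hP : Nat.card P = p) {m : ℕ}
    (hm : (Subgroup.centralizer ((P : Subgroup G) : Set G)).relIndex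
      (Subgroup.normalizer ((P : Subgroup G) : Set G)) = m)
    (hr : m + 1 < Nat.card P) : Nonempty (PrimeShape P M m) := by
  have hd := freeData_of_card_eq hP
  obtain ⟨S⟩ := hd.shape hpM hm hr
  set B := (principalBlock M G).toFinset with hB
  have hmemB : ∀ χ, χ ∈ B ↔ χ ∈ principalBlock M G := fun χ => Set.mem_toFinset
  set r := (B \ S.X).card with hr'
  have hrm : r * m + 1 = p := S.card_mul.trans hP
  have hmp : m + 1 < p := hP ▸ hr
  have hr2 : 2 ≤ r := by
    by_contra h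
    have : r * m ≤ 1 * m := Nat.mul_le_mul_right m (show r ≤ 1 by omega)
    omega
  have hm0 : 0 < m := Nat.pos_of_ne_zero fun h => by
    have := hp.out.one_lt
    rw [h, Nat.mul_zero] at hrm; omega
  have ha : ∀ χ ∈ S.X, S.a χ = 1 ∨ S.a χ = -1 := fun χ hχ =>
    abs_value_eq_one hpM hP (S.X_sub χ hχ) (S.X_val χ hχ).1 (S.X_val χ hχ).2
  -- the totals of the exceptional characters
  have htot : ∀ l, l ≠ Char.trivialChar _ →
      ∑ y ∈ Finset.univ.erase (1 : (P : Subgroup G)), (S.f l).1 y =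
        (((m : ℤ) * ((r : ℤ) * S.d - S.δ) : ℤ) : ℂ) := by
    intro l hl
    rw [Finset.sum_congr rfl fun y hy => S.f_val l hl y (Finset.ne_of_mem_erase hy),
      Finset.sum_add_distrib, ← Finset.mul_sum, Finset.sum_const,
      Finset.card_erase_of_mem (Finset.mem_univ _), Finset.card_univ, ← Nat.card_eq_fintype_card,
      show Nat.card (P : Subgroup G) = p from hP, nsmul_eq_mul, Finset.sum_comm,
      Finset.sum_congr rfl fun μ hμ => show
          ∑ y ∈ Finset.univ.erase (1 : (P : Subgroup G)), μ.1 y = (-1 : ℂ) by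
        have hμ1 : μ ≠ Char.trivialChar _ := fun he => by
          obtain ⟨n, hn⟩ := nConj_iff.1 (nConj_equivalence.symm (Finset.mem_filter.1 hμ).2)
          rw [he, show nChar (Char.trivialChar _) n = Char.trivialChar _ from
            nChar_eq_trivial_iff.2 rfl] at hn
          exact hl hn.symm
        have h1 := Char.sum_apply_eq_zero hμ1
        rw [← Finset.add_sum_erase _ _ (Finset.mem_univ (1 : (P : Subgroup G))), hd.linear] at h1
        linear_combination h1,
      Finset.sum_const, hd.card_orbit hm hl, nsmul_eq_mul]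
    rw [show p - 1 = r * m by omega]
    push_cast
    ring
  have hT0 : (r : ℤ) * S.d - S.δ ≠ 0 := fun h => by
    have h1 : (r : ℤ) ∣ S.δ := ⟨S.d, by linarith⟩
    have h2 : (r : ℤ) ∣ 1 := by rcases S.hδ with h3 | h3 <;> simpa [h3] using h1
    have := Int.eq_one_of_dvd_one (by positivity) h2
    omega
  have hunit : (r : ℤ) * S.d - S.δ = 1 ∨ (r : ℤ) * S.d - S.δ = -1 := by
    obtain ⟨χ₀, hχ₀⟩ : (B \ S.X).Nonempty := Finset.card_pos.1 (by omega)
    obtain ⟨hχB, hχX⟩ := Finset.mem_sdiff.1 hχ₀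
    obtain ⟨l, hl, rfl⟩ := S.f_surj χ₀ ((hmemB _).1 hχB) hχX
    obtain ⟨N, hN⟩ := exists_mul_total hpM hP (S.f_mem l hl).1
      (mul_ne_zero (by exact_mod_cast hm0.ne') hT0) (htot l hl)
    rw [abs_mul, Nat.abs_cast, show (p : ℤ) - 1 = (r : ℤ) * m by omega] at hN
    set u := (r : ℤ) * S.d - S.δ with hu
    have h1 : (N : ℤ) * |u| = r :=
      mul_left_cancel₀ (show (m : ℤ) ≠ 0 by exact_mod_cast hm0.ne') (by linear_combination hN)
    have h2 : u ∣ (r : ℤ) := (abs_dvd u _).1 ⟨N, by rw [mul_comm]; exact h1.symm⟩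
    have h3 : u ∣ S.δ := by
      have : S.δ = (r : ℤ) * S.d - u := by rw [hu]; ring
      rw [this]
      exact dvd_sub (h2.mul_right _) dvd_rfl
    have h4 : u ∣ 1 := by rcases S.hδ with h5 | h5 <;> simpa [h5] using h3
    exact Int.isUnit_iff.1 (isUnit_of_dvd_one h4)
  have hnorm := S.norm_eq
  rw [← hB, ← hr'] at hnorm
  have hX1 : ∑ χ ∈ S.X, S.a χ ^ 2 = (S.X.card : ℤ) := by
    rw [Finset.sum_congr rfl fun χ hχ => show S.a χ ^ 2 = 1 by
      rcases ha χ hχ with h | h <;> rw [h] <;> norm_num]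
    simp
  have hone : (S.d - S.δ) ^ 2 + ((r : ℤ) - 1) * S.d ^ 2 = 1 := by
    have hδ2 : S.δ ^ 2 = 1 := by rcases S.hδ with h | h <;> rw [h] <;> norm_num
    have hu2 : ((r : ℤ) * S.d - S.δ) ^ 2 = 1 := by rcases hunit with h | h <;> rw [h] <;> norm_num
    have hr0 : (r : ℤ) ≠ 0 := by omega
    refine mul_left_cancel₀ hr0 ?_
    linear_combination hu2 + ((r : ℤ) - 1) * hδ2
  refine ⟨⟨S.X, B \ S.X, S.a, S.δ - r * S.d, ⟨r, by rw [Nat.mul_comm]; omega⟩, ?_, ?_, ?_, ?_, ha,
    fun χ hχ => (S.X_val χ hχ).2, fun χ hχ => degree_modEq_value hP (S.X_val χ hχ).2, ?_, ?_, ?_, ?_⟩⟩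
  · rw [← Finset.coe_union, Finset.union_sdiff_of_subset fun χ hχ => (hmemB χ).2 (S.X_sub χ hχ),
      hB, Set.coe_toFinset]
  · exact Finset.disjoint_sdiff
  · rw [hone, hX1] at hnorm
    omega
  · rw [show p - 1 = r * m by omega, Nat.mul_div_cancel _ hm0]
  · rcases hunit with h | h <;> omega
  · intro θ hθ
    obtain ⟨h1, h2⟩ := Finset.mem_sdiff.1 hθ
    obtain ⟨l, hl, rfl⟩ := S.f_surj θ ((hmemB _).1 h1) h2
    refine (degree_modEq_total hP _ (htot l hl)).trans ?_
    rw [Int.modEq_iff_dvd]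
    exact ⟨0, by ring⟩
  · intro θ hθ θ' hθ' g hg
    obtain ⟨h1, h2⟩ := Finset.mem_sdiff.1 hθ
    obtain ⟨h3, h4⟩ := Finset.mem_sdiff.1 hθ'
    exact S.agree θ ((hmemB _).1 h1) h2 θ' ((hmemB _).1 h3) h4 g hg
  · intro θ hθ g hg
    obtain ⟨h1, h2⟩ := Finset.mem_sdiff.1 hθ
    have := S.relation θ ((hmemB _).1 h1) h2 g hg
    rw [← hB, ← hr'] at this
    push_cast
    linear_combination -this

theorem primeShape_of_eq (hpM : (p : AlgInt) ∈ M) (hP : Nat.card P = p) {m : ℕ}
    (hm : (Subgroup.centralizer ((P : Subgroup G) : Set G)).relIndex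
      (Subgroup.normalizer ((P : Subgroup G) : Set G)) = m)
    (hr : ¬ m + 1 < Nat.card P) : Nonempty (PrimeShape P M m) := by
  have hd := freeData_of_card_eq hP
  set L := Finset.univ.erase (Char.trivialChar (P : Subgroup G)) with hL
  have hcardL : L.card = p - 1 := by
    rw [hL, Finset.card_erase_of_mem (Finset.mem_univ _), Finset.card_univ, hd.card_irr, hP]
  obtain ⟨l₀, hl₀⟩ : L.Nonempty := Finset.card_pos.1 (by have := hp.out.one_lt; omega)
  have hl₀' : l₀ ≠ Char.trivialChar _ := Finset.ne_of_mem_erase hl₀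
  set O := Finset.univ.filter fun l => NConj P l l₀ with hO
  have hOL : O ⊆ L := fun l hl => by
    refine Finset.mem_erase.2 ⟨fun he => hl₀' ?_, Finset.mem_univ _⟩
    obtain ⟨n, hn⟩ := nConj_iff.1 (Finset.mem_filter.1 hl).2
    exact nChar_eq_trivial_iff.1 (hn.trans he)
  have hcardO : O.card = m := hd.card_orbit hm hl₀'
  have hmp : m = p - 1 := by
    have := Finset.card_le_card hOL
    rw [hP] at hr
    omega
  have hOeq : O = L := Finset.eq_of_subset_of_card_le hOL (by omega)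
  set c : IrrCharacter G → ℤ := fun χ => cI P χ l₀ with hc
  have hall : ∀ χ l, l ∈ L → cI P χ l = c χ := fun χ l hl =>
    cI_eq_of_nConj χ (Finset.mem_filter.1 (hOeq ▸ hl : l ∈ O)).2
  have hval : ∀ χ : IrrCharacter G, ∀ y : (P : Subgroup G), y ≠ 1 → χ.1 y = c χ := fun χ y hy => by
    rw [hd.apply_eq_neg_sum χ hy,
      ← Finset.add_sum_erase _ _ (Finset.mem_univ (Char.trivialChar (P : Subgroup G))), cI_trivial,
      Int.cast_zero, zero_mul, zero_add, Finset.sum_congr rfl fun l hl => by rw [hall χ l hl],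
      ← Finset.mul_sum]
    have := hd.sum_nontrivial hy
    rw [Finset.filter_ne'] at this
    rw [this]
    ring
  set B := Finset.univ.filter (· ∈ principalBlock M G) with hB
  have hmemB : ∀ χ, χ ∈ B ↔ χ ∈ principalBlock M G := fun χ => by simp [hB]
  have hunit : ∀ χ ∈ B, c χ = 1 ∨ c χ = -1 := fun χ hχ => by
    refine abs_value_eq_one hpM hP ((hmemB χ).1 hχ) (fun h0 => ?_) (hval χ)
    obtain ⟨l, hl⟩ := hd.exists_cI_ne_zero hpM (hP.trans_ne hp.out.ne_one) ((hmemB χ).1 hχ)
    by_cases hl1 : l = Char.trivialChar _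
    · exact hl (hl1 ▸ cI_trivial χ)
    · exact hl ((hall χ l (Finset.mem_erase.2 ⟨hl1, Finset.mem_univ _⟩)).trans h0)
  have hcardB : B.card = m + 1 := by
    have := hd.gram hpM hm hl₀' hl₀'
    rw [if_pos (nConj_equivalence.refl _), ← hB, Finset.sum_congr rfl fun χ hχ =>
      show cI P χ l₀ * cI P χ l₀ = 1 by rcases hunit χ hχ with h | h <;> simp only [hc] at h <;> rw [h] <;> norm_num]
      at this
    simp at this
    omega
  have htrivB : Char.trivialChar G ∈ B := (hmemB _).2 Blocks.trivial_mem_principalBlock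
  have hctriv : c (Char.trivialChar G) = 1 := by
    haveI : Nontrivial (P : Subgroup G) := Finite.one_lt_card_iff_nontrivial.1
      (hp.out.one_lt.trans_le hP.ge)
    obtain ⟨y, hy⟩ := exists_ne (1 : (P : Subgroup G))
    have := hval (Char.trivialChar G) y hy
    exact_mod_cast this.symm.trans (show (Char.trivialChar G).1 y = 1 from rfl)
  refine ⟨⟨B.erase (Char.trivialChar G), {Char.trivialChar G}, c, -1, ⟨1, by omega⟩, ?_, ?_, ?_, ?_,
    fun χ hχ => hunit χ (Finset.mem_of_mem_erase hχ), fun χ _ => hval χ,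
    fun χ _ => degree_modEq_value hP (hval χ), Or.inr rfl, ?_, ?_, ?_⟩⟩
  · rw [← Finset.coe_union, Finset.union_comm, ← Finset.insert_eq, Finset.insert_erase htrivB]
    ext χ
    simp [hB]
  · simp
  · rw [Finset.card_erase_of_mem htrivB, hcardB]; rfl
  · rw [Finset.card_singleton, hmp, Nat.div_self (by have := hp.out.one_lt; omega)]
  · intro θ hθ
    rw [Finset.mem_singleton.1 hθ]
    refine (degree_modEq_value hP (hval (Char.trivialChar G))).trans ?_
    rw [hctriv, Int.modEq_iff_dvd, hmp, Nat.cast_sub hp.out.pos]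
    exact ⟨-1, by push_cast; ring⟩
  · intro θ hθ θ' hθ' g _
    rw [Finset.mem_singleton.1 hθ, Finset.mem_singleton.1 hθ']
  · intro θ hθ g hg
    have := hd.sum_cI_mul hpM l₀ hg
    rw [← hB, ← Finset.add_sum_erase _ _ htrivB] at this
    rw [Finset.mem_singleton.1 hθ]
    simp only [hc] at hctriv ⊢
    rw [hctriv] at this
    push_cast at this ⊢
    linear_combination -this

/-- Brauer's theorem on the principal block for a Sylow subgroup of order `p`. -/
theorem primeShape (hpM : (p : AlgInt) ∈ M) (hP : Nat.card P = p) {m : ℕ}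
    (hm : (Subgroup.centralizer ((P : Subgroup G) : Set G)).relIndex
      (Subgroup.normalizer ((P : Subgroup G) : Set G)) = m) : Nonempty (PrimeShape P M m) := by
  by_cases hr : m + 1 < Nat.card P
  · exact primeShape_of_lt hpM hP hm hr
  · exact primeShape_of_eq hpM hP hm hr

end Cfsg.Agent.DefectOne
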