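import Cfsg.Agent.Lib.DefectOne.Principal
import Cfsg.Agent.Lib.Blocks.Defect
import Cfsg.Agent.Lib.Char.PRegular

/-!
# The shape of the principal block for a free normalizer action
-/

set_option linter.style.haveILetI false
set_option linter.unusedSectionVars false

namespace Cfsg.Agent.DefectOne

open Cfsg Cfsg.Agent
open scoped ComplexConjugate Classical

universe u

variable {G : Type u} [Group G] [Fintype G] {p : ℕ} [hp : Fact p.Prime] {P : Sylow p G}
  {M : Ideal AlgInt} [M.IsMaximal]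

theorem FreeData.card_irr (h : FreeData P) :
    Fintype.card (IrrCharacter (P : Subgroup G)) = Nat.card P := by
  have h1 := Char.sum_degree_sq (G := (P : Subgroup G))
  rw [Finset.sum_congr rfl fun l _ => show Char.degree l ^ 2 = 1 by
    have := h.linear l
    rw [Char.apply_one_eq_degree, Nat.cast_eq_one] at this
    rw [this, one_pow], Finset.sum_const, smul_eq_mul, mul_one, Finset.card_univ] at h1
  exact h1

theorem FreeData.sum_nontrivial (h : FreeData P) {y : (P : Subgroup G)} (hy : y ≠ 1) :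
    ∑ l ∈ Finset.univ.filter (fun l => l ≠ Char.trivialChar (P : Subgroup G)), l.1 y = -1 := by
  have h2 : ∑ l : IrrCharacter (P : Subgroup G), l.1 y = 0 := by
    have := Char.sum_irr_mul_conj y (1 : (P : Subgroup G))
    rw [if_neg (by simpa [isConj_one_left, isConj_one_right] using hy)] at this
    simpa [h.linear] using this
  rw [Finset.filter_ne' Finset.univ (Char.trivialChar (P : Subgroup G)),
    ← Finset.add_sum_erase Finset.univ _ (Finset.mem_univ (Char.trivialChar (P : Subgroup G)))] at *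
  rw [show (Char.trivialChar (P : Subgroup G)).1 y = 1 from rfl] at h2
  linear_combination h2

/-- A principal block member does not vanish on all of `P - 1`. -/
theorem FreeData.exists_cI_ne_zero (h : FreeData P) (hpM : (p : AlgInt) ∈ M)
    (hP1 : Nat.card P ≠ 1) {χ : IrrCharacter G} (hχ : χ ∈ principalBlock M G) :
    ∃ l, cI P χ l ≠ 0 := by
  by_contra! hall
  have hzero : ∀ y : (P : Subgroup G), y ≠ 1 → χ.1 y = 0 := fun y hy => by
    rw [h.apply_eq_neg_sum χ hy]; simp [hall]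
  have hP : (P : Subgroup G) ≠ ⊥ := fun hb => hP1 (by
    rw [show Nat.card P = Nat.card (P : Subgroup G) from rfl, hb, Subgroup.card_bot])
  obtain ⟨y, hy⟩ : ∃ y : (P : Subgroup G), y ≠ 1 := by
    obtain ⟨y, hy⟩ := (Subgroup.ne_bot_iff_exists_ne_one).1 hP
    exact ⟨y, hy⟩
  -- the block of `χ` is a singleton, so `χ` is trivial
  have hdvd : Nat.card P ∣ Char.degree χ := by
    obtain ⟨n, hn⟩ := Char.IsCharacter.exists_nat_classInner
      (Char.IsCharacter.restrict (Char.irr_isCharacter χ) (P : Subgroup G))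
      (Char.irr_isCharacter (Char.trivialChar (P : Subgroup G)))
    refine ⟨n, ?_⟩
    rw [classInner, Finset.sum_eq_single (1 : (P : Subgroup G))
      (fun w _ hw => by rw [hzero w hw, zero_mul]) (by simp)] at hn
    rw [← Nat.cast_inj (R := ℂ), Nat.cast_mul, ← hn]
    have : (Nat.card P : ℂ) ≠ 0 := Nat.cast_ne_zero.2 Nat.card_pos.ne'
    rw [show (Char.trivialChar (P : Subgroup G)).1 1 = 1 from rfl, map_one, mul_one,
      OneMemClass.coe_one, Char.apply_one_eq_degree]
    field_simp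
  have hsingle : blockOf M χ.1 = {χ} := by
    refine (Blocks.blockOf_eq_singleton_iff hpM χ).2 (le_antisymm ?_ ?_)
    · exact (Nat.factorization_le_iff_dvd (Char.degree_pos χ).ne' Nat.card_pos.ne').2
        (Char.degree_dvd_natCard χ) p
    · rw [← hp.out.pow_dvd_iff_le_factorization (Char.degree_pos χ).ne', ← P.card_eq_multiplicity]
      exact hdvd
  have htriv : Char.trivialChar G ∈ blockOf M χ.1 := by
    rw [← Blocks.block_eq (Blocks.isPBlock_principalBlock hpM) hχ]
    exact Blocks.trivial_mem_principalBlock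
  rw [hsingle, Set.mem_singleton_iff] at htriv
  have := hzero y hy
  rw [← htriv] at this
  exact one_ne_zero this

/-- The conclusion: the non-exceptional set `X` with values `a`, the exceptional map `f`. -/
structure Shape (h : FreeData P) (M : Ideal AlgInt) (m : ℕ) where
  X : Finset (IrrCharacter G)
  a : IrrCharacter G → ℤ
  d : ℤ
  δ : ℤ
  f : IrrCharacter (P : Subgroup G) → IrrCharacter G
  hδ : δ = 1 ∨ δ = -1
  trivial_mem : Char.trivialChar G ∈ X
  X_sub : ∀ χ ∈ X, χ ∈ principalBlock M G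
  f_mem : ∀ l, l ≠ Char.trivialChar _ → f l ∈ principalBlock M G ∧ f l ∉ X
  f_surj : ∀ χ ∈ principalBlock M G, χ ∉ X → ∃ l, l ≠ Char.trivialChar _ ∧ f l = χ
  f_eq : ∀ l μ, l ≠ Char.trivialChar _ → μ ≠ Char.trivialChar _ → (f l = f μ ↔ NConj P l μ)
  X_val : ∀ χ ∈ X, a χ ≠ 0 ∧ ∀ y : (P : Subgroup G), y ≠ 1 → χ.1 y = a χ
  f_val : ∀ l, l ≠ Char.trivialChar _ → ∀ y : (P : Subgroup G), y ≠ 1 → (f l).1 y =
    d + δ * ∑ μ ∈ Finset.univ.filter (fun μ => NConj P μ l), μ.1 y
  card_mul : ((principalBlock M G).toFinset \ X).card * m + 1 = Nat.card P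
  norm_eq : (d - δ) ^ 2 + ((((principalBlock M G).toFinset \ X).card : ℤ) - 1) * d ^ 2 +
    ∑ χ ∈ X, a χ ^ 2 = m + 1
  agree : ∀ χ ∈ principalBlock M G, χ ∉ X → ∀ χ' ∈ principalBlock M G, χ' ∉ X → ∀ g,
    IsPRegular p g → χ.1 g = χ'.1 g
  relation : ∀ χ₀ ∈ principalBlock M G, χ₀ ∉ X → ∀ g, IsPRegular p g →
    ((((principalBlock M G).toFinset \ X).card : ℂ) * d - δ) * χ₀.1 g +
      ∑ χ ∈ X, (a χ : ℂ) * χ.1 g = 0

theorem FreeData.shape (h : FreeData P) (hpM : (p : AlgInt) ∈ M) {m : ℕ}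
    (hm : (Subgroup.centralizer ((P : Subgroup G) : Set G)).relIndex
      (Subgroup.normalizer ((P : Subgroup G) : Set G)) = m)
    (hr : m + 1 < Nat.card P) : Nonempty (Shape h M m) := by
  let L := {l : IrrCharacter (P : Subgroup G) // l ≠ Char.trivialChar _}
  let S : Setoid L := ⟨fun l μ => NConj P l.1 μ.1,
    ⟨fun l => nConj_equivalence.refl _, fun h => nConj_equivalence.symm h,
      fun h h' => nConj_equivalence.trans h h'⟩⟩
  let Ω := Quotient S
  haveI : Fintype Ω := Fintype.ofFinite _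
  have hcardL : Fintype.card L + 1 = Nat.card P := by
    rw [← h.card_irr, Fintype.card_subtype_compl, Fintype.card_subtype_eq]
    have : 0 < Fintype.card (IrrCharacter (P : Subgroup G)) := Fintype.card_pos_iff.2 ⟨Char.trivialChar _⟩
    omega
  have hfib : ∀ C : Ω, (Finset.univ.filter fun l : L => (Quotient.mk S l : Ω) = C).card = m := by
    intro C
    obtain ⟨l₀, rfl⟩ := Quotient.exists_rep C
    rw [← h.card_orbit hm l₀.2]
    refine Finset.card_bij (fun l _ => l.1) (fun l hl => ?_) (fun a _ b _ hab => Subtype.ext hab)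
      fun l hl => ?_
    · exact Finset.mem_filter.2 ⟨Finset.mem_univ _, Quotient.exact (Finset.mem_filter.1 hl).2⟩
    · have hl' := (Finset.mem_filter.1 hl).2
      refine ⟨⟨l, fun he => l₀.2 ?_⟩, Finset.mem_filter.2 ⟨Finset.mem_univ _, Quotient.sound hl'⟩, rfl⟩
      obtain ⟨n, hn⟩ := nConj_iff.1 hl'
      exact nChar_eq_trivial_iff.1 (hn.trans he)
  have hcardΩ : Fintype.card Ω * m + 1 = Nat.card P := by
    rw [← hcardL, ← Finset.card_univ, ← Finset.card_univ,
      Finset.card_eq_sum_card_fiberwise (s := (Finset.univ : Finset L))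
        (t := (Finset.univ : Finset Ω)) (f := fun l => (Quotient.mk S l : Ω)) (fun x _ => Finset.mem_univ _),
      Finset.sum_congr rfl fun C _ => hfib C, Finset.sum_const, smul_eq_mul]
  haveI : Nontrivial Ω := Fintype.one_lt_card_iff_nontrivial.1 (by
    by_contra hle
    push Not at hle
    have : Fintype.card Ω * m ≤ m := (Nat.mul_le_mul_right m hle).trans (one_mul m).le
    omega)
  let B := (principalBlock M G).toFinset
  let c : Ω → B → ℤ := fun C χ => Quotient.liftOn C (fun l => cI P χ.1 l.1)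
    fun l μ hlμ => cI_eq_of_nConj χ.1 hlμ
  have hc : ∀ (l : L) (χ : B), c (Quotient.mk S l) χ = cI P χ.1 l.1 := fun _ _ => rfl
  have hBsum : ∀ F : IrrCharacter G → ℂ, ∑ χ : B, F χ.1 =
      ∑ χ ∈ Finset.univ.filter (· ∈ principalBlock M G), F χ := fun F => by
    rw [Finset.sum_coe_sort]
    exact Finset.sum_congr (by ext; simp [B]) fun _ _ => rfl
  have hgram : ∀ i j, ∑ χ : B, c i χ * c j χ = (m : ℤ) + if i = j then 1 else 0 := by
    intro i j
    obtain ⟨l, rfl⟩ := Quotient.exists_rep i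
    obtain ⟨μ, rfl⟩ := Quotient.exists_rep j
    simp only [hc]
    rw [Finset.sum_coe_sort B fun χ => cI P χ l.1 * cI P χ μ.1,
      show B = Finset.univ.filter (· ∈ principalBlock M G) by ext; simp [B],
      h.gram hpM hm l.2 μ.2]
    congr 1
    by_cases hh : NConj P l.1 μ.1
    · rw [if_pos hh, if_pos (Quotient.sound hh)]
    · rw [if_neg hh, if_neg fun he => hh (Quotient.exact he)]
  have horth : ∀ i, ∑ χ : B, (Char.degree χ.1 : ℤ) * c i χ = 0 := by
    intro i
    obtain ⟨l, rfl⟩ := Quotient.exists_rep i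
    rw [← Int.cast_inj (α := ℂ)]
    push_cast
    simp only [hc, ← Char.apply_one_eq_degree]
    rw [hBsum fun χ => χ.1 1 * (cI P χ l.1 : ℂ), ← h.sum_cI_mul hpM l.1
      (show IsPRegular p (1 : G) by simp [IsPRegular, hp.out.ne_one])]
    exact Finset.sum_congr rfl fun χ _ => CommMonoid.mul_comm _ _
  obtain ⟨w, δ₀, f₀, a₀, hδ₀, hinj, hcf, hwf, hnorm⟩ := exists_exceptional (m : ℤ) c hgram
    (D := fun χ => (Char.degree χ.1 : ℤ)) (fun χ => by exact_mod_cast Char.degree_pos χ.1) horth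
  let wE : IrrCharacter G → ℤ := fun χ => if hχ : χ ∈ B then w ⟨χ, hχ⟩ else 0
  let f : IrrCharacter (P : Subgroup G) → IrrCharacter G := fun l =>
    if hl : l = Char.trivialChar _ then Char.trivialChar G else (f₀ (Quotient.mk S ⟨l, hl⟩)).1
  let E : Finset (IrrCharacter G) := Finset.univ.image fun C => (f₀ C).1
  have hEsub : E ⊆ B := fun χ hχ => by
    obtain ⟨C, -, rfl⟩ := Finset.mem_image.1 hχ; exact (f₀ C).2
  have hEcard : E.card = Fintype.card Ω :=
    Finset.card_image_of_injective _ fun a b hab => hinj (Subtype.ext hab)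
  have hmemB : ∀ χ, χ ∈ B ↔ χ ∈ principalBlock M G := fun χ => Set.mem_toFinset
  have hfl : ∀ l (hl : l ≠ Char.trivialChar _), f l = (f₀ (Quotient.mk S ⟨l, hl⟩)).1 :=
    fun l hl => dif_neg hl
  -- values on `P - 1`
  have hval : ∀ (χ : B) (y : (P : Subgroup G)), y ≠ 1 → χ.1.1 y =
      (w χ : ℂ) - ∑ l : L, (if χ = f₀ (Quotient.mk S l) then (δ₀ : ℂ) else 0) * l.1.1 y := by
    intro χ y hy
    rw [h.apply_eq_neg_sum χ.1 hy, ← Finset.sum_filter_add_sum_filter_not Finset.univ
      (fun l => l ≠ Char.trivialChar (P : Subgroup G)), Finset.sum_eq_zero (s := Finset.univ.filter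
        fun l => ¬ l ≠ Char.trivialChar (P : Subgroup G)) fun l hl => by
          rw [not_not.1 (Finset.mem_filter.1 hl).2, cI_trivial]; simp, add_zero,
      Finset.sum_subtype _ (p := fun l => l ≠ Char.trivialChar (P : Subgroup G)) (by simp)]
    have h1 := h.sum_nontrivial hy
    rw [Finset.sum_subtype _ (p := fun l => l ≠ Char.trivialChar (P : Subgroup G)) (by simp)] at h1
    rw [Finset.sum_congr rfl fun l _ => show (cI P χ.1 l.1 : ℂ) * l.1.1 y = (w χ : ℂ) * l.1.1 y +
      (if χ = f₀ (Quotient.mk S l) then (δ₀ : ℂ) else 0) * l.1.1 y by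
        rw [← hc l χ, hcf]; push_cast; ring, Finset.sum_add_distrib, ← Finset.mul_sum, h1]
    ring
  have hXval : ∀ χ ∈ B \ E, ∀ y : (P : Subgroup G), y ≠ 1 → χ.1 y = wE χ := by
    intro χ hχ y hy
    obtain ⟨hχB, hχE⟩ := Finset.mem_sdiff.1 hχ
    have := hval ⟨χ, hχB⟩ y hy
    rw [Finset.sum_eq_zero fun l _ => by
      rw [if_neg fun he => hχE (Finset.mem_image.2 ⟨_, Finset.mem_univ _,
        (congrArg Subtype.val he).symm⟩), zero_mul], sub_zero] at this
    simp only [wE, dif_pos hχB]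
    exact this
  have hcz : ∀ χ ∈ B \ E, ∀ l : L, cI P χ l.1 = wE χ := by
    intro χ hχ l
    obtain ⟨hχB, hχE⟩ := Finset.mem_sdiff.1 hχ
    rw [← hc l ⟨χ, hχB⟩, hcf, if_neg fun he => hχE (Finset.mem_image.2 ⟨_, Finset.mem_univ _,
      (congrArg Subtype.val he).symm⟩), add_zero]
    simp only [wE, dif_pos hχB]
  have htriv : Char.trivialChar G ∈ B \ E := by
    refine Finset.mem_sdiff.2 ⟨(hmemB _).2 Blocks.trivial_mem_principalBlock, fun hE => ?_⟩
    obtain ⟨C, -, hC⟩ := Finset.mem_image.1 hE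
    obtain ⟨C', hC'⟩ := exists_ne C
    have hval1 : ∀ D : Ω, c D (f₀ C) = 1 := fun D => by
      obtain ⟨l, rfl⟩ := Quotient.exists_rep D
      rw [hc, hC, ← Int.cast_inj (α := ℂ), cI_cast, cC, Int.cast_one]
      rw [show (fun w : (P : Subgroup G) => (Char.trivialChar G).1 w) =
        (Char.trivialChar (P : Subgroup G)).1 from rfl, Char.classInner_irr_self
          (Char.trivialChar (P : Subgroup G)).2, Char.classInner_irr_of_ne
          (Char.trivialChar (P : Subgroup G)).2 l.1.2 fun he => l.2 (Subtype.ext he.symm), sub_zero]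
    have e1 := hval1 C
    have e2 := hval1 C'
    rw [hcf, if_pos rfl] at e1
    rw [hcf, if_neg fun he => hC' (hinj he).symm] at e2
    rcases hδ₀ with rfl | rfl <;> omega
  have hEB : B \ (B \ E) = E := Finset.sdiff_sdiff_eq_self hEsub
  refine ⟨⟨B \ E, wE, a₀, -δ₀, f, by omega, htriv,
    fun χ hχ => (hmemB χ).1 (Finset.mem_sdiff.1 hχ).1, fun l hl => ?_, fun χ hχ hχX => ?_,
    fun l μ hl hμ => ?_, fun χ hχ => ⟨fun h0 => ?_, hXval χ hχ⟩, fun l hl y hy => ?_, ?_, ?_, ?_, ?_⟩⟩
  · rw [hfl l hl]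
    exact ⟨(hmemB _).1 (f₀ _).2, fun hh => (Finset.mem_sdiff.1 hh).2
      (Finset.mem_image.2 ⟨_, Finset.mem_univ _, rfl⟩)⟩
  · have hχE : χ ∈ E := by
      by_contra hE
      exact hχX (Finset.mem_sdiff.2 ⟨(hmemB χ).2 hχ, hE⟩)
    obtain ⟨C, -, rfl⟩ := Finset.mem_image.1 hχE
    obtain ⟨l, rfl⟩ := Quotient.exists_rep C
    exact ⟨l.1, l.2, hfl l.1 l.2⟩
  · rw [hfl l hl, hfl μ hμ]
    exact ⟨fun he => Quotient.exact (hinj (Subtype.ext he)), fun hh => by
      rw [Quotient.sound (a := (⟨l, hl⟩ : L)) (b := ⟨μ, hμ⟩) hh]⟩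
  · obtain ⟨l, hl⟩ := h.exists_cI_ne_zero hpM (by omega) ((hmemB χ).1 (Finset.mem_sdiff.1 hχ).1)
    by_cases hl1 : l = Char.trivialChar _
    · exact hl (hl1 ▸ cI_trivial χ)
    · exact hl ((hcz χ hχ ⟨l, hl1⟩).trans h0)
  · rw [hfl l hl, hval _ y hy, hwf]
    rw [Finset.sum_congr rfl fun μ _ => show (if f₀ (Quotient.mk S ⟨l, hl⟩) = f₀ (Quotient.mk S μ)
        then (δ₀ : ℂ) else 0) * μ.1.1 y = (δ₀ : ℂ) * if NConj P μ.1 l then μ.1.1 y else 0 by
      by_cases hh : NConj P μ.1 l
      · rw [if_pos hh, if_pos]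
        exact congrArg f₀ (Quotient.sound (nConj_equivalence.symm hh))
      · rw [if_neg hh, if_neg, zero_mul, mul_zero]
        exact fun he => hh (nConj_equivalence.symm (Quotient.exact (hinj he))), ← Finset.mul_sum]
    rw [← Finset.sum_subtype (Finset.univ.filter fun μ => μ ≠ Char.trivialChar (P : Subgroup G))
      (by simp) fun μ => if NConj P μ l then μ.1 y else 0, ← Finset.sum_filter, Finset.filter_filter,
      Finset.filter_congr (q := fun μ => NConj P μ l) fun μ _ => and_iff_right_of_imp fun hh he => by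
        subst he
        obtain ⟨n, hn⟩ := nConj_iff.1 hh
        exact hl (nChar_eq_trivial_iff.1 hn)]
    push_cast
    ring
  · rw [hEB, hEcard]; exact hcardΩ
  · rw [hEB, hEcard]
    have h1 : ∑ χ : B, w χ ^ 2 = ∑ χ ∈ B \ E, wE χ ^ 2 + (Fintype.card Ω : ℤ) * a₀ ^ 2 := by
      rw [show ∑ χ : B, w χ ^ 2 = ∑ χ : B, wE χ.1 ^ 2 from
        Finset.sum_congr rfl fun χ _ => by simp only [wE, dif_pos χ.2], Finset.sum_coe_sort B
          fun χ => wE χ ^ 2, ← Finset.sum_sdiff hEsub,
        Finset.sum_congr (s₁ := E) rfl (g := fun _ => a₀ ^ 2) fun χ hχ => by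
          obtain ⟨C, -, rfl⟩ := Finset.mem_image.1 hχ
          simp only [wE, dif_pos (f₀ C).2]
          rw [show (⟨(f₀ C).1, (f₀ C).2⟩ : B) = f₀ C from rfl, hwf],
        Finset.sum_const, hEcard, nsmul_eq_mul]
    rcases hδ₀ with rfl | rfl <;> nlinarith
  all_goals
    have hrel : ∀ (C : Ω) (g : G), IsPRegular p g →
        ∑ χ : B, (w χ : ℂ) * χ.1.1 g + (δ₀ : ℂ) * (f₀ C).1.1 g = 0 := by
      intro C g hg
      obtain ⟨l, rfl⟩ := Quotient.exists_rep C
      rw [← h.sum_cI_mul hpM l.1 hg, ← hBsum fun χ => (cI P χ l.1 : ℂ) * χ.1 g,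
        Finset.sum_congr rfl (s₁ := (Finset.univ : Finset B)) (f := fun χ => (cI P χ.1 l.1 : ℂ) * χ.1.1 g)
          fun χ _ => by rw [← hc l χ, hcf]]
      push_cast
      simp only [add_mul, Finset.sum_add_distrib, ite_mul, zero_mul, Finset.sum_ite_eq',
        Finset.mem_univ, if_true]
    have hagree : ∀ C C' g, IsPRegular p g → (f₀ C).1.1 g = (f₀ C').1.1 g := by
      intro C C' g hg
      have := (hrel C g hg).trans (hrel C' g hg).symm
      rcases hδ₀ with rfl | rfl <;> push_cast at this <;>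
        first | linear_combination this | linear_combination -this
    have hpick : ∀ χ ∈ principalBlock M G, χ ∉ B \ E → ∃ C, (f₀ C).1 = χ := by
      intro χ hχ hχX
      have hχE : χ ∈ E := by
        by_contra hE
        exact hχX (Finset.mem_sdiff.2 ⟨(hmemB χ).2 hχ, hE⟩)
      obtain ⟨C, -, hC⟩ := Finset.mem_image.1 hχE
      exact ⟨C, hC⟩
  · intro χ hχ hχX χ' hχ' hχ'X g hg
    obtain ⟨C, rfl⟩ := hpick χ hχ hχX
    obtain ⟨C', rfl⟩ := hpick χ' hχ' hχ'X
    exact hagree C C' g hg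
  · intro χ₀ hχ₀ hχ₀X g hg
    obtain ⟨C, rfl⟩ := hpick χ₀ hχ₀ hχ₀X
    rw [hEB, hEcard, ← hrel C g hg, show ∑ χ : B, (w χ : ℂ) * χ.1.1 g =
      ∑ χ : B, (wE χ.1 : ℂ) * χ.1.1 g from Finset.sum_congr rfl fun χ _ => by
        simp only [wE, dif_pos χ.2], Finset.sum_coe_sort B fun χ => (wE χ : ℂ) * χ.1 g,
      ← Finset.sum_sdiff hEsub, Finset.sum_image fun a _ b _ hab => hinj (Subtype.ext hab),
      Finset.sum_congr rfl (s₁ := (Finset.univ : Finset Ω))
        (g := fun _ => (a₀ : ℂ) * (f₀ C).1.1 g) fun D _ => by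
          rw [hagree D C g hg]
          simp only [wE, dif_pos (f₀ D).2]
          rw [show (⟨(f₀ D).1, (f₀ D).2⟩ : B) = f₀ D from rfl, hwf],
      Finset.sum_const, Finset.card_univ, nsmul_eq_mul]
    push_cast
    ring

end Cfsg.Agent.DefectOne
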