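import Cfsg.Agent.Lib.DefectOne.BrickTrace

/-!
# A bound for the average of a lattice character over a subgroup of order `p`

For a lattice whose endomorphism ring has only trivial idempotents, with an averaging idempotent
`e` carrying the whole trace on `P - 1`, the defect `p r₀ - d` is at most `(p - 1) n₀` in absolute
value, `n₀` a bound for invariant spans inside the part fixed by `e`.
-/

set_option linter.unusedSectionVars false
set_option linter.style.haveILetI false

namespace Cfsg.Agent.DefectOne.Herbrand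

open Module

section Generic

variable {R : Type*} [CommRing R] [IsDomain R] [IsPrincipalIdealRing R] [IsLocalRing R]
  {L : Type*} [AddCommGroup L] [Module R L] [Module.Free R L] [Module.Finite R L]
  {p : ℕ} [hp : Fact p.Prime] (hpR : Irreducible (p : R))
  [Finite (R ⧸ Ideal.span {(p : R)})]
include hpR

open Classical in
/-- A submodule generated by `Z` and `k` elements has index at most `q ^ k` over `Z`. -/
theorem exists_relIndex_sup_span {Z : Submodule R L} (s : Finset L)
    (hs : ∀ v ∈ s, (p : R) • v ∈ Z) :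
    ∃ a ≤ s.card, Z.toAddSubgroup.relIndex (Z ⊔ Submodule.span R (s : Set L)).toAddSubgroup =
      Nat.card (R ⧸ Ideal.span {(p : R)}) ^ a := by
  induction s using Finset.induction with
  | empty => exact ⟨0, le_rfl, by simp⟩
  | insert v s hv ih =>
    obtain ⟨a, ha, hidx⟩ := ih fun w hw => hs w (Finset.mem_insert_of_mem hw)
    set S := Z ⊔ Submodule.span R (s : Set L) with hS
    have hins : Z ⊔ Submodule.span R ((insert v s : Finset L) : Set L) = S ⊔ R ∙ v := by
      rw [Finset.coe_insert, Submodule.span_insert, hS, sup_assoc,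
        sup_comm (Submodule.span R (s : Set L))]
    rw [hins, Finset.card_insert_of_notMem hv]
    by_cases hmem : v ∈ S
    · refine ⟨a, ha.trans (Nat.le_succ _), ?_⟩
      rwa [sup_eq_left.2 ((Submodule.span_singleton_le_iff_mem v S).2 hmem)]
    · refine ⟨a + 1, Nat.succ_le_succ ha, ?_⟩
      rw [← AddSubgroup.relIndex_mul_relIndex Z.toAddSubgroup S.toAddSubgroup _
        (Submodule.toAddSubgroup_mono le_sup_left) (Submodule.toAddSubgroup_mono le_sup_left),
        hidx, relIndex_sup_span hpR hmem (le_sup_left (a := Z)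
          (b := Submodule.span R (s : Set L)) (hs v (Finset.mem_insert_self v s))), pow_succ]

end Generic

variable {R : Type*} [CommRing R] [IsDomain R] [IsPrincipalIdealRing R] [IsLocalRing R]
  [TopologicalSpace R] [IsTopologicalRing R] [CompactSpace R] [T2Space R] [CharZero R]
  {G : Type*} [Group G] [Fintype G] {p : ℕ} [hp : Fact p.Prime]
  [Finite (R ⧸ Ideal.span {(p : R)})] {d : ℕ}
  {ρ : Representation R G (Fin d → R)} {P : Subgroup G} {y₀ : G}
  (hy₀ : Subgroup.zpowers y₀ = P) (hord : orderOf y₀ = p) (hpR : Irreducible (p : R))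
  (hidx : ¬ p ∣ P.index)
  (hbrick : ∀ F : Module.End R (Fin d → R), (∀ g, F * ρ g = ρ g * F) → F * F = F → F = 0 ∨ F = 1)
  {e : Module.End R (Fin d → R)} (heid : e * e = e)
  (hen : ∀ n ∈ Subgroup.normalizer (P : Set G), ρ n * e = e * ρ n)
  (htr : ∀ y ∈ P, y ≠ 1 → LinearMap.trace R _ (ρ y * e) = LinearMap.trace R _ (ρ y))
  {H : Subgroup G} (hHN : H ≤ Subgroup.normalizer (P : Set G))
  (hHP : ∀ n ∈ Subgroup.normalizer (P : Set G), ∃ h ∈ H, ∃ y ∈ P, n = h * y)
  {n₀ : ℕ}
  (hsmall : ∀ (Z : Submodule R (Fin d → R)) (v : Fin d → R), e v = v → v ∉ Z →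
    ∃ k ≤ n₀, ∃ ws : Fin k → Fin d → R,
      (∀ i, ws i ∈ Submodule.span R (Set.range fun h : H => ρ h v)) ∧
      (∀ (g : H) i, ρ g (ws i) ∈ Submodule.span R (Set.range ws)) ∧ ∃ i, ws i ∉ Z)

include hy₀ hord hpR hidx hbrick heid hen htr hHN hHP hsmall in
/-- `|p r₀ - d| ≤ (p - 1) n₀`. -/
theorem rank_defect_le :
    |(p : ℤ) * Module.finrank R (fixS (ρ y₀)) - d| ≤ ((p : ℤ) - 1) * n₀ := by
  classical
  haveI := Fintype.ofFinite P
  set u := ρ y₀ with hu0
  have hu : u ^ p = 1 := rho_pow_eq_one ρ hord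
  set Fx := fixS u with hFx
  set TL := LinearMap.range (trOp p u) with hTL
  set K := LinearMap.ker (trOp p u) with hK
  set I := augS u with hI
  have hp1 : 0 ≤ (p : ℤ) - 1 := by have := hp.out.one_lt; omega
  have hpT : ∀ v ∈ Fx, (p : R) • v ∈ TL := fun v hv => ⟨v, trOp_fix hv⟩
  have hpI : ∀ v ∈ K, (p : R) • v ∈ I := fun v hv => smul_mem_augS hv
  have hy₀P : y₀ ∈ P := hy₀ ▸ Subgroup.mem_zpowers y₀
  have hKn : ∀ n ∈ Subgroup.normalizer (P : Set G), ∀ v ∈ K, ρ n v ∈ K := fun n hn v hv =>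
    LinearMap.mem_ker.2 (by
      rw [← normalizer_trOp ρ hy₀ hord hn, LinearMap.mem_ker.1 hv, map_zero])
  have hTn : ∀ n ∈ Subgroup.normalizer (P : Set G), ∀ v ∈ TL, ρ n v ∈ TL := by
    rintro n hn _ ⟨t, rfl⟩
    exact ⟨ρ n t, (normalizer_trOp ρ hy₀ hord hn t).symm⟩
  have heu : u * e = e * u := hen y₀ (Subgroup.le_normalizer hy₀P)
  have heT : trOp p u * e = e * trOp p u := by
    simp only [trOp, Finset.mul_sum, Finset.sum_mul]
    exact Finset.sum_congr rfl fun i _ => (Commute.pow_left (show Commute u e from heu) i).eq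
  have heTa : ∀ v, trOp p u (e v) = e (trOp p u v) := fun v => LinearMap.congr_fun heT v
  have heFx : ∀ v ∈ Fx, e v ∈ Fx := fun v hv => by
    rw [mem_fixS]
    show (u * e) v = e v
    rw [heu, Module.End.mul_apply, mem_fixS.1 hv]
  have heK : ∀ v ∈ K, e v ∈ K := fun v hv => LinearMap.mem_ker.2 (by
    rw [heTa, LinearMap.mem_ker.1 hv, map_zero])
  have hee : ∀ v, e (e v) = e v := fun v => LinearMap.congr_fun heid v
  rcases proj_dichotomy hy₀ hord hpR hidx hbrick (TL ⊔ Fx.map e) (I ⊔ K.map e)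
      (sup_le (range_trOp_le hu) (by rintro _ ⟨v, hv, rfl⟩; exact heFx v hv)) le_sup_left
      (sup_le (augS_le_ker hu) (by rintro _ ⟨v, hv, rfl⟩; exact heK v hv)) le_sup_left
      (fun n hn v hv => by
        obtain ⟨a, ha, _, ⟨b, hb, rfl⟩, rfl⟩ := Submodule.mem_sup.1 hv
        rw [map_add, show ρ n (e b) = e (ρ n b) from LinearMap.congr_fun (hen n hn) b]
        exact Submodule.add_mem_sup (hTn n hn a ha) ⟨_, normalizer_fix ρ hy₀ hord hn hb, rfl⟩)
      (fun n hn v hv => by
        obtain ⟨a, ha, _, ⟨b, hb, rfl⟩, rfl⟩ := Submodule.mem_sup.1 hv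
        rw [map_add, show ρ n (e b) = e (ρ n b) from LinearMap.congr_fun (hen n hn) b]
        exact Submodule.add_mem_sup (normalizer_augS ρ hy₀ hord hn ha) ⟨_, hKn n hn b hb, rfl⟩) with
    ⟨hsU, hsW⟩ | ⟨hbU, hbW⟩
  · -- the fixed part of `e` is free over `P`
    set L₁ := LinearMap.range e with hL₁
    have hL₁u : ∀ x ∈ L₁, u x ∈ L₁ := by
      rintro _ ⟨x, rfl⟩; exact ⟨u x, (LinearMap.congr_fun heu x).symm⟩
    set u₁ := u.restrict hL₁u with hu₁
    have heL : ∀ x ∈ L₁, e x = x := by
      rintro _ ⟨x, rfl⟩; exact LinearMap.congr_fun heid x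
    have hu₁i : ∀ (i : ℕ) (x : L₁), (((u₁ ^ i) x : L₁) : Fin d → R) = (u ^ i) x := by
      intro i
      induction i with
      | zero => simp
      | succ i ih =>
        intro x
        rw [pow_succ', pow_succ', Module.End.mul_apply, Module.End.mul_apply, ← ih x]
        rfl
    have hu₁T : ∀ x : L₁, ((trOp p u₁ x : L₁) : Fin d → R) = trOp p u x := fun x => by
      simp only [trOp, LinearMap.sum_apply, AddSubmonoidClass.coe_finsetSum, hu₁i]
    have hu₁p : u₁ ^ p = 1 := LinearMap.ext fun x => Subtype.ext (by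
      rw [hu₁i, hu]; rfl)
    have hX : (LinearMap.range (trOp p u₁)).toAddSubgroup.relIndex (fixS u₁).toAddSubgroup =
        Nat.card (R ⧸ Ideal.span {(p : R)}) ^ 0 := by
      rw [pow_zero]
      refine AddSubgroup.relIndex_eq_one.2 fun x hx => ?_
      have hxF : (x : Fin d → R) ∈ Fx := mem_fixS.2 (congrArg Subtype.val (mem_fixS.1 hx))
      obtain ⟨z, hz⟩ := hsU (Submodule.mem_sup_right ⟨_, hxF, heL _ x.2⟩)
      refine ⟨⟨e z, ⟨z, rfl⟩⟩, Subtype.ext ?_⟩
      rw [hu₁T]
      show trOp p u (e z) = _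
      rw [heTa, hz, heL _ x.2]
    have hY : (augS u₁).toAddSubgroup.relIndex (LinearMap.ker (trOp p u₁)).toAddSubgroup =
        Nat.card (R ⧸ Ideal.span {(p : R)}) ^ 0 := by
      rw [pow_zero]
      refine AddSubgroup.relIndex_eq_one.2 fun x hx => ?_
      have hxK : (x : Fin d → R) ∈ K := LinearMap.mem_ker.2 (by
        rw [← hu₁T, LinearMap.mem_ker.1 hx]; rfl)
      obtain ⟨z, hz⟩ := hsW (Submodule.mem_sup_right ⟨_, hxK, heL _ x.2⟩)
      refine ⟨⟨e z, ⟨z, rfl⟩⟩, Subtype.ext ?_⟩
      show u (e z) - e z = _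
      rw [show u (e z) = e (u z) from LinearMap.congr_fun heu z, ← map_sub]
      rw [show u z - z = (u - 1) z from rfl, hz, heL _ x.2]
    have hr := rank_eq_of_index hpR hu₁p hX hY
    rw [sub_self, mul_zero, sub_eq_zero] at hr
    -- traces
    have htre : LinearMap.trace R _ e = (Module.finrank R L₁ : R) := by
      rw [show e = L₁.subtype.comp e.rangeRestrict from rfl, LinearMap.trace_comp_comm',
        show e.rangeRestrict.comp L₁.subtype = LinearMap.id from
          LinearMap.ext fun x => Subtype.ext (heL _ x.2), LinearMap.trace_id]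
    have htrT : LinearMap.trace R _ (trOp p u * e) = (p : R) * (Module.finrank R (fixS u₁) : R) := by
      rw [show trOp p u * e = L₁.subtype.comp ((trOp p u₁).comp e.rangeRestrict) from
          LinearMap.ext fun v => (hu₁T (e.rangeRestrict v)).symm, LinearMap.trace_comp_comm',
        show ((trOp p u₁).comp e.rangeRestrict).comp L₁.subtype = trOp p u₁ from
          LinearMap.ext fun x => congrArg (trOp p u₁) (Subtype.ext (heL _ x.2)),
        trace_trOp_gen hpR hu₁p]
    have hsplit : ∀ f : P → R, ∑ y, f y = f 1 + ∑ y ∈ Finset.univ.erase 1, f y :=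
      fun f => (Finset.add_sum_erase _ _ (Finset.mem_univ _)).symm
    have h1 : LinearMap.trace R _ (trOp p u * e) = LinearMap.trace R _ e +
        ∑ y ∈ Finset.univ.erase (1 : P), LinearMap.trace R _ (ρ (y : G)) := by
      rw [trOp_eq_sum ρ hy₀ hord, Finset.sum_mul, map_sum, hsplit, OneMemClass.coe_one, map_one,
        one_mul]
      congr 1
      exact Finset.sum_congr rfl fun y hy =>
        htr y y.2 fun h1 => (Finset.mem_erase.1 hy).1 (Subtype.ext h1)
    have h2 : (p : R) * (Module.finrank R (fixS u) : R) =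
        (d : R) + ∑ y ∈ Finset.univ.erase (1 : P), LinearMap.trace R _ (ρ (y : G)) := by
      rw [← trace_trOp hy₀ hord hpR, trOp_eq_sum ρ hy₀ hord, map_sum, hsplit, OneMemClass.coe_one,
        map_one, LinearMap.trace_one, Module.finrank_fin_fun]
    have h3 : (p : R) * (Module.finrank R (fixS u₁) : R) = (Module.finrank R L₁ : R) := by
      exact_mod_cast congrArg (Int.cast (R := R)) hr
    rw [htrT, htre, h3, left_eq_add] at h1
    rw [h1, add_zero] at h2
    have h4 : p * Module.finrank R Fx = d :=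
      Nat.cast_injective (R := R) (by push_cast; exact h2)
    rw [show (p : ℤ) * Module.finrank R Fx - d = 0 by
      rw [sub_eq_zero]; exact_mod_cast h4, abs_zero]
    exact mul_nonneg hp1 (Nat.cast_nonneg _)
  · have hPtriv : ∀ y ∈ P, (∀ v ∈ Fx, ρ y v = v) ∧ ∀ v, ρ y v - v ∈ I := by
      intro y hy
      obtain ⟨k, hk⟩ := mem_powers_iff_mem_zpowers.2 (hy₀.symm ▸ hy : y ∈ Subgroup.zpowers y₀)
      subst hk
      exact ⟨fun v hv => by rw [map_pow]; exact pow_fix (mem_fixS.1 hv) k,
        fun v => by rw [map_pow]; exact pow_sub_self_mem_augS v k⟩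
    -- a small invariant submodule strictly above `Z`
    have hline : ∀ (A Z : Submodule R (Fin d → R)), Z ≤ A → (∀ v ∈ A, (p : R) • v ∈ Z) →
        A ≤ Z ⊔ A.map e → (∀ v ∈ A, e v ∈ A) →
        (∀ n ∈ Subgroup.normalizer (P : Set G), ∀ v ∈ A, ρ n v ∈ A) →
        (∀ n ∈ Subgroup.normalizer (P : Set G), ∀ v ∈ Z, ρ n v ∈ Z) →
        (∀ y ∈ P, ∀ v ∈ A, ρ y v - v ∈ Z) → ¬ A ≤ Z →
        ∃ S : Submodule R (Fin d → R), Z ≤ S ∧ S ≤ A ∧ ¬ S ≤ Z ∧
          (∀ n ∈ Subgroup.normalizer (P : Set G), ∀ v ∈ S, ρ n v ∈ S) ∧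
          ∃ a ≤ n₀, Z.toAddSubgroup.relIndex S.toAddSubgroup =
            Nat.card (R ⧸ Ideal.span {(p : R)}) ^ a := by
      intro A Z hZA hpA hAe heA hAn hZn hPA hAZ
      obtain ⟨b, hb, hbZ⟩ : ∃ b ∈ A, e b ∉ Z := by
        by_contra! hall
        refine hAZ (hAe.trans (sup_le le_rfl ?_))
        rintro _ ⟨b, hb, rfl⟩; exact hall b hb
      obtain ⟨k, hk, ws, hw1, hw2, i, hi⟩ := hsmall Z (e b) (hee b) hbZ
      have hwA : ∀ i, ws i ∈ A := fun i => by
        refine Submodule.span_le.2 ?_ (hw1 i)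
        rintro _ ⟨h, rfl⟩
        exact hAn _ (hHN h.2) _ (heA b hb)
      set S := Z ⊔ Submodule.span R (Set.range ws) with hS
      have hSA : S ≤ A := sup_le hZA (Submodule.span_le.2 (by rintro _ ⟨i, rfl⟩; exact hwA i))
      refine ⟨S, le_sup_left, hSA, fun hle => hi (hle (Submodule.mem_sup_right
        (Submodule.subset_span ⟨i, rfl⟩))), fun n hn x hx => ?_, ?_⟩
      · obtain ⟨g, hg, y, hy, rfl⟩ := hHP n hn
        have hgS : ∀ x ∈ S, ρ g x ∈ S := by
          intro x hx
          obtain ⟨z, hz, t, ht, rfl⟩ := Submodule.mem_sup.1 hx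
          rw [map_add]
          refine Submodule.add_mem_sup (hZn g (hHN hg) z hz) ?_
          refine (Submodule.span_le (p := (Submodule.span R (Set.range ws)).comap (ρ g))).2 ?_ ht
          rintro _ ⟨i, rfl⟩
          exact hw2 ⟨g, hg⟩ i
        rw [rho_mul]
        refine hgS _ ?_
        rw [show ρ y x = (ρ y x - x) + x by abel]
        exact add_mem (Submodule.mem_sup_left (hPA y hy x (hSA hx))) hx
      · obtain ⟨a, ha, hidx'⟩ := exists_relIndex_sup_span hpR (Z := Z) (Finset.univ.image ws)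
          fun v hv => by
            obtain ⟨i, -, rfl⟩ := Finset.mem_image.1 hv
            exact hpA _ (hwA i)
        refine ⟨a, ha.trans (Finset.card_image_le.trans (by simpa using hk)), ?_⟩
        rwa [Finset.coe_image, Finset.coe_univ, Set.image_univ] at hidx'
    have hbound : ∀ a b : ℕ, (p : ℤ) * Module.finrank R Fx - d = ((p : ℤ) - 1) * ((a : ℤ) - b) →
        a ≤ n₀ → b ≤ n₀ → |(p : ℤ) * Module.finrank R Fx - d| ≤ ((p : ℤ) - 1) * n₀ := by
      intro a b h ha hb
      rw [h, abs_mul, abs_of_nonneg hp1]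
      exact mul_le_mul_of_nonneg_left (abs_le.2 ⟨by omega, by omega⟩) hp1
    by_cases hXs : Fx ≤ TL
    · by_cases hKs : K ≤ I
      · have := rank_eq_of_index hpR hu (a := 0) (b := 0)
          (by rw [pow_zero]; exact AddSubgroup.relIndex_eq_one.2 fun x hx => hXs hx)
          (by rw [pow_zero]; exact AddSubgroup.relIndex_eq_one.2 fun x hx => hKs hx)
        rw [Module.finrank_fin_fun] at this
        exact hbound 0 0 this (Nat.zero_le _) (Nat.zero_le _)
      · obtain ⟨S, hIS, hSK, hSI, hSn, a, ha, hSidx⟩ := hline K I (augS_le_ker hu) hpI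
          hbW heK hKn (fun n hn v hv => normalizer_augS ρ hy₀ hord hn hv)
          (fun y hy v _ => (hPtriv y hy).2 v) hKs
        rcases proj_dichotomy hy₀ hord hpR hidx hbrick TL S (range_trOp_le hu) le_rfl hSK hIS
            hTn hSn with ⟨-, hs⟩ | ⟨-, hb⟩
        · exact absurd hs hSI
        · have := rank_eq_of_index hpR hu (a := 0) (b := a)
            (by rw [pow_zero]; exact AddSubgroup.relIndex_eq_one.2 fun x hx => hXs hx)
            (by rw [← hSidx, le_antisymm hb hSK])
          rw [Module.finrank_fin_fun] at this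
          exact hbound 0 a this (Nat.zero_le _) ha
    · obtain ⟨S, hTS, hSF, hST, hSn, a, ha, hSidx⟩ := hline Fx TL (range_trOp_le hu) hpT
        hbU heFx (fun n hn v hv => normalizer_fix ρ hy₀ hord hn hv) hTn
        (fun y hy v hv => by rw [(hPtriv y hy).1 v hv, sub_self]; exact TL.zero_mem) hXs
      rcases proj_dichotomy hy₀ hord hpR hidx hbrick S I hSF hTS (augS_le_ker hu) le_rfl hSn
          (fun n hn v hv => normalizer_augS ρ hy₀ hord hn hv) with ⟨hs, -⟩ | ⟨hb, hKb⟩
      · exact absurd hs hST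
      · have := rank_eq_of_index hpR hu (a := a) (b := 0)
          (by rw [← hSidx, le_antisymm hb hSF])
          (by rw [pow_zero]; exact AddSubgroup.relIndex_eq_one.2 fun x hx => hKb hx)
        rw [Module.finrank_fin_fun] at this
        exact hbound a 0 this ha (Nat.zero_le _)

end Cfsg.Agent.DefectOne.Herbrand
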