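import Cfsg.Agent.Lib.Char.FieldRealization
import Mathlib.RingTheory.Localization.Module
import Mathlib.LinearAlgebra.Projection
import Mathlib.LinearAlgebra.FreeModule.PID

/-!
# Matrix units of a group of order invertible in a coefficient ring

For a finite group `H` and a principal ideal domain `R ⊆ ℂ` with enough roots of unity in which
`|H|` is invertible, every irreducible character is afforded by an `R`-lattice; the resulting
matrix units give small invariant spans inside a prescribed isotypic part.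
-/

set_option linter.style.haveILetI false
set_option linter.unusedSectionVars false

namespace Cfsg.Agent.DefectOne.Units

open Cfsg Cfsg.Agent Module
open scoped ComplexConjugate

variable {R : Type} [CommRing R] [IsDomain R] [IsPrincipalIdealRing R] [CharZero R]
  {H : Type*} [Group H] [Fintype H]

section Realise

variable (Φ : R →+* ℂ) (hΦ : Function.Injective Φ) {z : R} {N : ℕ} (hz : IsPrimitiveRoot z N)
  (hN : Nat.card H ∣ N) (hN0 : N ≠ 0)
include hΦ hz hN hN0

open Classical in
/-- Every irreducible character is afforded over `R`. -/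
theorem exists_lattice_rep (ψ : IrrCharacter H) :
    ∃ π : H →* Matrix (Fin (Char.degree ψ)) (Fin (Char.degree ψ)) R,
      ∀ h, Φ ((π h).trace) = ψ.1 h := by
  set K := FractionRing R with hK
  let ι : K →+* ℂ := IsFractionRing.lift hΦ
  have hι : ∀ r, ι (algebraMap R K r) = Φ r := fun r => IsFractionRing.lift_algebraMap hΦ r
  let E : IntermediateField ℚ ℂ := ι.fieldRange.toIntermediateField fun q => ⟨(q : K), map_ratCast ι q⟩
  haveI : NeZero N := ⟨hN0⟩
  have hzC : IsPrimitiveRoot (Φ z) N := hz.map_of_injective hΦ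
  have hroot : ∀ w : ℂ, w ^ Nat.card H = 1 → w ∈ E := fun w hw => by
    obtain ⟨i, -, rfl⟩ := hzC.eq_pow_of_pow_eq_one (ξ := w) (by
      obtain ⟨d, rfl⟩ := hN; rw [pow_mul, hw, one_pow])
    exact E.pow_mem (show Φ z ∈ E from ⟨algebraMap R K z, hι z⟩) i
  have hpow : ∀ (g : H) (w : ℂ), w ^ orderOf g = 1 → w ∈ E := fun g w hw => hroot w (by
    obtain ⟨d, hd⟩ := orderOf_dvd_natCard g
    rw [hd, pow_mul, hw, one_pow])
  have hvals : ∀ χ : IrrCharacter H, ∀ g, χ.1 g ∈ E := fun χ g => by
    obtain ⟨k, ρ, hρ, he⟩ := χ.2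
    obtain ⟨μ, hμ, hs⟩ := CharInt.exists_roots_character ρ g
    rw [← he, hs]
    exact E.sum_mem fun i _ => hpow g _ (hμ i)
  have hlin : ∀ (L : Subgroup H) (lam : L →* ℂ) (h : L), lam h ∈ E := fun L lam h =>
    hpow (h : H) _ (by rw [← map_pow, Subgroup.orderOf_coe, pow_orderOf_eq_one, map_one])
  obtain ⟨n, σ, hσ⟩ := Char.isKChar_of_values E hvals hlin (Char.irr_isCharacter ψ)
  -- matrices over `K`
  let r : K ≃+* E := RingEquiv.ofBijective (ι.codRestrict E.toSubfield fun x => ⟨x, rfl⟩)
    ⟨fun a b hab => ι.injective (congrArg Subtype.val hab), fun x => by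
      obtain ⟨a, ha⟩ := x.2; exact ⟨a, Subtype.ext ha⟩⟩
  let A : H →* Matrix (Fin n) (Fin n) K :=
    (r.symm.toRingHom.mapMatrix.toMonoidHom).comp
      ((LinearMap.toMatrixAlgEquiv' (R := E) (n := Fin n)).toAlgHom.toRingHom.toMonoidHom.comp σ)
  have hA : ∀ h, ι ((A h).trace) = ψ.1 h := fun h => by
    rw [hσ h, Representation.character,
      LinearMap.trace_eq_matrix_trace E (Pi.basisFun E (Fin n)), LinearMap.toMatrix_eq_toMatrix']
    show ι (Matrix.trace ((LinearMap.toMatrix' (σ h)).map r.symm)) = _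
    rw [Matrix.trace, Matrix.trace]
    simp only [Matrix.diag, Matrix.map_apply]
    rw [← map_sum]
    exact congrArg Subtype.val (r.apply_symm_apply _)
  -- the lattice
  let gens : H × Fin n → (Fin n → K) := fun x => (A x.1).mulVec (Pi.single x.2 1)
  let L : Submodule R (Fin n → K) := Submodule.span R (Set.range gens)
  haveI : Module.Finite R L := Module.Finite.span_of_finite R (Set.finite_range gens)
  haveI : Module.IsTorsionFree R (Fin n → K) := inferInstance
  obtain ⟨d, b⟩ : Σ d, Basis (Fin d) R L := ⟨_, Module.finBasis R L⟩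
  have hAL : ∀ h, ∀ v ∈ L, (A h).mulVec v ∈ L := by
    intro h v hv
    induction hv using Submodule.span_induction with
    | mem x hx =>
      obtain ⟨⟨g, i⟩, rfl⟩ := hx
      refine Submodule.subset_span ⟨(h * g, i), ?_⟩
      show (A (h * g)).mulVec _ = _
      rw [map_mul, ← Matrix.mulVec_mulVec]
    | zero => rw [Matrix.mulVec_zero]; exact L.zero_mem
    | add x y _ _ hx hy => rw [Matrix.mulVec_add]; exact L.add_mem hx hy
    | smul a x _ hx => rw [Matrix.mulVec_smul]; exact L.smul_mem a hx
  let w : Fin d → (Fin n → K) := fun i => (b i : Fin n → K)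
  have hli : LinearIndependent K w := by
    rw [← LinearIndependent.iff_fractionRing R K]
    exact b.linearIndependent.map' L.subtype L.ker_subtype
  have hspan : ⊤ ≤ Submodule.span K (Set.range w) := by
    rw [← (Pi.basisFun K (Fin n)).span_eq, Submodule.span_le]
    rintro _ ⟨i, rfl⟩
    have hiL : (Pi.basisFun K (Fin n)) i ∈ L := Submodule.subset_span ⟨(1, i), by
      ext k
      simp [gens, Pi.basisFun_apply, Matrix.one_apply, Pi.single_apply]⟩
    have := congrArg Subtype.val (b.sum_repr ⟨_, hiL⟩)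
    rw [SetLike.mem_coe, show (Pi.basisFun K (Fin n)) i = _ from this.symm,
      AddSubmonoidClass.coe_finsetSum]
    refine Submodule.sum_mem _ fun k _ => ?_
    rw [SetLike.val_smul, ← algebraMap_smul K]
    exact Submodule.smul_mem _ _ (Submodule.subset_span ⟨k, rfl⟩)
  let bK : Basis (Fin d) K (Fin n → K) := Basis.mk hli hspan
  let B : H → Matrix (Fin d) (Fin d) R := fun h => Matrix.of fun k i =>
    b.repr ⟨(A h).mulVec (w i), hAL h _ (b i).2⟩ k
  have hB : ∀ h, LinearMap.toMatrix bK bK (Matrix.toLin' (A h)) = (B h).map (algebraMap R K) := by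
    intro h
    ext k i
    rw [LinearMap.toMatrix_apply, Matrix.toLin'_apply, show bK i = w i from Basis.mk_apply _ _ i,
      show (A h).mulVec (w i) = ∑ k, algebraMap R K (B h k i) • bK k from ?_, bK.repr_sum_self]
    · rfl
    · have h1 := congrArg Subtype.val (b.sum_repr ⟨(A h).mulVec (w i), hAL h _ (b i).2⟩)
      conv_lhs => rw [show (A h).mulVec (w i) =
        ((⟨(A h).mulVec (w i), hAL h _ (b i).2⟩ : L) : Fin n → K) from rfl]
      rw [← h1, AddSubmonoidClass.coe_finsetSum]
      refine Finset.sum_congr rfl fun k _ => ?_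
      rw [SetLike.val_smul, algebraMap_smul, show bK k = w k from Basis.mk_apply _ _ k]
      rfl
  have hinj : Function.Injective fun X : Matrix (Fin d) (Fin d) R => X.map (algebraMap R K) :=
    Matrix.map_injective (IsFractionRing.injective R K)
  let π : H →* Matrix (Fin d) (Fin d) R :=
    { toFun := B
      map_one' := hinj (by
        show (B 1).map _ = (1 : Matrix (Fin d) (Fin d) R).map _
        rw [← hB, map_one, Matrix.toLin'_one, LinearMap.toMatrix_id,
          Matrix.map_one _ (map_zero _) (map_one _)])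
      map_mul' := fun g h => hinj (by
        show (B (g * h)).map _ = (B g * B h).map _
        rw [Matrix.map_mul, ← hB, ← hB, ← hB, map_mul, Matrix.toLin'_mul,
          LinearMap.toMatrix_comp bK bK bK]) }
  have htr : ∀ h, Φ ((π h).trace) = ψ.1 h := fun h => by
    rw [← hA h, ← hι]
    congr 1
    show algebraMap R K (B h).trace = _
    rw [show algebraMap R K (B h).trace = ((B h).map (algebraMap R K)).trace from
      AddMonoidHom.map_trace (algebraMap R K).toAddMonoidHom (B h)]
    rw [← hB, ← LinearMap.trace_eq_matrix_trace, Matrix.trace_toLin'_eq]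
  have hd : d = Char.degree ψ := by
    have := htr 1
    rw [map_one, Matrix.trace_one, Fintype.card_fin, map_natCast, Char.apply_one_eq_degree] at this
    exact_mod_cast this
  subst hd
  exact ⟨π, htr⟩

end Realise

/-- An averaging element is idempotent. -/
theorem smul_sum_mul_self {V : Type*} [Group V] [Fintype V] {A : Type*} [Ring A] [Algebra R A]
    (f : V →* A) {w : V → R} {c : R} (hconv : ∀ x, ∑ a, w a * w (a⁻¹ * x) = (Nat.card V : R) * w x)
    (hc : c * (Nat.card V : R) = 1) :
    (c • ∑ v, w v • f v) * (c • ∑ v, w v • f v) = c • ∑ v, w v • f v := by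
  have h1 : (∑ v, w v • f v) * (∑ v, w v • f v) = (Nat.card V : R) • ∑ v, w v • f v := by
    rw [Finset.sum_mul_sum, Finset.smul_sum]
    calc ∑ a, ∑ b, w a • f a * (w b • f b) = ∑ a, ∑ x, (w a * w (a⁻¹ * x)) • f x := by
          refine Finset.sum_congr rfl fun a _ => ?_
          refine Fintype.sum_equiv (Equiv.mulLeft a) _ _ fun b => ?_
          rw [smul_mul_smul_comm, ← map_mul, Equiv.coe_mulLeft, inv_mul_cancel_left]
      _ = _ := by
          rw [Finset.sum_comm]
          refine Finset.sum_congr rfl fun x _ => ?_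
          rw [← Finset.sum_smul, hconv, mul_smul]
  rw [smul_mul_smul_comm, h1, smul_smul, mul_assoc, hc, mul_one]

/-- An idempotent matrix of trace zero vanishes. -/
theorem eq_zero_of_idem_trace {n : ℕ} {W : Matrix (Fin n) (Fin n) R} (hW : W * W = W)
    (ht : W.trace = 0) : W = 0 := by
  set f := Matrix.toLin' W with hf
  have hff : ∀ x, f (f x) = f x := fun x => by
    rw [hf, ← LinearMap.comp_apply, ← Matrix.toLin'_mul, hW]
  have hp : LinearMap.IsProj (LinearMap.range f) f :=
    ⟨fun x => ⟨x, rfl⟩, by rintro _ ⟨y, rfl⟩; exact hff y⟩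
  have h1 := LinearMap.IsProj.trace hp
  rw [hf, Matrix.trace_toLin'_eq, ht] at h1
  have h2 : Module.finrank R (LinearMap.range (Matrix.toLin' W)) = 0 := by
    exact_mod_cast h1.symm
  rw [← hf] at h2
  have h3 : LinearMap.range f = ⊥ := Submodule.finrank_eq_zero.1 h2
  have h4 : f = 0 := LinearMap.range_eq_bot.1 h3
  exact Matrix.toLin'.injective (h4.trans (map_zero _).symm)

open Classical in
/-- Inside the part fixed by an averaging element, there are small invariant spans. -/
theorem exists_small_invariant (Φ : R →+* ℂ) (hΦ : Function.Injective Φ) {z : R} {N : ℕ}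
    (hz : IsPrimitiveRoot z N) (hN : Nat.card H ∣ N) (hN0 : N ≠ 0)
    (hH : IsUnit (Nat.card H : R)) {V : Type*} [Group V] [Fintype V] (j : V →* H) {w : V → R}
    {c : R} (hconv : ∀ x, ∑ a, w a * w (a⁻¹ * x) = (Nat.card V : R) * w x)
    (hc : c * (Nat.card V : R) = 1) (n₀ : ℕ)
    (hsmall : ∀ ψ : IrrCharacter H, ∑ v, Φ (w v) * ψ.1 (j v) ≠ 0 → Char.degree ψ ≤ n₀)
    {L : Type*} [AddCommGroup L] [Module R L] (f : H →* Module.End R L) (Z : Submodule R L)
    {v : L} (hv : (c • ∑ a, w a • f (j a)) v = v) (hvZ : v ∉ Z) :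
    ∃ d ≤ n₀, ∃ ws : Fin d → L,
      (∀ i, ws i ∈ Submodule.span R (Set.range fun h => f h v)) ∧
      (∀ g i, f g (ws i) ∈ Submodule.span R (Set.range ws)) ∧ ∃ i, ws i ∉ Z := by
  choose π hπ using fun ψ : IrrCharacter H => exists_lattice_rep Φ hΦ hz hN hN0 ψ
  obtain ⟨u, hu⟩ := hH.exists_left_inv
  let E : (ψ : IrrCharacter H) → Fin (Char.degree ψ) → Fin (Char.degree ψ) → Module.End R L :=
    fun ψ i k => ((Char.degree ψ : R) * u) • ∑ h : H, (π ψ h⁻¹) k i • f h
  set e := c • ∑ a, w a • f (j a) with he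
  have hact : ∀ ψ g i k, f g * E ψ i k = ∑ l, (π ψ g) l i • E ψ l k := by
    intro ψ g i k
    simp only [E, mul_smul_comm, Finset.mul_sum, Finset.smul_sum, ← map_mul]
    rw [Finset.sum_comm]
    refine Fintype.sum_equiv (Equiv.mulLeft g) _ _ fun h => ?_
    rw [Equiv.coe_mulLeft, show ∑ l, (π ψ g) l i • ((Char.degree ψ : R) * u) • (π ψ (g * h)⁻¹) k l • f (g * h) =
      (((Char.degree ψ : R) * u) * ∑ l, (π ψ (g * h)⁻¹) k l * (π ψ g) l i) • f (g * h) by
      rw [Finset.mul_sum, Finset.sum_smul]
      exact Finset.sum_congr rfl fun l _ => by rw [smul_smul, smul_smul]; ring_nf]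
    rw [← Matrix.mul_apply, ← map_mul, mul_inv_rev, inv_mul_cancel_right, smul_smul]
  have hone : ∑ ψ, ∑ i, E ψ i i = 1 := by
    simp only [E, ← Finset.smul_sum]
    rw [Finset.sum_congr rfl fun ψ _ => show
        ((Char.degree ψ : R) * u) • ∑ i, ∑ h, (π ψ h⁻¹) i i • f h =
        ∑ h, ((Char.degree ψ : R) * u * (π ψ h⁻¹).trace) • f h by
      rw [Finset.sum_comm, Finset.smul_sum]
      refine Finset.sum_congr rfl fun h _ => ?_
      rw [← Finset.sum_smul, smul_smul]; rfl, Finset.sum_comm]
    simp only [← Finset.sum_smul]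
    rw [Finset.sum_eq_single (1 : H)]
    · rw [map_one, show ∑ ψ : IrrCharacter H, (Char.degree ψ : R) * u * (π ψ (1 : H)⁻¹).trace = 1 from
        hΦ ?_, one_smul]
      simp only [map_sum, map_mul, map_natCast, hπ]
      rw [inv_one, map_one Φ]
      rw [Finset.sum_congr rfl fun ψ _ => show (Char.degree ψ : ℂ) * Φ u * ψ.1 (1 : H) =
        Φ u * (ψ.1 1 * ψ.1 1) by rw [Char.apply_one_eq_degree]; ring, ← Finset.mul_sum,
        Char.sum_irr_degree_mul, if_pos rfl, ← map_natCast Φ (Nat.card H), ← map_mul, hu, map_one]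
    · intro h _ hne
      rw [show ∑ ψ : IrrCharacter H, (Char.degree ψ : R) * u * (π ψ h⁻¹).trace = 0 from
        hΦ ?_, zero_smul]
      simp only [map_sum, map_mul, map_natCast, hπ, map_zero]
      rw [Finset.sum_congr rfl fun ψ _ => show (Char.degree ψ : ℂ) * Φ u * ψ.1 h⁻¹ =
        Φ u * (ψ.1 1 * ψ.1 h⁻¹) by rw [Char.apply_one_eq_degree]; ring, ← Finset.mul_sum,
        Char.sum_irr_degree_mul, if_neg (inv_ne_one.2 hne), mul_zero]
    · simp
  obtain ⟨ψ, k, hk⟩ : ∃ ψ k, E ψ k k v ∉ Z := by
    by_contra! hall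
    refine hvZ ?_
    have h1 : (∑ ψ, ∑ i, E ψ i i) v = v := by rw [hone]; rfl
    rw [← h1, LinearMap.sum_apply]
    refine Z.sum_mem fun ψ _ => ?_
    rw [LinearMap.sum_apply]
    exact Z.sum_mem fun i _ => hall ψ i
  have hdeg : Char.degree ψ ≤ n₀ := by
    by_contra hgt
    refine hk ?_
    set W := c • ∑ a, w a • π ψ (j a) with hW
    have hW0 : W = 0 := by
      refine eq_zero_of_idem_trace (smul_sum_mul_self ((π ψ).comp j) hconv hc) (hΦ ?_)
      simp only [hW, Matrix.trace_smul, Matrix.trace_sum, smul_eq_mul, map_mul, map_sum, hπ, map_zero]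
      by_contra hne
      exact hgt (hsmall ψ fun h0 => hne (by rw [h0, mul_zero]))
    have hE : E ψ k k * e = 0 := by
      simp only [E, he, smul_mul_assoc, mul_smul_comm, Finset.sum_mul, Finset.mul_sum,
        Finset.smul_sum, smul_smul, ← map_mul]
      rw [Finset.sum_congr rfl fun a _ => Fintype.sum_equiv (Equiv.mulRight (j a)) _
        (fun g => ((Char.degree ψ : R) * u * (c * (w a * (π ψ (j a * g⁻¹)) k k))) • f g) fun h => by
          rw [Equiv.coe_mulRight, mul_inv_rev, mul_inv_cancel_left]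
          congr 1
          ring, Finset.sum_comm]
      refine Finset.sum_eq_zero fun g _ => ?_
      rw [← Finset.sum_smul, ← Finset.mul_sum, ← Finset.mul_sum,
        show c * ∑ a, w a * (π ψ (j a * g⁻¹)) k k = ((W * π ψ g⁻¹) k k) by
          simp only [hW, smul_mul_assoc, Finset.sum_mul, Matrix.smul_apply, Matrix.sum_apply,
            smul_eq_mul, map_mul],
        hW0, zero_mul, Matrix.zero_apply, mul_zero, zero_smul]
    have h3 := LinearMap.congr_fun hE v
    rw [Module.End.mul_apply, hv] at h3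
    rw [h3]; exact Z.zero_mem
  refine ⟨_, hdeg, fun i => E ψ i k v, fun i => ?_, fun g i => ?_, k, hk⟩
  · simp only [E, LinearMap.smul_apply, LinearMap.sum_apply]
    exact Submodule.smul_mem _ _ (Submodule.sum_mem _ fun h _ =>
      Submodule.smul_mem _ _ (Submodule.subset_span ⟨h, rfl⟩))
  · rw [← Module.End.mul_apply, hact, LinearMap.sum_apply]
    exact Submodule.sum_mem _ fun l _ => Submodule.smul_mem _ _ (Submodule.subset_span ⟨l, rfl⟩)

end Cfsg.Agent.DefectOne.Units
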