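import Mathlib.RingTheory.WittVector.DiscreteValuationRing
import Mathlib.RingTheory.WittVector.Complete
import Mathlib.RingTheory.WittVector.Teichmuller
import Mathlib.FieldTheory.Finite.GaloisField
import Mathlib.Topology.Algebra.MvPolynomial
import Mathlib.SetTheory.Cardinal.Continuum
import Mathlib.RingTheory.RootsOfUnity.EnoughRootsOfUnity

/-!
# The unramified extensions of `ℤ_p` as Witt vectors of finite fields
-/

set_option linter.style.haveILetI false
set_option linter.unusedSectionVars false

namespace Cfsg.Agent.DefectOne.Unram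

open scoped Cardinal

variable (p : ℕ) [hp : Fact p.Prime] (s : ℕ)

/-- The Witt vectors of the field with `p ^ s` elements. -/
abbrev Wt : Type := WittVector p (GaloisField p s)

instance instTopField : TopologicalSpace (GaloisField p s) := ⊥

instance instDiscreteField : DiscreteTopology (GaloisField p s) := ⟨rfl⟩

instance instTopWt : TopologicalSpace (Wt p s) :=
  TopologicalSpace.induced (fun x => x.coeff) inferInstance

theorem continuous_coeff (n : ℕ) : Continuous fun x : Wt p s => x.coeff n :=
  (continuous_apply n).comp continuous_induced_dom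

theorem continuous_peval {k : ℕ} (q : MvPolynomial (Fin k × ℕ) ℤ) {X : Type*} [TopologicalSpace X]
    (F : Fin k → X → Wt p s) (hF : ∀ i, Continuous (F i)) :
    Continuous fun x => WittVector.peval q fun i => (F i x).coeff := by
  simp only [WittVector.peval, MvPolynomial.aeval_def, MvPolynomial.eval₂_eq_eval_map]
  refine (MvPolynomial.continuous_eval _).comp (continuous_pi fun i => ?_)
  exact (continuous_coeff p s i.2).comp (hF i.1)

instance instTopRingWt : IsTopologicalRing (Wt p s) where
  continuous_add := by
    refine continuous_induced_rng.2 (continuous_pi fun n => ?_)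
    have := continuous_peval p s (WittVector.wittAdd p n) (X := Wt p s × Wt p s)
      ![Prod.fst, Prod.snd] (fun i => by fin_cases i <;> simp [continuous_fst, continuous_snd])
    refine this.congr fun x => ?_
    simp only [Function.comp_apply, WittVector.add_coeff]
    congr 1
    funext i
    fin_cases i <;> rfl
  continuous_mul := by
    refine continuous_induced_rng.2 (continuous_pi fun n => ?_)
    have := continuous_peval p s (WittVector.wittMul p n) (X := Wt p s × Wt p s)
      ![Prod.fst, Prod.snd] (fun i => by fin_cases i <;> simp [continuous_fst, continuous_snd])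
    refine this.congr fun x => ?_
    simp only [Function.comp_apply, WittVector.mul_coeff]
    congr 1
    funext i
    fin_cases i <;> rfl
  continuous_neg := by
    refine continuous_induced_rng.2 (continuous_pi fun n => ?_)
    have := continuous_peval p s (WittVector.wittNeg p n) (X := Wt p s)
      ![id] (fun i => by fin_cases i; simp [continuous_id])
    refine this.congr fun x => ?_
    simp only [Function.comp_apply, WittVector.neg_coeff]
    congr 1
    funext i
    fin_cases i; rfl

/-- The coefficients form a homeomorphism. -/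
def coeffHomeo : Wt p s ≃ₜ (ℕ → GaloisField p s) where
  toFun x := x.coeff
  invFun f := WittVector.mk p f
  left_inv _ := WittVector.ext fun _ => rfl
  right_inv _ := rfl
  continuous_toFun := continuous_induced_dom
  continuous_invFun := continuous_induced_rng.2 continuous_id

instance instCompactWt : CompactSpace (Wt p s) := (coeffHomeo p s).symm.compactSpace

instance instT2Wt : T2Space (Wt p s) := (coeffHomeo p s).symm.t2Space

theorem irreducible_p : Irreducible ((p : ℕ) : Wt p s) := WittVector.irreducible p

instance instCharZeroWt : CharZero (Wt p s) := by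
  refine charZero_of_inj_zero fun n hn => ?_
  by_contra h0
  obtain ⟨e, m, hm, rfl⟩ := Nat.exists_eq_pow_mul_and_not_dvd h0 p hp.out.ne_one
  rw [Nat.cast_mul, Nat.cast_pow, mul_eq_zero] at hn
  rcases hn with hn | hn
  · exact (irreducible_p p s).ne_zero (pow_eq_zero_iff'.1 hn).1
  · refine hm ((CharP.cast_eq_zero_iff (GaloisField p s) p m).1 ?_)
    have := congrArg (WittVector.constantCoeff (p := p)) hn
    rwa [map_natCast, map_zero] at this

instance instFiniteResidue : Finite (Wt p s ⧸ Ideal.span {((p : ℕ) : Wt p s)}) :=
  Finite.of_equiv _ (WittVector.quotientPEquiv (p := p) (k := GaloisField p s)).toEquiv.symm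

theorem mk_eq (hs : s ≠ 0) : #(Wt p s) = 𝔠 := by
  rw [Cardinal.mk_congr (coeffHomeo p s).toEquiv, ← Cardinal.power_def, Cardinal.mk_nat,
    ← Nat.cast_card, GaloisField.card p s hs, Cardinal.nat_power_aleph0]
  calc 2 ≤ p := hp.out.two_le
    _ = p ^ 1 := (pow_one p).symm
    _ ≤ p ^ s := Nat.pow_le_pow_right hp.out.pos (Nat.one_le_iff_ne_zero.2 hs)

/-- Suitable degrees give all roots of unity of a given order prime to `p`. -/
theorem exists_root {m : ℕ} (hm : ¬ p ∣ m) :
    ∃ s : ℕ, s ≠ 0 ∧ ∃ z : Wt p s, IsPrimitiveRoot z m := by
  have hm0 : 0 < m := Nat.pos_of_ne_zero fun h0 => hm (h0 ▸ dvd_zero p)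
  refine ⟨m.totient, (Nat.totient_pos.2 hm0).ne', ?_⟩
  haveI : NeZero m := ⟨hm0.ne'⟩
  haveI : Fintype (GaloisField p m.totient) := Fintype.ofFinite _
  have hdvd : m ∣ Fintype.card (GaloisField p m.totient) - 1 := by
    rw [← Nat.card_eq_fintype_card, GaloisField.card p _ (Nat.totient_pos.2 hm0).ne']
    exact (Nat.modEq_iff_dvd' (Nat.one_le_pow _ _ hp.out.pos)).1
      (Nat.ModEq.pow_totient ((hp.out.coprime_iff_not_dvd).2 hm)).symm
  obtain ⟨g, hg⟩ := IsCyclic.exists_generator (α := (GaloisField p m.totient)ˣ)
  have hord : orderOf g = Fintype.card (GaloisField p m.totient) - 1 := by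
    rw [orderOf_eq_card_of_forall_mem_zpowers hg, Nat.card_units, Nat.card_eq_fintype_card]
  obtain ⟨c, hc⟩ := hdvd
  have hc0 : c ≠ 0 := fun h0 => by
    rw [h0, mul_zero] at hc
    have := Fintype.one_lt_card (α := GaloisField p m.totient)
    omega
  have hz : IsPrimitiveRoot ((g ^ c : (GaloisField p m.totient)ˣ) : GaloisField p m.totient) m := by
    rw [IsPrimitiveRoot.coe_units_iff]
    have h1 : orderOf (g ^ c) = m := by
      rw [orderOf_pow' g hc0, hord, hc, Nat.gcd_mul_left_left,
        Nat.mul_div_cancel _ (Nat.pos_of_ne_zero hc0)]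
    exact IsPrimitiveRoot.iff_orderOf.2 h1
  refine ⟨WittVector.teichmuller p _, hz.map_of_injective (f := WittVector.teichmuller p) ?_⟩
  intro a b hab
  simpa using congrArg (fun x => x.coeff 0) hab

end Cfsg.Agent.DefectOne.Unram
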