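import Cfsg.Agent.Lib.DefectOne.LocalData
import Cfsg.Agent.Lib.DefectOne.BrickBound
import Cfsg.Agent.Lib.DefectOne.GenRep
import Cfsg.Agent.Lib.DefectOne.UnramRing
import Cfsg.Agent.Lib.DefectOne.MatrixUnits
import Cfsg.Agent.Lib.Char.CliffordGallagher
import Cfsg.Agent.Lib.FullyRam.Basic
import Mathlib.GroupTheory.SchurZassenhaus

/-!
# The total of a block character on the `p`-singular sections

For a block `B` of `G`, `|G|_p = p`, induced from the block of `θ ∈ Irr V`, and `χ ∈ B`, the total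
`T` of the `θ`-component of `χ` on `P - 1` satisfies `N |T| ≤ p - 1` where `N` counts, with
multiplicity, the Galois conjugates of `χ` over the unramified field of the `p'`-roots of unity.
-/

set_option linter.style.haveILetI false
set_option linter.unusedSectionVars false

namespace Cfsg.Agent.DefectOne.Local

open Cfsg Cfsg.Agent
open scoped ComplexConjugate Classical

universe u

variable {G : Type u} [Group G] [Fintype G] {p : ℕ} [hp : Fact p.Prime] {P : Sylow p G}

/-- `σ` fixes the roots of unity of order the `p'`-part of `|G|`. -/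
def Fixes (G : Type*) [Group G] (p : ℕ) (σ : ℂ ≃+* ℂ) : Prop :=
  ∀ w : ℂ, w ^ (Nat.card G / p ^ (Nat.card G).factorization p) = 1 → σ w = w

theorem card_dvd_pprime {H : Subgroup G} (hH : ¬ p ∣ Nat.card H) :
    Nat.card H ∣ Nat.card G / p ^ (Nat.card G).factorization p := by
  refine Nat.Coprime.dvd_of_dvd_mul_left (Nat.Coprime.pow_right ((Nat.card G).factorization p)
    ((hp.out.coprime_iff_not_dvd).2 hH).symm) ?_
  rw [Nat.ordProj_mul_ordCompl_eq_self]
  exact Subgroup.card_subgroup_dvd_card H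

/-- The values of characters of `V` are fixed. -/
theorem apply_fix {σ : ℂ ≃+* ℂ} (hσ : Fixes G p σ) (θ : IrrCharacter (Vsub P)) (v : Vsub P) :
    σ (θ.1 v) = θ.1 v := by
  obtain ⟨k, ρ, hρ, he⟩ := θ.2
  obtain ⟨μ, hμ, hs⟩ := CharInt.exists_roots_character ρ v
  rw [← he, hs, map_sum]
  refine Finset.sum_congr rfl fun i _ => hσ _ ?_
  obtain ⟨d, hd⟩ := (orderOf_dvd_natCard v).trans (card_dvd_pprime (not_dvd_card (P := P)))
  rw [hd, pow_mul, hμ i, one_pow]

theorem comp_map {σ : ℂ ≃+* ℂ} (hσ : Fixes G p σ) {χ η : IrrCharacter G}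
    (hη : η.1 = fun g => σ (χ.1 g)) (θ : IrrCharacter (Vsub P)) (y : (P : Subgroup G)) :
    comp η θ y = σ (comp χ θ y) := by
  simp only [comp, classInner, map_mul, map_inv₀, map_natCast, map_sum, hη]
  congr 1
  refine Finset.sum_congr rfl fun v _ => ?_
  rw [Char.IsCharacter.conj_apply (Char.irr_isCharacter θ), apply_fix hσ]

variable (hP : Nat.card P = p)
include hP

/-- The orbit of `θ` under the normalizer. -/
noncomputable def orb (θ : IrrCharacter (Vsub P)) : Finset (IrrCharacter (Vsub P)) :=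
  Finset.univ.image fun n : Nsub P => thetaN hP θ n

theorem mem_orb {θ θ' : IrrCharacter (Vsub P)} :
    θ' ∈ orb hP θ ↔ ∃ n : Nsub P, thetaN hP θ n = θ' := by simp [orb]

theorem self_mem_orb (θ : IrrCharacter (Vsub P)) : θ ∈ orb hP θ :=
  (mem_orb hP).2 ⟨1, thetaN_one hP θ⟩

theorem orb_conj {θ θ' : IrrCharacter (Vsub P)} (h : θ' ∈ orb hP θ) (n : Nsub P) :
    thetaN hP θ' n ∈ orb hP θ := by
  obtain ⟨k, rfl⟩ := (mem_orb hP).1 h
  exact (mem_orb hP).2 ⟨k * n, (thetaN_mul hP θ k n).symm⟩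

theorem orb_apply_one {θ θ' : IrrCharacter (Vsub P)} (h : θ' ∈ orb hP θ) : θ'.1 1 = θ.1 1 := by
  obtain ⟨k, rfl⟩ := (mem_orb hP).1 h
  exact thetaN_apply_one hP θ k

theorem exists_complement :
    ∃ H : Subgroup G, H ≤ Nsub P ∧ ¬ p ∣ Nat.card H ∧ Vsub P ≤ H ∧
      ∀ n ∈ Nsub P, ∃ h ∈ H, ∃ y ∈ (P : Subgroup G), n = h * y := by
  have hPN : (P : Subgroup G) ≤ Nsub P := Subgroup.le_normalizer
  set P' := (P : Subgroup G).subgroupOf (Nsub P) with hP'
  haveI : P'.Normal := Subgroup.normal_in_normalizer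
  have hcard : Nat.card P' = p :=
    (Nat.card_congr (Subgroup.subgroupOfEquivOfLe hPN).toEquiv).trans hP
  have hidx : ¬ p ∣ P'.index := fun hd => P.not_dvd_index (by
    rw [← Subgroup.relIndex_mul_index hPN]
    exact (show p ∣ (P : Subgroup G).relIndex (Nsub P) from hd).mul_right _)
  obtain ⟨K, hK⟩ := Subgroup.exists_right_complement'_of_coprime (N := P')
    (by rw [hcard]; exact (hp.out.coprime_iff_not_dvd).2 hidx)
  refine ⟨K.map (Nsub P).subtype, Subgroup.map_subtype_le K, ?_, fun v hv => ?_, fun n hn => ?_⟩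
  · rw [Subgroup.card_subtype, ← hK.symm.index_eq_card]; exact hidx
  · have hvC := V_le hv
    obtain ⟨⟨⟨y, hy⟩, ⟨k, hk⟩⟩, hyk⟩ := hK.2 ⟨v, Subgroup.centralizer_le_normalizer _ hvC⟩
    have h1 : (y : G) * k = v := congrArg Subtype.val hyk
    have hyP : (y : G) ∈ (P : Subgroup G) := hy
    have hkC : (k : G) ∈ Csub P := by
      rw [show (k : G) = (y : G)⁻¹ * v by rw [← h1]; group]
      exact mul_mem (inv_mem (P_le hP hyP)) hvC
    have hkr : ¬ p ∣ orderOf (k : G) := fun hd => by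
      refine hidx ?_
      rw [hK.symm.index_eq_card]
      rw [Subgroup.orderOf_coe] at hd
      exact hd.trans (Subgroup.orderOf_dvd_natCard _ hk)
    have hkV := mem_V hP hkC hkr
    have hyV : (y : G) ∈ Vsub P := by
      rw [show (y : G) = v * (k : G)⁻¹ by rw [← h1]; group]
      exact mul_mem hv (inv_mem hkV)
    have hy1 : (y : G) = 1 := by
      by_contra hne
      refine regular_of_mem hyV ?_
      rcases (Nat.dvd_prime hp.out).1
        ((Subgroup.orderOf_dvd_natCard _ hyP).trans (dvd_of_eq hP)) with h | h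
      · exact absurd (orderOf_eq_one_iff.1 h) hne
      · rw [h]
    rw [hy1, one_mul] at h1
    exact ⟨k, hk, h1⟩
  · obtain ⟨⟨⟨y, hy⟩, ⟨k, hk⟩⟩, hyk⟩ := hK.2 ⟨n, hn⟩
    have h1 : (y : G) * k = n := congrArg Subtype.val hyk
    refine ⟨k, ⟨k, hk, rfl⟩, (k : G)⁻¹ * y * k,
      (Subgroup.mem_normalizer_iff''.1 k.2 _).1 hy, ?_⟩
    rw [← h1]; group

variable {M : Ideal AlgInt} [M.IsMaximal] (hpM : (p : AlgInt) ∈ M) {B : Set (IrrCharacter G)}
  {θ : IrrCharacter (Vsub P)} (hθ : θ ∈ indSet hP M B)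

include hpM hθ

theorem indSet_iff {θ' : IrrCharacter (Vsub P)} : θ' ∈ indSet hP M B ↔ θ' ∈ orb hP θ := by
  rw [mem_orb]
  exact ⟨fun h => exists_thetaN hP hpM hθ h, by rintro ⟨n, rfl⟩; exact indSet_conj hP hpM hθ n⟩

/-- Components outside the orbit vanish on `P - 1`. -/
theorem comp_eq_zero {χ : IrrCharacter G} (hχ : χ ∈ B) {θ' : IrrCharacter (Vsub P)}
    (hθ' : θ' ∉ orb hP θ) {y : (P : Subgroup G)} (hy : y ≠ 1) : comp χ θ' y = 0 := by
  have h := comp_orth_self hP hpM hθ.2.1 hy θ' θ'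
  rw [if_neg fun hh => hθ' ((indSet_iff hP hpM hθ).1 hh.2)] at h
  have h2 : ∑ ψ ∈ Finset.univ.filter (· ∈ B), Complex.normSq (comp ψ θ' y) = 0 := by
    rw [← Complex.ofReal_eq_zero, Complex.ofReal_sum]
    rw [← h]
    exact Finset.sum_congr rfl fun ψ _ => (Complex.mul_conj _).symm
  exact Complex.normSq_eq_zero.1 ((Finset.sum_eq_zero_iff_of_nonneg
    fun ψ _ => Complex.normSq_nonneg _).1 h2 χ (Finset.mem_filter.2 ⟨Finset.mem_univ _, hχ⟩))

omit hpM hθ

/-- Characters of a complement over the orbit have small degree. -/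
theorem degree_le {H : Subgroup G} (hH : H ≤ Nsub P) (hHr : ¬ p ∣ Nat.card H) (hVH : Vsub P ≤ H)
    (θ : IrrCharacter (Vsub P)) (ψ : IrrCharacter H) {θ' : IrrCharacter (Vsub P)}
    (hθ' : θ' ∈ orb hP θ)
    (hne : classInner (fun v : Vsub P => ψ.1 ⟨v, hVH v.2⟩) θ'.1 ≠ 0) :
    (Char.degree ψ : ℕ) ≤ (orb hP θ).card * Char.degree θ := by
  haveI := Fintype.ofFinite H
  set V' := (Vsub P).subgroupOf H with hV'
  haveI : V'.Normal := ⟨fun v hv h => by
    rw [Subgroup.mem_subgroupOf] at hv ⊢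
    exact conj_mem_V hP (hH h.2) hv⟩
  haveI := Fintype.ofFinite V'
  let e : V' ≃* Vsub P := Subgroup.subgroupOfEquivOfLe hVH
  let φ : IrrCharacter V' := Char.irrCongr e.symm θ'
  have hφ : ∀ v, φ.1 v = θ'.1 (e v) := fun v => by simp [φ, Char.irrCongr]
  -- the quotient embeds into the automorphisms of `P`
  haveI : IsCyclic (H ⧸ V') := by
    let f : H →* MulAut (P : Subgroup G) :=
      (P : Subgroup G).normalizerMonoidHom.comp (Subgroup.inclusion hH)
    have hker : f.ker = V' := by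
      ext h
      rw [MonoidHom.mem_ker, MonoidHom.comp_apply, ← MonoidHom.mem_ker,
        Subgroup.normalizerMonoidHom_ker, Subgroup.mem_subgroupOf, hV', Subgroup.mem_subgroupOf]
      refine ⟨fun hC => mem_V hP hC fun hd => hHr ?_, fun hV => V_le hV⟩
      rw [Subgroup.orderOf_coe] at hd
      exact hd.trans (orderOf_dvd_natCard h)
    haveI : IsCyclic (P : Subgroup G) := isCyclic_of_prime_card hP
    haveI : Fact (Nat.card (P : Subgroup G)).Prime := ⟨by rw [hP]; exact hp.out⟩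
    haveI : IsCyclic (MulAut (P : Subgroup G)) :=
      isCyclic_of_surjective (IsCyclic.mulAutMulEquiv (P : Subgroup G)).symm.toMonoidHom
        (IsCyclic.mulAutMulEquiv (P : Subgroup G)).symm.surjective
    exact ((QuotientGroup.quotientMulEquivOfEq hker.symm).trans
      (QuotientGroup.quotientKerEquivRange f)).isCyclic.2 inferInstance
  set I := Char.inertia V' φ.1 with hI
  have hVI : V' ≤ I := Char.le_inertia V' (Char.IsCharacter.isClassFunction (Char.irr_isCharacter φ))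
  obtain ⟨ext, hext⟩ := FullyRam.exists_ext_cyclic V' hVI φ
    (fun g hg => hg) inferInstance
  haveI := Fintype.ofFinite I
  have hres : classInner (Char.resFun V' ψ.1) φ.1 ≠ 0 := by
    refine fun h0 => hne (Eq.trans ?_ h0)
    simp only [classInner, Char.resFun_apply, hφ, Nat.card_congr e.toEquiv]
    congr 1
    exact (Fintype.sum_equiv e.toEquiv _ _ fun v => rfl).symm
  obtain ⟨β, rfl⟩ := Char.exists_cgLift_eq hVI (fun g => Iff.rfl) hext ψ hres
  have hβ : β.1 1 = 1 := by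
    haveI : IsCyclic (I ⧸ V'.subgroupOf I) := by
      refine isCyclic_of_injective (QuotientGroup.map (V'.subgroupOf I) V' I.subtype
        (show V'.subgroupOf I ≤ V'.comap I.subtype from le_rfl)) ?_
      rw [injective_iff_map_eq_one]
      intro x hx
      obtain ⟨a, rfl⟩ := QuotientGroup.mk_surjective x
      rw [QuotientGroup.map_mk, QuotientGroup.eq_one_iff] at hx
      exact (QuotientGroup.eq_one_iff a).2 hx
    exact Char.apply_one_of_comm (IsCyclic.commutative.is_comm.comm) β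
  have h1 := Char.cgLift_apply_one hVI (fun g => Iff.rfl) hext β
  rw [hβ, mul_one, hφ, map_one, orb_apply_one hP hθ', Char.apply_one_eq_degree,
    Char.apply_one_eq_degree, ← Nat.cast_mul, Nat.cast_inj] at h1
  rw [h1, hI, Char.index_inertia]
  refine Nat.mul_le_mul_right _ ?_
  refine Finset.card_le_card_of_injOn (fun η => Char.irrCongr e η) (fun η hη => ?_)
    (fun a _ b _ hab => (Char.irrCongr e).injective hab)
  obtain ⟨g, rfl⟩ := (Char.mem_orbitFinset V').1 (Finset.mem_coe.1 hη)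
  refine Finset.mem_coe.2 ?_
  have : Char.irrCongr e (Char.conjChar V' φ g) = thetaN hP θ' ⟨g, hH g.2⟩ :=
    Subtype.ext (funext fun v => by
      show (Char.conjChar V' φ g).1 (e.symm v) = _
      rw [Char.conjChar_coe, Char.conjFun, hφ, thetaN_apply]
      exact congrArg θ'.1 (Subtype.ext rfl))
  show Char.irrCongr e (Char.conjChar V' φ g) ∈ orb hP θ
  rw [this]
  exact orb_conj hP hθ' _

include hpM hθ

/-- The total of the `θ`-component of a member of `B`, with the Galois multiplicities. -/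
theorem exists_total {χ : IrrCharacter G} (hχ : χ ∈ B) {T : ℤ}
    (hT : ∑ y ∈ Finset.univ.erase (1 : (P : Subgroup G)), comp χ θ y = T) :
    ∃ n : IrrCharacter G → ℕ, (∃ η, n η ≠ 0) ∧
      (∀ η, n η ≠ 0 → ∃ σ : ℂ ≃+* ℂ, Fixes G p σ ∧ η.1 = fun g => σ (χ.1 g)) ∧
      ((∑ η, n η : ℕ) : ℤ) * |T| ≤ (p : ℤ) - 1 ∧
      ∀ z ω : ℂ, IsPrimitiveRoot z p → IsPrimitiveRoot ω p → ∃ σ : ℂ ≃+* ℂ, Fixes G p σ ∧ σ z = ω ∧
        ∀ η η' : IrrCharacter G, (η'.1 = fun g => σ (η.1 g)) → n η' = n η := by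
  set m := Nat.card G / p ^ (Nat.card G).factorization p with hm
  have hmp : ¬ p ∣ m := Nat.not_dvd_ordCompl hp.out Nat.card_pos.ne'
  have hm0 : m ≠ 0 := fun h0 => hmp (h0 ▸ dvd_zero p)
  obtain ⟨s, hs, z₀, hz₀⟩ := Unram.exists_root p hmp
  have hpR := Unram.irreducible_p p s
  obtain ⟨Φ, d, ρ, n, hΦ, hbrick, hconj, hne, htrace, hinv, hgal⟩ :=
    Gen.exists_brick (Unram.Wt p s) (FractionRing (Unram.Wt p s)) (Unram.mk_eq p s hs) hpR χ
  have hzC : IsPrimitiveRoot (Φ z₀) m := hz₀.map_of_injective hΦ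
  have hfix : ∀ σ : ℂ ≃+* ℂ, (∀ x, σ (Φ x) = Φ x) → Fixes G p σ := fun σ hσ w hw => by
    haveI : NeZero m := ⟨hm0⟩
    obtain ⟨i, -, rfl⟩ := hzC.eq_pow_of_pow_eq_one hw
    rw [map_pow, hσ]
  refine ⟨n, hne, fun η hη => ?_, ?_, fun z ω hz hω => ?_⟩
  · obtain ⟨σ, hσ, he⟩ := hconj η hη
    exact ⟨σ, hfix σ hσ, he⟩
  swap
  · obtain ⟨σ, hσ, hσz⟩ := hgal z ω hz hω
    exact ⟨σ, hfix σ hσ, hσz, hinv σ hσ⟩
  -- the idempotent of the orbit
  obtain ⟨H, hHN, hHr, hVH, hHP⟩ := exists_complement hP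
  have hrootR : ∀ w : ℂ, w ^ m = 1 → ∃ r, Φ r = w := fun w hw => by
    haveI : NeZero m := ⟨hm0⟩
    obtain ⟨i, -, rfl⟩ := hzC.eq_pow_of_pow_eq_one hw
    exact ⟨z₀ ^ i, map_pow Φ z₀ i⟩
  have hval : ∀ (θ' : IrrCharacter (Vsub P)) v, θ'.1 v ∈ Φ.range := fun θ' v => by
    obtain ⟨k, π, hπ, he⟩ := θ'.2
    obtain ⟨μ, hμ, hsum⟩ := CharInt.exists_roots_character π v
    rw [← he, hsum]
    refine Φ.range.sum_mem fun i _ => hrootR _ ?_
    obtain ⟨e', he'⟩ := (orderOf_dvd_natCard v).trans (card_dvd_pprime (not_dvd_card (P := P)))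
    rw [hm, he', pow_mul, hμ i, one_pow]
  set wC : Vsub P → ℂ := fun v => ∑ θ' ∈ orb hP θ, θ'.1 1 * θ'.1 v⁻¹ with hwC
  have hwR : ∀ v, ∃ r, Φ r = wC v := fun v =>
    Φ.range.sum_mem fun θ' _ => Φ.range.mul_mem (hval θ' 1) (hval θ' v⁻¹)
  choose w hw using hwR
  obtain ⟨c, hc⟩ := (Herbrand.isUnit_natCast hpR (not_dvd_card (P := P))).exists_left_inv
  have hV0 : (Nat.card (Vsub P) : ℂ) ≠ 0 := Nat.cast_ne_zero.2 Nat.card_pos.ne'
  have hcC : Φ c = (Nat.card (Vsub P) : ℂ)⁻¹ := by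
    have := congrArg Φ hc
    rw [map_mul, map_natCast, map_one] at this
    exact eq_inv_of_mul_eq_one_left this
  have hconv : ∀ x, ∑ a, w a * w (a⁻¹ * x) = (Nat.card (Vsub P) : Unram.Wt p s) * w x := by
    intro x
    apply hΦ
    simp only [map_sum, map_mul, map_natCast, hw, hwC, Finset.sum_mul, Finset.mul_sum]
    rw [Finset.sum_comm]
    refine Finset.sum_congr rfl fun θ₁ hθ₁ => ?_
    rw [Finset.sum_comm, Finset.sum_eq_single θ₁]
    · have h1 := Char.sum_mul_irr_apply_mul (c := fun a => θ₁.1 a⁻¹) (χ := θ₁.1) (fun a b => by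
          show θ₁.1 (b * a * b⁻¹)⁻¹ = θ₁.1 a⁻¹
          rw [show (b * a * b⁻¹)⁻¹ = b * a⁻¹ * b⁻¹ by group]
          exact Blocks.irr_classFun θ₁ _ _) θ₁.2 x⁻¹
      have h2 : ∑ a, θ₁.1 a⁻¹ * θ₁.1 a = (Nat.card (Vsub P) : ℂ) := by
        have := Char.classInner_irr_self θ₁.2
        rw [classInner] at this
        simp only [Char.IsCharacter.conj_apply (Char.irr_isCharacter θ₁)] at this
        field_simp at this
        rw [← this]
        exact Finset.sum_congr rfl fun a _ => mul_comm _ _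
      rw [h2] at h1
      rw [show (Nat.card (Vsub P) : ℂ) * (θ₁.1 1 * θ₁.1 x⁻¹) =
        θ₁.1 1 * ((Nat.card (Vsub P) : ℂ) * θ₁.1 x⁻¹) by ring, ← h1, Finset.mul_sum, Finset.mul_sum]
      refine Finset.sum_congr rfl fun a _ => ?_
      rw [show θ₁.1 (a⁻¹ * x)⁻¹ = θ₁.1 (a * x⁻¹) by
        rw [mul_inv_rev, inv_inv, ← Blocks.irr_classFun θ₁ (x⁻¹ * a) a]
        congr 1; group]
      ring
    · intro θ₂ _ hne'
      have h1 := Char.sum_mul_irr_apply_mul (c := fun a => θ₂.1 a⁻¹) (χ := θ₁.1) (fun a b => by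
          show θ₂.1 (b * a * b⁻¹)⁻¹ = θ₂.1 a⁻¹
          rw [show (b * a * b⁻¹)⁻¹ = b * a⁻¹ * b⁻¹ by group]
          exact Blocks.irr_classFun θ₂ _ _) θ₁.2 x⁻¹
      have h2 : ∑ a, θ₂.1 a⁻¹ * θ₁.1 a = 0 := by
        have := Char.classInner_irr_of_ne θ₁.2 θ₂.2 (fun hh => hne' (Subtype.ext hh).symm)
        rw [classInner] at this
        simp only [Char.IsCharacter.conj_apply (Char.irr_isCharacter θ₂)] at this
        rw [mul_eq_zero] at this
        rw [← this.resolve_left (inv_ne_zero hV0)]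
        exact Finset.sum_congr rfl fun a _ => mul_comm _ _
      rw [h2, zero_mul] at h1
      rw [show ∑ a, θ₂.1 1 * θ₂.1 a⁻¹ * (θ₁.1 1 * θ₁.1 (a⁻¹ * x)⁻¹) =
          θ₂.1 1 * (θ₁.1 1 * ∑ a, θ₂.1 a⁻¹ * θ₁.1 (a * x⁻¹)) by
        rw [Finset.mul_sum, Finset.mul_sum]
        refine Finset.sum_congr rfl fun a _ => ?_
        rw [show θ₁.1 (a⁻¹ * x)⁻¹ = θ₁.1 (a * x⁻¹) by
          rw [mul_inv_rev, inv_inv, ← Blocks.irr_classFun θ₁ (x⁻¹ * a) a]
          congr 1; group]
        ring, h1, mul_zero]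
    · exact fun h => absurd hθ₁ h
  have hwn : ∀ (k : Nsub P) v, w (conjV hP k v) = w v := by
    intro k v
    apply hΦ
    rw [hw, hw, hwC]
    refine Finset.sum_bij' (fun θ' _ => thetaN hP θ' k) (fun θ' _ => thetaN hP θ' k⁻¹)
      (fun θ' h => orb_conj hP h k) (fun θ' h => orb_conj hP h k⁻¹)
      (fun θ' _ => by rw [thetaN_mul, mul_inv_cancel, thetaN_one])
      (fun θ' _ => by rw [thetaN_mul, inv_mul_cancel, thetaN_one]) fun θ' _ => ?_
    rw [thetaN_apply_one, thetaN_apply, map_inv]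
  set e : Module.End (Unram.Wt p s) (Fin d → Unram.Wt p s) :=
    c • ∑ v : Vsub P, w v • ρ (v : G) with he
  have heid : e * e = e := Units.smul_sum_mul_self (ρ.comp (Vsub P).subtype) hconv hc
  have hen : ∀ k ∈ Nsub P, ρ k * e = e * ρ k := by
    intro k hk
    rw [he, mul_smul_comm, smul_mul_assoc, Finset.mul_sum, Finset.sum_mul]
    congr 1
    refine Fintype.sum_equiv (conjV hP ⟨k, hk⟩).toEquiv _ _ fun v => ?_
    rw [MulEquiv.toEquiv_eq_coe, EquivLike.coe_coe, hwn ⟨k, hk⟩ v, mul_smul_comm, smul_mul_assoc,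
      ← map_mul, ← map_mul]
    congr 2
    show k * v = k * v * k⁻¹ * k
    group
  -- values of the lattice character
  have hcompη : ∀ η, n η ≠ 0 → ∀ (θ' : IrrCharacter (Vsub P)) (y : (P : Subgroup G)),
      ∃ σ : ℂ ≃+* ℂ, Fixes G p σ ∧ comp η θ' y = σ (comp χ θ' y) := fun η hη θ' y => by
    obtain ⟨σ, hσ, hση⟩ := hconj η hη
    exact ⟨σ, hfix σ hσ, comp_map (hfix σ hσ) hση θ' y⟩
  have hηval : ∀ η, n η ≠ 0 → ∀ y : (P : Subgroup G), y ≠ 1 →
      η.1 (y : G) = ∑ θ' ∈ orb hP θ, θ'.1 1 * comp η θ' y := by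
    intro η hη y hy
    have h1 := apply_eq (P := P) η y 1
    rw [OneMemClass.coe_one, mul_one] at h1
    rw [h1, ← Finset.sum_subset (Finset.subset_univ (orb hP θ)) fun θ' _ hθ' => ?_]
    · exact Finset.sum_congr rfl fun θ' _ => mul_comm _ _
    · obtain ⟨σ, -, hc'⟩ := hcompη η hη θ' y
      rw [hc', comp_eq_zero hP hpM hθ hχ hθ' hy, map_zero, zero_mul]
  have htr : ∀ y ∈ (P : Subgroup G), y ≠ 1 →
      LinearMap.trace (Unram.Wt p s) _ (ρ y * e) = LinearMap.trace (Unram.Wt p s) _ (ρ y) := by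
    intro y hy hy1
    apply hΦ
    rw [he, mul_smul_comm, Finset.mul_sum,
      Finset.sum_congr rfl fun v _ => show ρ y * (w v • ρ (v : G)) = w v • ρ (y * v) by
        rw [mul_smul_comm, map_mul]]
    simp only [map_smul, map_sum, smul_eq_mul, map_mul Φ, hw, hcC, htrace, Finset.mul_sum]
    rw [Finset.sum_comm]
    refine Finset.sum_congr rfl fun η _ => ?_
    by_cases hη : n η = 0
    · simp [hη]
    rw [hηval η hη ⟨y, hy⟩ fun h1 => hy1 (congrArg Subtype.val h1), Finset.mul_sum]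
    simp only [hwC, Finset.sum_mul, Finset.mul_sum]
    rw [Finset.sum_comm]
    refine Finset.sum_congr rfl fun θ' _ => ?_
    simp only [comp, classInner, Finset.mul_sum,
      Char.IsCharacter.conj_apply (Char.irr_isCharacter θ')]
    exact Finset.sum_congr rfl fun v _ => by ring
  -- small invariant spans
  have hHdvd : Nat.card H ∣ m := card_dvd_pprime hHr
  haveI := Fintype.ofFinite H
  have hsmall : ∀ (Z : Submodule (Unram.Wt p s) (Fin d → Unram.Wt p s))
      (v : Fin d → Unram.Wt p s), e v = v → v ∉ Z →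
      ∃ k ≤ (orb hP θ).card * Char.degree θ, ∃ ws : Fin k → Fin d → Unram.Wt p s,
        (∀ i, ws i ∈ Submodule.span (Unram.Wt p s) (Set.range fun h : H => ρ h v)) ∧
        (∀ (g : H) i, ρ g (ws i) ∈ Submodule.span (Unram.Wt p s) (Set.range ws)) ∧
          ∃ i, ws i ∉ Z := fun Z v hv hvZ =>
    Units.exists_small_invariant Φ hΦ hz₀ hHdvd hm0 (Herbrand.isUnit_natCast hpR hHr)
      (Subgroup.inclusion hVH) hconv hc _ (fun ψ hψ => by
        by_contra hgt
        refine hψ ?_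
        simp only [hw, hwC, Finset.sum_mul]
        rw [Finset.sum_comm]
        refine Finset.sum_eq_zero fun θ' hθ' => ?_
        by_contra hne'
        refine hgt (degree_le hP hHN hHr hVH θ ψ hθ' fun h0 => hne' ?_)
        rw [classInner] at h0
        simp only [Char.IsCharacter.conj_apply (Char.irr_isCharacter θ')] at h0
        rw [Finset.sum_congr rfl fun a _ => show θ'.1 1 * θ'.1 a⁻¹ * ψ.1 (Subgroup.inclusion hVH a) =
          θ'.1 1 * (ψ.1 ⟨a, hVH a.2⟩ * θ'.1 a⁻¹) by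
            rw [show Subgroup.inclusion hVH a = ⟨a, hVH a.2⟩ from rfl]; ring, ← Finset.mul_sum,
          (mul_eq_zero.1 h0).resolve_left (inv_ne_zero hV0), mul_zero])
      (ρ.comp H.subtype) Z hv hvZ
  obtain ⟨y₀, hy₀P, hy₀, hord⟩ := exists_gen hP
  have hle := Herbrand.rank_defect_le (R := Unram.Wt p s) (ρ := ρ) (P := (P : Subgroup G))
    hy₀ hord hpR P.not_dvd_index hbrick heid hen htr hHN hHP hsmall
  set r₀ := Module.finrank (Unram.Wt p s) (Herbrand.fixS (ρ y₀)) with hr₀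
  have hkey : (p : ℂ) * (r₀ : ℂ) - (d : ℂ) =
      (((orb hP θ).card * Char.degree θ : ℕ) : ℂ) * (((∑ η, n η : ℕ) : ℂ) * T) := by
    have h1 := congrArg Φ (Herbrand.trace_trOp (ρ := ρ) hy₀ hord hpR)
    rw [Herbrand.trOp_eq_sum ρ hy₀ hord, map_sum, map_sum, map_mul, map_natCast, map_natCast,
      ← Finset.add_sum_erase _ _ (Finset.mem_univ (1 : (P : Subgroup G))), OneMemClass.coe_one,
      map_one, LinearMap.trace_one, map_natCast, Module.finrank_fin_fun] at h1
    rw [← h1, add_sub_cancel_left]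
    simp only [htrace]
    rw [Finset.sum_comm, Nat.cast_sum, Finset.sum_mul, Finset.mul_sum]
    refine Finset.sum_congr rfl fun η _ => ?_
    rw [← Finset.mul_sum]
    by_cases hη : n η = 0
    · simp [hη]
    obtain ⟨σ, hσ, hση⟩ := hconj η hη
    have hTθ : ∀ θ' ∈ orb hP θ,
        ∑ y ∈ Finset.univ.erase (1 : (P : Subgroup G)), comp η θ' y = T := by
      intro θ' hθ'
      obtain ⟨k, rfl⟩ := (mem_orb hP).1 hθ'
      rw [← map_intCast σ T, ← hT, map_sum]
      let kk : (P : Subgroup G) ≃ (P : Subgroup G) := {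
        toFun := fun y => ⟨(k : G) * y * (k : G)⁻¹, (Subgroup.mem_normalizer_iff.1 k.2 _).1 y.2⟩
        invFun := fun y => ⟨(k : G)⁻¹ * y * k, (Subgroup.mem_normalizer_iff''.1 k.2 _).1 y.2⟩
        left_inv := fun y => Subtype.ext (by simp [mul_assoc])
        right_inv := fun y => Subtype.ext (by simp [mul_assoc]) }
      have hk1 : ∀ y, kk y = 1 ↔ y = 1 := fun y => by
        rw [← kk.injective.eq_iff (a := y), show kk 1 = 1 from Subtype.ext (by simp [kk])]
      refine Finset.sum_equiv kk (fun y => by simp [hk1]) fun y _ => ?_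
      rw [← comp_map (hfix σ hσ) hση]
      exact (comp_conj hP η θ k y (kk y) rfl).symm
    rw [Finset.sum_congr rfl fun y hy => hηval η hη y (Finset.ne_of_mem_erase hy), Finset.sum_comm,
      Finset.sum_congr rfl fun θ' hθ' => show
        ∑ y ∈ Finset.univ.erase (1 : (P : Subgroup G)), θ'.1 1 * comp η θ' y = θ.1 1 * T by
          rw [← Finset.mul_sum, hTθ θ' hθ', orb_apply_one hP hθ'],
      Finset.sum_const, nsmul_eq_mul, Char.apply_one_eq_degree]
    push_cast
    ring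
  have hkeyZ : (p : ℤ) * r₀ - d =
      (((orb hP θ).card * Char.degree θ : ℕ) : ℤ) * (((∑ η, n η : ℕ) : ℤ) * T) := by
    apply Int.cast_injective (α := ℂ)
    push_cast at hkey ⊢
    exact hkey
  rw [hkeyZ, abs_mul, abs_mul, Nat.abs_cast, Nat.abs_cast, mul_comm ((p : ℤ) - 1)] at hle
  refine le_of_mul_le_mul_left hle ?_
  exact_mod_cast Nat.mul_pos (Finset.card_pos.2 ⟨θ, self_mem_orb hP θ⟩) (Char.degree_pos θ)

end Cfsg.Agent.DefectOne.Local
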