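import Cfsg.Agent.Lib.DefectOne.HerbrandIndex
import Mathlib.GroupTheory.Sylow
import Mathlib.GroupTheory.GroupAction.Quotient
import Mathlib.RepresentationTheory.Basic
import Mathlib.LinearAlgebra.Trace
import Mathlib.FieldTheory.Finite.Basic
import Mathlib.Topology.Algebra.Semigroup
import Mathlib.Topology.Algebra.Module.Basic
import Mathlib.Topology.Instances.Matrix

/-!
# Lattices without idempotent endomorphisms at a subgroup of order `p`

Let `u` generate a subgroup `P` of order `p` of `G` and let `ρ` be a lattice whose endomorphism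
ring has only trivial idempotents. Pairs of `N_G(P)`-invariant submodules between the trace image
and the fixed points, and between `(u - 1) L` and `ker T`, are trivial; consequently the average
of the character over `P - 1` is `±1` when the `p'`-part of `C_G(P)` acts trivially on the
character there.
-/

set_option linter.unusedSectionVars false
set_option linter.style.haveILetI false

namespace Cfsg.Agent.DefectOne.Herbrand

open Module

section Eigen

variable {R : Type*} [CommRing R] {L : Type*} [AddCommGroup L] [Module R L]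

/-- An operator of order dividing `p - 1` modulo `Z` on `A` has an eigenvector outside `Z`. -/
theorem exists_eigen {p : ℕ} [hp : Fact p.Prime] (A Z : Submodule R L) (hpA : ∀ v ∈ A, (p : R) • v ∈ Z)
    (H : Module.End R L) (hA : ∀ v ∈ A, H v ∈ A)
    (hH : ∀ v ∈ A, (H ^ (p - 1)) v - v ∈ Z) {v : L} (hv : v ∈ A) (hvZ : v ∉ Z) :
    ∃ w ∈ A, w ∉ Z ∧ ∃ c : R, H w - c • w ∈ Z := by
  classical
  have hAi : ∀ (i : ℕ) (w : L), w ∈ A → (H ^ i) w ∈ A := fun i => by
    induction i with
    | zero => simp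
    | succ i ih => intro w hw; rw [pow_succ', Module.End.mul_apply]; exact hA _ (ih w hw)
  have hcast : ∀ (z : ℤ), (z : ZMod p) = 0 → ∀ w ∈ A, (z : R) • w ∈ Z := by
    intro z hz w hw
    obtain ⟨k, rfl⟩ := (ZMod.intCast_zmod_eq_zero_iff_dvd _ _).1 hz
    rw [Int.cast_mul, Int.cast_natCast, mul_comm, mul_smul]
    exact Z.smul_mem _ (hpA w hw)
  set q := p - 1 with hq
  have hqpos : 0 < q := by have := hp.out.two_le; omega
  let W : (ZMod p)ˣ → L := fun c =>
    ∑ k ∈ Finset.range q, ((((c : ZMod p) ^ (q - k)).val : ℤ) : R) • (H ^ k) v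
  have hW : ∀ c, W c ∈ A := fun c => Submodule.sum_mem _ fun k _ => A.smul_mem _ (hAi k v hv)
  have heig : ∀ c : (ZMod p)ˣ, H (W c) - ((((c : ZMod p).val : ℤ)) : R) • W c ∈ Z := by
    intro c
    have h1 : H (W c) - ((((c : ZMod p).val : ℤ)) : R) • W c = ∑ k ∈ Finset.range q,
        (((((c : ZMod p) ^ (q - k)).val : ℤ) : R) • (H ^ (k + 1)) v -
          ((((c : ZMod p).val : ℤ)) : R) • ((((c : ZMod p) ^ (q - k)).val : ℤ) : R) • (H ^ k) v) := by
      simp only [W, map_sum, map_smul, Finset.smul_sum, ← Finset.sum_sub_distrib, pow_succ',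
        Module.End.mul_apply]
    obtain ⟨r, hr⟩ : ∃ r, q = r + 1 := ⟨q - 1, by omega⟩
    rw [h1, Finset.sum_sub_distrib, hr, Finset.sum_range_succ _ r, Finset.sum_range_succ' _ r,
      show ∀ a b a' b' : L, a + b - (a' + b') = (a - a') + (b - b') from fun a b a' b' => by abel]
    refine add_mem ?_ ?_
    · rw [← Finset.sum_sub_distrib]
      refine Submodule.sum_mem _ fun i hi => ?_
      rw [smul_smul, ← sub_smul, ← Int.cast_mul, ← Int.cast_sub]
      refine hcast _ ?_ _ (hAi _ v hv)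
      have := Finset.mem_range.1 hi
      push_cast
      rw [ZMod.natCast_zmod_val, ZMod.natCast_zmod_val, ZMod.natCast_zmod_val,
        show r + 1 - i = (r + 1 - (i + 1)) + 1 by omega, pow_succ', Nat.add_sub_add_right]
      ring
    · rw [show r + 1 - r = 1 by omega, pow_one, show r + 1 - 0 = q by omega, smul_smul,
        show r + 1 = q from hr.symm, pow_zero, Module.End.one_apply]
      have hc1 : (c : ZMod p) ^ q = 1 := ZMod.pow_card_sub_one_eq_one c.ne_zero
      rw [hc1, ZMod.val_one, Nat.cast_one, Int.cast_one, mul_one, ← smul_sub]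
      exact Z.smul_mem _ (hH v hv)
  by_contra hcon
  push Not at hcon
  have hall : ∀ c, W c ∈ Z := fun c => by
    by_contra h
    exact hcon _ (hW c) h _ (heig c)
  have h2 : ∑ c, W c = ∑ k ∈ Finset.range q,
      ((((∑ c : (ZMod p)ˣ, (((c : ZMod p) ^ (q - k)).val : ℤ)) : ℤ)) : R) • (H ^ k) v := by
    simp only [W]
    rw [Finset.sum_comm]
    simp only [Int.cast_sum, Finset.sum_smul]
  have hsum : ∀ k, ((∑ c : (ZMod p)ˣ, (((c : ZMod p) ^ (q - k)).val : ℤ) : ℤ) : ZMod p) =
      if q ∣ q - k then -1 else 0 := by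
    intro k
    push_cast
    simp only [ZMod.natCast_zmod_val]
    rw [FiniteField.sum_pow_units, ZMod.card]
  have h3 : (-1 : R) • v ∈ Z := by
    have h4 : ∑ k ∈ Finset.range q,
        ((((∑ c : (ZMod p)ˣ, (((c : ZMod p) ^ (q - k)).val : ℤ)) : ℤ)) : R) • (H ^ k) v -
          (-1 : R) • v ∈ Z := by
      rw [← Finset.sum_erase_add _ _ (Finset.mem_range.2 hqpos), add_sub_assoc]
      refine add_mem (Submodule.sum_mem _ fun k hk => hcast _ ?_ _ (hAi k v hv)) ?_
      · rw [hsum, if_neg fun hd => ?_]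
        obtain ⟨h1, h2⟩ := Finset.mem_erase.1 hk
        have := Finset.mem_range.1 h2
        have := Nat.le_of_dvd (by omega) hd
        omega
      · rw [pow_zero, Module.End.one_apply, ← sub_smul, ← Int.cast_one (R := R), ← Int.cast_neg,
          ← Int.cast_sub]
        refine hcast _ ?_ _ hv
        rw [Int.cast_sub, hsum, if_pos (by simp)]
        simp
    have h5 := sub_mem (Submodule.sum_mem Z (fun c (_ : c ∈ Finset.univ) => hall c)) (h2 ▸ h4)
    simpa using h5
  rw [neg_one_smul, neg_mem_iff] at h3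
  exact hvZ h3

end Eigen

variable {R : Type*} [CommRing R] [IsDomain R] [IsPrincipalIdealRing R] [IsLocalRing R]
  [TopologicalSpace R] [IsTopologicalRing R] [CompactSpace R] [T2Space R]

theorem isClosed_submodule {d : ℕ} (S : Submodule R (Fin d → R)) :
    IsClosed (S : Set (Fin d → R)) := by
  obtain ⟨n, g, hg⟩ : ∃ (n : ℕ) (g : (Fin n → R) →ₗ[R] (Fin d → R)), LinearMap.range g = S := by
    refine ⟨_, S.subtype.comp (Module.finBasis R S).equivFun.symm.toLinearMap, ?_⟩
    rw [LinearMap.range_comp, LinearEquiv.range, Submodule.map_top, Submodule.range_subtype]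
  rw [← hg, LinearMap.coe_range]
  exact (isCompact_range (LinearMap.continuous_on_pi g)).isClosed

variable {G : Type*} [Group G] [Fintype G] {p : ℕ} [hp : Fact p.Prime] {d : ℕ}
  (ρ : Representation R G (Fin d → R)) {P : Subgroup G} {y₀ : G}
  (hy₀ : Subgroup.zpowers y₀ = P) (hord : orderOf y₀ = p) (hpR : Irreducible (p : R))

include hord in
theorem rho_pow_eq_one : ρ y₀ ^ p = 1 := by
  rw [← map_pow, ← hord, pow_orderOf_eq_one, map_one]

theorem rho_mul (a b : G) (v : Fin d → R) : ρ (a * b) v = ρ a (ρ b v) := by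
  rw [map_mul]; rfl

include hy₀ hord in
theorem exists_conj_pow {n : G} (hn : n ∈ Subgroup.normalizer (P : Set G)) :
    ∃ i : ℕ, n * y₀ * n⁻¹ = y₀ ^ i := by
  have : n * y₀ * n⁻¹ ∈ Subgroup.zpowers y₀ := by
    rw [hy₀]
    exact (Subgroup.mem_normalizer_iff.1 hn y₀).1 (hy₀ ▸ Subgroup.mem_zpowers y₀)
  obtain ⟨k, hk⟩ := mem_powers_iff_mem_zpowers.2 this
  exact ⟨k, hk.symm⟩

include hy₀ hord in
theorem normalizer_fix {n : G} (hn : n ∈ Subgroup.normalizer (P : Set G)) {v : Fin d → R}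
    (hv : v ∈ fixS (ρ y₀)) : ρ n v ∈ fixS (ρ y₀) := by
  obtain ⟨i, hi⟩ := exists_conj_pow hy₀ hord (inv_mem hn)
  rw [inv_inv] at hi
  rw [mem_fixS, ← rho_mul, show y₀ * n = n * y₀ ^ i by rw [← hi]; group, rho_mul, map_pow,
    pow_fix (mem_fixS.1 hv)]

include hy₀ hord in
theorem normalizer_augS {n : G} (hn : n ∈ Subgroup.normalizer (P : Set G)) {v : Fin d → R}
    (hv : v ∈ augS (ρ y₀)) : ρ n v ∈ augS (ρ y₀) := by
  obtain ⟨w, rfl⟩ := hv
  obtain ⟨i, hi⟩ := exists_conj_pow hy₀ hord hn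
  have : ρ n ((ρ y₀ - 1) w) = (ρ y₀ ^ i) (ρ n w) - ρ n w := by
    rw [LinearMap.sub_apply, Module.End.one_apply, map_sub, ← map_pow, ← rho_mul, ← rho_mul,
      ← hi, inv_mul_cancel_right]
  rw [this]
  exact pow_sub_self_mem_augS _ i

include hy₀ hord in
theorem trOp_eq_sum [Fintype P] : trOp p (ρ y₀) = ∑ y : P, ρ (y : G) := by
  rw [trOp]
  refine Finset.sum_bij (fun i _ => (⟨y₀ ^ i, hy₀ ▸ Subgroup.npow_mem_zpowers y₀ i⟩ : P))
    (fun i _ => Finset.mem_univ _) ?_ ?_ (fun i _ => (map_pow ρ y₀ i).symm)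
  · intro i hi j hj hij
    have h1 : y₀ ^ i = y₀ ^ j := congrArg Subtype.val hij
    refine pow_injOn_Iio_orderOf ?_ ?_ h1 <;> simp only [hord, Set.mem_Iio]
    · exact Finset.mem_range.1 hi
    · exact Finset.mem_range.1 hj
  · rintro ⟨y, hy⟩ -
    obtain ⟨k, hk⟩ := mem_powers_iff_mem_zpowers.2 (hy₀.symm ▸ hy : y ∈ Subgroup.zpowers y₀)
    refine ⟨k % p, Finset.mem_range.2 (Nat.mod_lt _ hp.out.pos), Subtype.ext ?_⟩
    show y₀ ^ (k % p) = y
    rw [← hord, pow_mod_orderOf]; exact hk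

include hy₀ hord in
theorem normalizer_trOp {n : G} (hn : n ∈ Subgroup.normalizer (P : Set G)) (v : Fin d → R) :
    ρ n (trOp p (ρ y₀) v) = trOp p (ρ y₀) (ρ n v) := by
  haveI := Fintype.ofFinite P
  rw [trOp_eq_sum ρ hy₀ hord, LinearMap.sum_apply, LinearMap.sum_apply, map_sum]
  let e : P ≃ P := {
    toFun := fun y => ⟨n * y * n⁻¹, (Subgroup.mem_normalizer_iff.1 hn _).1 y.2⟩
    invFun := fun y => ⟨n⁻¹ * y * n, (Subgroup.mem_normalizer_iff.1 hn _).2 (by simp [mul_assoc])⟩
    left_inv := fun y => Subtype.ext (by simp [mul_assoc])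
    right_inv := fun y => Subtype.ext (by simp [mul_assoc]) }
  refine Fintype.sum_equiv e _ _ fun y => ?_
  show ρ n (ρ (y : G) v) = ρ (n * y * n⁻¹) (ρ n v)
  rw [← rho_mul, ← rho_mul, inv_mul_cancel_right]

/-- The conditions on a projection: it commutes with `G`, maps the fixed points into `U` and
`ker T` into `W`, and is the identity on them modulo traces and `(u - 1) L`. -/
def IsProj (U W : Submodule R (Fin d → R)) (y₀ : G) (p : ℕ) (F : Module.End R (Fin d → R)) : Prop :=
  (∀ g, F * ρ g = ρ g * F) ∧ (∀ v ∈ fixS (ρ y₀), F v ∈ U) ∧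
    (∀ v ∈ U, F v - v ∈ LinearMap.range (trOp p (ρ y₀))) ∧
    (∀ y ∈ LinearMap.ker (trOp p (ρ y₀)), F y ∈ W) ∧ (∀ y ∈ W, F y - y ∈ augS (ρ y₀))

variable (hidx : ¬ p ∣ P.index)

include hy₀ hord hpR hidx in
/-- Averaging a `u`-equivariant projection over `G`. -/
theorem exists_isProj (U W : Submodule R (Fin d → R)) (hU : U ≤ fixS (ρ y₀))
    (hTU : LinearMap.range (trOp p (ρ y₀)) ≤ U) (hW : W ≤ LinearMap.ker (trOp p (ρ y₀)))
    (hIW : augS (ρ y₀) ≤ W)
    (hUn : ∀ n ∈ Subgroup.normalizer (P : Set G), ∀ v ∈ U, ρ n v ∈ U)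
    (hWn : ∀ n ∈ Subgroup.normalizer (P : Set G), ∀ v ∈ W, ρ n v ∈ W) :
    ∃ F, IsProj ρ U W y₀ p F := by
  classical
  set u := ρ y₀ with hu0
  have hu : u ^ p = 1 := rho_pow_eq_one ρ hord
  obtain ⟨FX, hXu, hX1, hX2, hX3⟩ := exists_op_fix hpR hu U hU hTU
  obtain ⟨FY, hYu, hY1, hY2, hY3⟩ := exists_op_ker hpR hu W hW hIW
  set F₀ := FX + FY with hF0
  have hFu : F₀ * u = u * F₀ := by rw [hF0, add_mul, mul_add, hXu, hYu]
  have hFy : ∀ y ∈ P, F₀ * ρ y = ρ y * F₀ := by
    intro y hy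
    obtain ⟨k, hk⟩ := mem_powers_iff_mem_zpowers.2 (hy₀.symm ▸ hy : y ∈ Subgroup.zpowers y₀)
    rw [← hk, map_pow]
    exact (Commute.pow_right hFu k).eq
  have h1 : ∀ v ∈ fixS u, F₀ v ∈ U := fun v hv => by
    rw [hF0, LinearMap.add_apply, hY3 v hv, add_zero]; exact hX1 v hv
  have h2 : ∀ v ∈ U, F₀ v - v ∈ LinearMap.range (trOp p u) := fun v hv => by
    rw [hF0, LinearMap.add_apply, hY3 v (hU hv), add_zero]; exact hX2 v hv
  have h3 : ∀ y ∈ LinearMap.ker (trOp p u), F₀ y ∈ W := fun y hy => by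
    rw [hF0, LinearMap.add_apply, hX3 y hy, zero_add]; exact hY1 y hy
  have h4 : ∀ y ∈ W, F₀ y - y ∈ augS u := fun y hy => by
    rw [hF0, LinearMap.add_apply, hX3 y (hW hy), zero_add]; exact hY2 y hy
  let Φ : G → Module.End R (Fin d → R) := fun g => ρ g * F₀ * ρ g⁻¹
  have hΦ : ∀ g, ∀ y ∈ P, Φ (g * y) = Φ g := fun g y hy => by
    simp only [Φ, mul_inv_rev, map_mul]
    rw [show ρ g * ρ y * F₀ * (ρ y⁻¹ * ρ g⁻¹) = ρ g * (ρ y * F₀ * ρ y⁻¹) * ρ g⁻¹ by
      simp only [mul_assoc], ← hFy y hy, mul_assoc F₀, ← map_mul, mul_inv_cancel, map_one, mul_one]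
  have hΦout : ∀ (g : G), Φ (g : G ⧸ P).out = Φ g := fun g => by
    obtain ⟨y, hy⟩ := QuotientGroup.mk_out_eq_mul P g
    rw [hy]; exact hΦ g _ y.2
  set S := ∑ C : G ⧸ P, Φ C.out with hS
  have hSg : ∀ g, S * ρ g = ρ g * S := by
    intro g
    have : ρ g * S * ρ g⁻¹ = S := by
      rw [hS, Finset.mul_sum, Finset.sum_mul]
      refine Fintype.sum_equiv (MulAction.toPerm g) _ _ fun C => ?_
      obtain ⟨a, rfl⟩ := QuotientGroup.mk_surjective C
      rw [MulAction.toPerm_apply, hΦout]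
      show _ = Φ ((g * a : G) : G ⧸ P).out
      rw [hΦout]
      simp only [Φ, mul_inv_rev, map_mul, mul_assoc]
    conv_lhs => rw [← this]
    rw [mul_assoc, ← map_mul, inv_mul_cancel, map_one, mul_one]
  -- the fixed cosets are those in the normalizer
  let act : Equiv.Perm (G ⧸ P) := MulAction.toPerm y₀
  set Fx := Finset.univ.filter fun C : G ⧸ P => act C = C with hFx
  have hfixmem : ∀ C : G ⧸ P, act C = C → C.out ∈ Subgroup.normalizer (P : Set G) := by
    intro C hC
    obtain ⟨a, rfl⟩ := QuotientGroup.mk_surjective C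
    have h5 : ((y₀ * a : G) : G ⧸ P) = (a : G ⧸ P) := hC
    have h6 : a⁻¹ * y₀ * a ∈ P := by
      have := QuotientGroup.eq.1 h5.symm
      simpa [mul_assoc] using this
    have hout : ((a : G ⧸ P).out) ∈ Subgroup.normalizer (P : Set G) ↔
        a ∈ Subgroup.normalizer (P : Set G) := by
      obtain ⟨y, hy⟩ := QuotientGroup.mk_out_eq_mul P a
      rw [hy]
      exact Subgroup.mul_mem_cancel_right _ (Subgroup.le_normalizer y.2)
    refine hout.2 ?_
    have hle : P.map (MulAut.conj a⁻¹).toMonoidHom ≤ P := by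
      rw [← hy₀, MonoidHom.map_zpowers, Subgroup.zpowers_le]
      simpa [hy₀] using h6
    have heq : P.map (MulAut.conj a⁻¹).toMonoidHom = P :=
      Subgroup.eq_of_le_of_card_ge hle
        (Subgroup.card_map_of_injective (MulAut.conj a⁻¹).injective).ge
    rw [← inv_mem_iff, Subgroup.mem_normalizer_iff]
    intro x
    conv_rhs => rw [← heq]
    constructor
    · intro hx; exact ⟨x, hx, by simp⟩
    · rintro ⟨z, hz, he⟩
      have : z = x := by simpa [mul_assoc] using he
      exact this ▸ hz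
  have hcardP : Nat.card P = p := by rw [← hy₀, Nat.card_zpowers, hord]
  have hpG : IsPGroup p P := IsPGroup.of_card (n := 1) (by rw [hcardP, pow_one])
  have hfix_iff : ∀ C : G ⧸ P, C ∈ MulAction.fixedPoints P (G ⧸ P) ↔ act C = C := fun C => by
    refine ⟨fun h => h ⟨y₀, hy₀ ▸ Subgroup.mem_zpowers y₀⟩, fun h y => ?_⟩
    have h' : y₀ ∈ MulAction.stabilizer G C := h
    have : P ≤ MulAction.stabilizer G C := hy₀.symm.le.trans (Subgroup.zpowers_le.2 h')
    exact this y.2
  have hunit : IsUnit ((Fx.card : ℕ) : R) := by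
    have hmod := IsPGroup.card_modEq_card_fixedPoints hpG (G ⧸ P)
    have hc : Nat.card (MulAction.fixedPoints P (G ⧸ P)) = Fx.card := by
      rw [Nat.card_eq_fintype_card, hFx, ← Fintype.card_subtype]
      exact Fintype.card_congr (Equiv.subtypeEquivRight hfix_iff)
    rw [hc, ← Subgroup.index_eq_card] at hmod
    have hne : ¬ p ∣ Fx.card := fun hd => hidx (hmod.dvd_iff dvd_rfl |>.2 hd)
    obtain ⟨a, b, hab⟩ := ((Nat.isCoprime_iff_coprime).2 ((hp.out.coprime_iff_not_dvd).2 hne))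
    have h5 : (a : R) * (p : R) + (b : R) * (Fx.card : R) = 1 := by exact_mod_cast congrArg (Int.cast (R := R)) hab
    rcases IsLocalRing.isUnit_or_isUnit_of_add_one h5 with h6 | h6
    · exact absurd (isUnit_of_mul_isUnit_right h6) hpR.not_isUnit
    · exact isUnit_of_mul_isUnit_right h6
  obtain ⟨c, hc⟩ := hunit.exists_left_inv
  -- the non-fixed cosets
  set NF := Finset.univ.filter fun C : G ⧸ P => ¬ act C = C with hNF
  have horb : ∀ (v : Fin d → R) (Z : Submodule R (Fin d → R)),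
      (∀ g, ∑ i ∈ Finset.range p, Φ (y₀ ^ i * g) v ∈ Z) → ∑ C ∈ NF, Φ C.out v ∈ Z := by
    intro v Z hZ
    rw [← Finset.sum_fiberwise NF (fun C => (Quotient.mk'' C : MulAction.orbitRel.Quotient P (G ⧸ P)))]
    refine Submodule.sum_mem _ fun o _ => ?_
    induction o using Quotient.inductionOn' with | _ b => ?_
    by_cases hb : act b = b
    · rw [Finset.sum_eq_zero]
      · exact Z.zero_mem
      intro C hC
      obtain ⟨y, hy⟩ := Quotient.eq''.1 (Finset.mem_filter.1 hC).2
      refine absurd ?_ (Finset.mem_filter.1 (Finset.mem_filter.1 hC).1).2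
      have h7 : y • b = b := (hfix_iff b).2 hb y
      rw [← hy]
      simp only [h7]
      exact hb
    · have hset : NF.filter (fun C => (Quotient.mk'' C : MulAction.orbitRel.Quotient P (G ⧸ P)) =
          Quotient.mk'' b) = (Finset.range p).image fun i => (y₀ ^ i) • b := by
        ext C
        constructor
        · intro hC
          obtain ⟨y, hy⟩ := Quotient.eq''.1 (Finset.mem_filter.1 hC).2
          obtain ⟨k, hk⟩ := mem_powers_iff_mem_zpowers.2 (hy₀.symm ▸ y.2 : (y : G) ∈ Subgroup.zpowers y₀)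
          refine Finset.mem_image.2 ⟨k % p, Finset.mem_range.2 (Nat.mod_lt _ hp.out.pos), ?_⟩
          rw [← hord, pow_mod_orderOf, ← hy]
          show (y₀ ^ k) • b = (y : G) • b
          rw [show y₀ ^ k = (y : G) from hk]
        · intro hC
          obtain ⟨i, -, rfl⟩ := Finset.mem_image.1 hC
          refine Finset.mem_filter.2 ⟨Finset.mem_filter.2 ⟨Finset.mem_univ _, fun h => hb ?_⟩,
            Quotient.sound' ⟨⟨y₀ ^ i, hy₀ ▸ Subgroup.npow_mem_zpowers y₀ i⟩, rfl⟩⟩
          have h7 : (y₀ ^ i) • (y₀ • b) = (y₀ ^ i) • b := by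
            rw [← mul_smul, ← pow_succ, pow_succ', mul_smul]; exact h
          exact MulAction.injective _ h7
      have hinj : Set.InjOn (fun i => (y₀ ^ i) • b) (Finset.range p : Set ℕ) := by
        intro i hi j hj hij
        simp only [Finset.coe_range, Set.mem_Iio] at hi hj
        by_contra hne
        wlog hlt : i < j generalizing i j
        · exact this hij.symm hj hi (Ne.symm hne) (by omega)
        have h8 : (y₀ ^ (j - i)) • b = b := by
          apply MulAction.injective (y₀ ^ i)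
          simp only
          rw [← mul_smul, ← pow_add, Nat.add_sub_cancel' hlt.le]
          exact hij.symm
        have hco : Nat.Coprime (j - i) (orderOf y₀) := by
          rw [hord, Nat.coprime_comm, hp.out.coprime_iff_not_dvd]
          exact fun hd => absurd (Nat.le_of_dvd (by omega) hd) (by omega)
        obtain ⟨k, hk⟩ := exists_pow_eq_self_of_coprime hco
        refine hb ?_
        show y₀ • b = b
        rw [← hk]
        exact Subgroup.pow_mem (MulAction.stabilizer G b) h8 k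
      rw [hset, Finset.sum_image hinj]
      obtain ⟨a, rfl⟩ := QuotientGroup.mk_surjective b
      convert hZ a using 1
      exact Finset.sum_congr rfl fun i _ => by
        rw [show (y₀ ^ i) • (a : G ⧸ P) = ((y₀ ^ i * a : G) : G ⧸ P) from rfl, hΦout]
  have hsplit : ∀ v, S v = ∑ C ∈ Fx, Φ C.out v + ∑ C ∈ NF, Φ C.out v := fun v => by
    rw [hS, LinearMap.sum_apply, hFx, hNF, Finset.sum_filter_add_sum_filter_not]
  have hΦfix : ∀ (i : ℕ) (g : G) (v : Fin d → R), Φ (y₀ ^ i * g) v = (u ^ i) (Φ g (ρ (y₀ ^ i)⁻¹ v)) := by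
    intro i g v
    simp only [Φ, hu0, mul_inv_rev, map_mul, Module.End.mul_apply, ← map_pow]
  have hfixv : ∀ v ∈ fixS u, ∑ C ∈ NF, Φ C.out v ∈ LinearMap.range (trOp p u) := by
    intro v hv
    refine horb v _ fun g => ⟨Φ g v, ?_⟩
    rw [trOp, LinearMap.sum_apply]
    refine Finset.sum_congr rfl fun i _ => ?_
    have : ρ (y₀ ^ i) v = v := by rw [map_pow]; exact pow_fix (mem_fixS.1 hv) i
    have h10 : ρ (y₀ ^ i)⁻¹ v = v := by
      conv_lhs => rw [← this, ← rho_mul, inv_mul_cancel, map_one]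
      rfl
    rw [hΦfix, h10]
  have hkerv : ∀ v ∈ LinearMap.ker (trOp p u), ∑ C ∈ NF, Φ C.out v ∈ augS u := by
    intro v hv
    refine horb v _ fun g => ?_
    have h9 : ∑ i ∈ Finset.range p, Φ g (ρ (y₀ ^ i)⁻¹ v) = 0 := by
      rw [← map_sum, show ∑ i ∈ Finset.range p, ρ (y₀ ^ i)⁻¹ v = trOp p u v from ?_,
        LinearMap.mem_ker.1 hv, map_zero]
      haveI := Fintype.ofFinite P
      have e1 : ∀ f : G → (Fin d → R), ∑ i ∈ Finset.range p, f (y₀ ^ i) = ∑ y : P, f (y : G) := by
        intro f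
        refine Finset.sum_bij (fun i _ => (⟨y₀ ^ i, hy₀ ▸ Subgroup.npow_mem_zpowers y₀ i⟩ : P))
          (fun i _ => Finset.mem_univ _) ?_ ?_ (fun i _ => rfl)
        · intro i hi j hj hij
          refine pow_injOn_Iio_orderOf ?_ ?_ (congrArg Subtype.val hij) <;>
            simp only [hord, Set.mem_Iio]
          · exact Finset.mem_range.1 hi
          · exact Finset.mem_range.1 hj
        · rintro ⟨y, hy⟩ -
          obtain ⟨k, hk⟩ := mem_powers_iff_mem_zpowers.2 (hy₀.symm ▸ hy : y ∈ Subgroup.zpowers y₀)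
          refine ⟨k % p, Finset.mem_range.2 (Nat.mod_lt _ hp.out.pos), Subtype.ext ?_⟩
          show y₀ ^ (k % p) = y
          rw [← hord, pow_mod_orderOf]; exact hk
      rw [e1 fun y => ρ y⁻¹ v, trOp, LinearMap.sum_apply]
      simp only [hu0, ← map_pow]
      rw [e1 fun y => ρ y v]
      exact Fintype.sum_equiv (Equiv.inv P) _ _ fun y => rfl
    rw [← sub_zero (∑ i ∈ Finset.range p, _), ← h9, ← Finset.sum_sub_distrib]
    refine Submodule.sum_mem _ fun i _ => ?_
    rw [hΦfix]
    exact pow_sub_self_mem_augS _ _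
  have hnorm : ∀ C ∈ Fx, C.out ∈ Subgroup.normalizer (P : Set G) := fun C hC =>
    hfixmem C (Finset.mem_filter.1 hC).2
  have hid : ∀ v : Fin d → R, v = c • ∑ _C ∈ Fx, v := fun v => by
    rw [Finset.sum_const, ← Nat.cast_smul_eq_nsmul R, smul_smul, hc, one_smul]
  refine ⟨c • S, fun g => ?_, fun v hv => ?_, fun v hv => ?_, fun v hv => ?_, fun v hv => ?_⟩
  · rw [smul_mul_assoc, mul_smul_comm, hSg]
  · rw [LinearMap.smul_apply, hsplit]
    refine Submodule.smul_mem _ _ (add_mem (Submodule.sum_mem _ fun C hC => ?_) (hTU (hfixv v hv)))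
    exact hUn _ (hnorm C hC) _ (h1 _ (normalizer_fix ρ hy₀ hord (inv_mem (hnorm C hC)) hv))
  · conv => arg 2; rw [LinearMap.smul_apply, hsplit]; enter [2]; rw [hid v]
    rw [← smul_sub, add_sub_right_comm, ← Finset.sum_sub_distrib]
    refine Submodule.smul_mem _ _ (add_mem (Submodule.sum_mem _ fun C hC => ?_) (hfixv v (hU hv)))
    have hn := hnorm C hC
    have hw : ρ C.out⁻¹ v ∈ U := hUn _ (inv_mem hn) _ hv
    obtain ⟨t, ht⟩ := h2 _ hw
    refine ⟨ρ C.out t, ?_⟩
    rw [← normalizer_trOp ρ hy₀ hord hn, ht, map_sub, ← rho_mul, mul_inv_cancel, map_one]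
    rfl
  · rw [LinearMap.smul_apply, hsplit]
    refine Submodule.smul_mem _ _ (add_mem (Submodule.sum_mem _ fun C hC => ?_) (hIW (hkerv v hv)))
    refine hWn _ (hnorm C hC) _ (h3 _ (LinearMap.mem_ker.2 ?_))
    rw [← normalizer_trOp ρ hy₀ hord (inv_mem (hnorm C hC)), LinearMap.mem_ker.1 hv, map_zero]
  · conv => arg 2; rw [LinearMap.smul_apply, hsplit]; enter [2]; rw [hid v]
    rw [← smul_sub, add_sub_right_comm, ← Finset.sum_sub_distrib]
    refine Submodule.smul_mem _ _ (add_mem (Submodule.sum_mem _ fun C hC => ?_) (hkerv v (hW hv)))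
    have hn := hnorm C hC
    have := normalizer_augS ρ hy₀ hord hn (h4 _ (hWn _ (inv_mem hn) _ hv))
    rw [map_sub, ← rho_mul, mul_inv_cancel, map_one] at this
    exact this

end Cfsg.Agent.DefectOne.Herbrand
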