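import Cfsg.Agent.Lib.DefectOne.Brick

/-!
# The average of a character over a subgroup of order `p`

For a lattice whose endomorphism ring has only trivial idempotents, on which the `p'`-part of
`C_G(P)` does not affect the trace on the `p`-singular elements, `|p r₀ - d| = p - 1` unless it is
zero, `r₀` the rank of the fixed points of `P`.
-/

set_option linter.unusedSectionVars false
set_option linter.style.haveILetI false

namespace Cfsg.Agent.DefectOne.Herbrand

open Module

section Generic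

variable {R : Type*} [CommRing R] [IsDomain R] [IsPrincipalIdealRing R] [IsLocalRing R]
  {L : Type*} [AddCommGroup L] [Module R L] [Module.Free R L] [Module.Finite R L]
  {p : ℕ} [hp : Fact p.Prime] {u : Module.End R L} (hpR : Irreducible (p : R))
include hpR

theorem isUnit_natCast {m : ℕ} (hm : ¬ p ∣ m) : IsUnit (m : R) := by
  obtain ⟨a, b, hab⟩ := (Nat.isCoprime_iff_coprime).2 ((hp.out.coprime_iff_not_dvd).2 hm)
  have h5 : (a : R) * (p : R) + (b : R) * (m : R) = 1 := by
    exact_mod_cast congrArg (Int.cast (R := R)) hab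
  rcases IsLocalRing.isUnit_or_isUnit_of_add_one h5 with h6 | h6
  · exact absurd (isUnit_of_mul_isUnit_right h6) hpR.not_isUnit
  · exact isUnit_of_mul_isUnit_right h6

theorem trace_trOp_gen (hu : u ^ p = 1) : LinearMap.trace R L (trOp p u) =
    (p : R) * (Module.finrank R (fixS u) : R) := by
  set T' : L →ₗ[R] fixS u := LinearMap.codRestrict _ (trOp p u) fun v => range_trOp_le hu ⟨v, rfl⟩
  rw [show trOp p u = (fixS u).subtype.comp T' from rfl, LinearMap.trace_comp_comm',
    show T'.comp (fixS u).subtype = (p : R) • LinearMap.id from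
      LinearMap.ext fun v => Subtype.ext (trOp_fix v.2), map_smul, LinearMap.trace_id, smul_eq_mul]

variable [Finite (R ⧸ Ideal.span {(p : R)})]

theorem one_lt_card_residue : 1 < Nat.card (R ⧸ Ideal.span {(p : R)}) := by
  rw [Finite.one_lt_card_iff_nontrivial]
  exact Ideal.Quotient.nontrivial_iff.2 fun h => hpR.not_isUnit (Ideal.span_singleton_eq_top.1 h)

theorem finrank_fixS_le : Module.finrank R (fixS u) ≤ Module.finrank R L :=
  Submodule.finrank_le _

/-- The ranks from the two indices. -/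
theorem rank_eq_of_index (hu : u ^ p = 1) {a b : ℕ}
    (ha : (LinearMap.range (trOp p u)).toAddSubgroup.relIndex (fixS u).toAddSubgroup =
      Nat.card (R ⧸ Ideal.span {(p : R)}) ^ a)
    (hb : (augS u).toAddSubgroup.relIndex (LinearMap.ker (trOp p u)).toAddSubgroup =
      Nat.card (R ⧸ Ideal.span {(p : R)}) ^ b) :
    (p : ℤ) * Module.finrank R (fixS u) - Module.finrank R L = ((p : ℤ) - 1) * ((a : ℤ) - b) := by
  have h := index_formula hpR hu
  rw [ha, hb, ← pow_mul, ← pow_add, ← pow_mul, ← pow_add] at h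
  have h2 := Nat.pow_right_injective (one_lt_card_residue hpR) h
  have hp1 : ((p - 1 : ℕ) : ℤ) = (p : ℤ) - 1 := by
    rw [Nat.cast_sub hp.out.one_lt.le, Nat.cast_one]
  have hle := finrank_fixS_le (L := L) (u := u) hpR
  have h3 : ((Module.finrank R L - Module.finrank R (fixS u) : ℕ) : ℤ) + (a : ℤ) * ((p : ℤ) - 1) =
      (b : ℤ) * ((p : ℤ) - 1) + (Module.finrank R (fixS u) : ℤ) * ((p : ℤ) - 1) := by
    rw [← hp1]; exact_mod_cast h2
  rw [Nat.cast_sub hle] at h3
  linear_combination -h3

/-- A submodule generated by `Z` and one element outside it has index `q` over `Z`. -/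
theorem relIndex_sup_span {Z : Submodule R L} {v : L} (hv : v ∉ Z) (hpv : (p : R) • v ∈ Z) :
    Z.toAddSubgroup.relIndex (Z ⊔ R ∙ v).toAddSubgroup =
      Nat.card (R ⧸ Ideal.span {(p : R)}) := by
  let φ : R →+ (Z ⊔ R ∙ v).toAddSubgroup ⧸ Z.toAddSubgroup.addSubgroupOf (Z ⊔ R ∙ v).toAddSubgroup :=
    (QuotientAddGroup.mk' _).comp
      { toFun := fun r => ⟨r • v, Submodule.mem_sup_right (Submodule.smul_mem _ _
          (Submodule.mem_span_singleton_self v))⟩
        map_zero' := Subtype.ext (zero_smul R v)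
        map_add' := fun a b => Subtype.ext (add_smul a b v) }
  have hker : φ.ker = (Ideal.span {(p : R)} : Ideal R).toAddSubgroup := by
    ext r
    show φ r = 0 ↔ r ∈ Ideal.span {(p : R)}
    rw [show φ r = QuotientAddGroup.mk' _ _ from rfl, QuotientAddGroup.mk'_apply,
      QuotientAddGroup.eq_zero_iff]
    show r • v ∈ Z ↔ r ∈ Ideal.span {(p : R)}
    rw [Ideal.mem_span_singleton]
    constructor
    · intro h
      by_contra hr
      obtain ⟨a, b, hab⟩ := (hpR.coprime_iff_not_dvd).2 hr
      refine hv ?_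
      rw [← one_smul R v, ← hab, add_smul, mul_smul, mul_smul]
      exact add_mem (Z.smul_mem _ hpv) (Z.smul_mem _ h)
    · rintro ⟨c, rfl⟩
      rw [mul_comm, mul_smul]
      exact Z.smul_mem _ hpv
  have hsurj : Function.Surjective φ := by
    intro x
    induction x using QuotientAddGroup.induction_on with | _ x => ?_
    obtain ⟨z, hz, w, hw, hzw⟩ := Submodule.mem_sup.1 x.2
    obtain ⟨r, rfl⟩ := Submodule.mem_span_singleton.1 hw
    refine ⟨r, QuotientAddGroup.eq.2 ?_⟩
    show -(r • v) + (x : L) ∈ Z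
    rw [← hzw]
    simpa [add_comm z, ← add_assoc] using hz
  rw [AddSubgroup.relIndex, AddSubgroup.index_eq_card,
    ← Nat.card_congr (QuotientAddGroup.quotientKerEquivOfSurjective φ hsurj).toEquiv, hker]
  rfl

end Generic

variable {R : Type*} [CommRing R] [IsDomain R] [IsPrincipalIdealRing R] [IsLocalRing R]
  [TopologicalSpace R] [IsTopologicalRing R] [CompactSpace R] [T2Space R]
  {G : Type*} [Group G] [Fintype G] {p : ℕ} [hp : Fact p.Prime] {d : ℕ}
  {ρ : Representation R G (Fin d → R)} {P : Subgroup G} {y₀ : G}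
  (hy₀ : Subgroup.zpowers y₀ = P) (hord : orderOf y₀ = p) (hpR : Irreducible (p : R))
  (hidx : ¬ p ∣ P.index)
  (hbrick : ∀ F : Module.End R (Fin d → R), (∀ g, F * ρ g = ρ g * F) → F * F = F → F = 0 ∨ F = 1)

theorem trOp_commute {F : Module.End R (Fin d → R)} (hF : ∀ g, F * ρ g = ρ g * F) :
    F * trOp p (ρ y₀) = trOp p (ρ y₀) * F := by
  simp only [trOp, Finset.mul_sum, Finset.sum_mul]
  exact Finset.sum_congr rfl fun i _ => (Commute.pow_right (hF y₀) i).eq

include hy₀ hord hpR hidx hbrick in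
/-- An invariant pair of submodules is trivial. -/
theorem proj_dichotomy (U W : Submodule R (Fin d → R)) (hU : U ≤ fixS (ρ y₀))
    (hTU : LinearMap.range (trOp p (ρ y₀)) ≤ U) (hW : W ≤ LinearMap.ker (trOp p (ρ y₀)))
    (hIW : augS (ρ y₀) ≤ W)
    (hUn : ∀ n ∈ Subgroup.normalizer (P : Set G), ∀ v ∈ U, ρ n v ∈ U)
    (hWn : ∀ n ∈ Subgroup.normalizer (P : Set G), ∀ v ∈ W, ρ n v ∈ W) :
    (U ≤ LinearMap.range (trOp p (ρ y₀)) ∧ W ≤ augS (ρ y₀)) ∨
      (fixS (ρ y₀) ≤ U ∧ LinearMap.ker (trOp p (ρ y₀)) ≤ W) := by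
  obtain ⟨F₁, hF₁⟩ := exists_isProj ρ hy₀ hord hpR hidx U W hU hTU hW hIW hUn hWn
  let M : Module.End R (Fin d → R) → Matrix (Fin d) (Fin d) R := fun F => LinearMap.toMatrix' F
  set S : Set (Matrix (Fin d) (Fin d) R) := {A | IsProj ρ U W y₀ p (Matrix.toLin' A)} with hS
  have hne : S.Nonempty := ⟨M F₁, by simpa [hS, M] using hF₁⟩
  have hlin : ∀ v : Fin d → R, Continuous fun A : Matrix (Fin d) (Fin d) R => Matrix.toLin' A v := by
    intro v
    simp only [Matrix.toLin'_apply]
    exact continuous_id.matrix_mulVec continuous_const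
  have hcl : IsClosed S := by
    simp only [hS, IsProj, Set.ofPred_and, Set.ofPred_forall]
    refine IsClosed.inter ?_ (IsClosed.inter ?_ (IsClosed.inter ?_ (IsClosed.inter ?_ ?_)))
    · refine isClosed_iInter fun g => ?_
      have : {A : Matrix (Fin d) (Fin d) R | Matrix.toLin' A * ρ g = ρ g * Matrix.toLin' A} =
          ⋂ v : Fin d → R, {A | Matrix.toLin' A (ρ g v) = ρ g (Matrix.toLin' A v)} := by
        ext A
        simp only [Set.mem_iInter, Set.mem_ofPred_eq]
        exact ⟨fun h v => LinearMap.congr_fun h v, fun h => LinearMap.ext h⟩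
      rw [this]
      exact isClosed_iInter fun v => isClosed_eq (hlin _)
        ((LinearMap.continuous_on_pi (ρ g)).comp (hlin v))
    · exact isClosed_iInter fun v => isClosed_iInter fun _ => (isClosed_submodule U).preimage (hlin v)
    · exact isClosed_iInter fun v => isClosed_iInter fun _ =>
        (isClosed_submodule _).preimage ((hlin v).sub continuous_const)
    · exact isClosed_iInter fun v => isClosed_iInter fun _ => (isClosed_submodule W).preimage (hlin v)
    · exact isClosed_iInter fun v => isClosed_iInter fun _ =>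
        (isClosed_submodule _).preimage ((hlin v).sub continuous_const)
  haveI : CompactSpace (Matrix (Fin d) (Fin d) R) :=
    inferInstanceAs (CompactSpace (Fin d → Fin d → R))
  obtain ⟨E, hE, hEE⟩ := exists_idempotent_in_compact_subsemigroup
    (M := Matrix (Fin d) (Fin d) R) (fun r => continuous_id.matrix_mul continuous_const) S hne
    hcl.isCompact (fun A hA B hB => by
      obtain ⟨a1, a2, a3, a4, a5⟩ := hA
      obtain ⟨b1, b2, b3, b4, b5⟩ := hB
      simp only [hS, Set.mem_ofPred_eq, Matrix.toLin'_mul]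
      set A' := Matrix.toLin' A
      set B' := Matrix.toLin' B
      refine ⟨fun g => ?_, fun v hv => a2 _ (hU (b2 v hv)), fun v hv => ?_, fun v hv => a4 _ (hW (b4 v hv)),
        fun v hv => ?_⟩
      · show A' * B' * ρ g = ρ g * (A' * B')
        rw [mul_assoc, b1, ← mul_assoc, a1, mul_assoc]
      · obtain ⟨t, ht⟩ := b3 v hv
        have h1 : A' (B' v - v) ∈ LinearMap.range (trOp p (ρ y₀)) :=
          ⟨A' t, by rw [← ht]; exact (LinearMap.congr_fun (trOp_commute a1) t).symm⟩
        have h2 := add_mem h1 (a3 v hv)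
        rw [map_sub, sub_add_sub_cancel] at h2
        exact h2
      · obtain ⟨t, ht⟩ := b5 v hv
        have h1 : A' (B' v - v) ∈ augS (ρ y₀) :=
          ⟨A' t, by
            rw [← ht]
            simp only [LinearMap.sub_apply, Module.End.one_apply, map_sub]
            rw [show ρ y₀ (A' t) = A' (ρ y₀ t) from (LinearMap.congr_fun (a1 y₀) t).symm]⟩
        have h2 := add_mem h1 (a5 v hv)
        rw [map_sub, sub_add_sub_cancel] at h2
        exact h2)
  obtain ⟨e1, e2, e3, e4, e5⟩ := hE
  rcases hbrick (Matrix.toLin' E) e1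
    (by rw [Module.End.mul_eq_comp, ← Matrix.toLin'_mul, hEE]) with h | h
  · refine Or.inl ⟨fun v hv => ?_, fun v hv => ?_⟩
    · simpa [h] using e3 v hv
    · simpa [h] using e5 v hv
  · refine Or.inr ⟨fun v hv => ?_, fun v hv => ?_⟩
    · simpa [h] using e2 v hv
    · simpa [h] using e4 v hv

include hy₀ hord hpR in
theorem trace_trOp : LinearMap.trace R (Fin d → R) (trOp p (ρ y₀)) =
    (p : R) * (Module.finrank R (fixS (ρ y₀)) : R) := by
  exact trace_trOp_gen hpR (rho_pow_eq_one ρ hord)

variable [CharZero R] [Finite (R ⧸ Ideal.span {(p : R)})]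
  {V : Subgroup G} {h : G}
  (hVc : ∀ v ∈ V, ∀ y ∈ P, v * y = y * v) (hVp : ¬ p ∣ Nat.card V)
  (hVn : ∀ n ∈ Subgroup.normalizer (P : Set G), ∀ v ∈ V, n * v * n⁻¹ ∈ V)
  (hCV : ∀ c ∈ Subgroup.centralizer (P : Set G), ∃ v ∈ V, ∃ y ∈ P, v * y = c)
  (hh : h ∈ Subgroup.normalizer (P : Set G))
  (hhe : h ^ (p - 1) ∈ Subgroup.centralizer (P : Set G))
  (hgen : ∀ n ∈ Subgroup.normalizer (P : Set G),
    ∃ c ∈ Subgroup.centralizer (P : Set G), ∃ k : ℕ, n = c * h ^ k)
  (htr : ∀ y ∈ P, y ≠ 1 → ∀ v ∈ V,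
    LinearMap.trace R _ (ρ (y * v)) = LinearMap.trace R _ (ρ y))

include hy₀ hord hpR hidx hbrick hVc hVp hVn hCV hh hhe hgen htr in
/-- `|p r₀ - d| = p - 1` unless it is zero. -/
theorem rank_defect_eq (hne : p * Module.finrank R (fixS (ρ y₀)) ≠ d) :
    (p : ℤ) * Module.finrank R (fixS (ρ y₀)) - d = (p : ℤ) - 1 ∨
      (p : ℤ) * Module.finrank R (fixS (ρ y₀)) - d = -((p : ℤ) - 1) := by
  classical
  haveI := Fintype.ofFinite V
  haveI := Fintype.ofFinite P
  set u := ρ y₀ with hu0
  have hu : u ^ p = 1 := rho_pow_eq_one ρ hord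
  set Fx := fixS u with hFx
  set TL := LinearMap.range (trOp p u) with hTL
  set K := LinearMap.ker (trOp p u) with hK
  set I := augS u with hI
  have hpT : ∀ v ∈ Fx, (p : R) • v ∈ TL := fun v hv => ⟨v, trOp_fix hv⟩
  have hpI : ∀ v ∈ K, (p : R) • v ∈ I := fun v hv => smul_mem_augS hv
  have hy₀P : y₀ ∈ P := hy₀ ▸ Subgroup.mem_zpowers y₀
  have hKn : ∀ n ∈ Subgroup.normalizer (P : Set G), ∀ v ∈ K, ρ n v ∈ K := fun n hn v hv =>
    LinearMap.mem_ker.2 (by
      rw [← normalizer_trOp ρ hy₀ hord hn, LinearMap.mem_ker.1 hv, map_zero])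
  have hTn : ∀ n ∈ Subgroup.normalizer (P : Set G), ∀ v ∈ TL, ρ n v ∈ TL := by
    rintro n hn _ ⟨t, rfl⟩
    exact ⟨ρ n t, (normalizer_trOp ρ hy₀ hord hn t).symm⟩
  -- the averaging idempotent of `V`
  obtain ⟨c, hc⟩ := (isUnit_natCast (R := R) hpR hVp).exists_left_inv
  set e : Module.End R (Fin d → R) := c • ∑ v : V, ρ (v : G) with he
  have hee : ∀ w : V, ρ (w : G) * e = e := fun w => by
    rw [he, mul_smul_comm, Finset.mul_sum]
    congr 1
    exact Fintype.sum_equiv (Equiv.mulLeft w) _ _ fun v => (map_mul ρ (w : G) v).symm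
  have heid : e * e = e := by
    conv_lhs => enter [1]; rw [he]
    rw [smul_mul_assoc, Finset.sum_mul, Finset.sum_congr rfl fun v _ => hee v, Finset.sum_const,
      Finset.card_univ, ← Nat.cast_smul_eq_nsmul R, smul_smul, ← Nat.card_eq_fintype_card, hc, one_smul]
  have hen : ∀ n ∈ Subgroup.normalizer (P : Set G), ρ n * e = e * ρ n := by
    intro n hn
    rw [he, mul_smul_comm, smul_mul_assoc, Finset.mul_sum, Finset.sum_mul]
    congr 1
    let eqv : V ≃ V := {
      toFun := fun v => ⟨n * v * n⁻¹, hVn n hn v v.2⟩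
      invFun := fun v => ⟨n⁻¹ * v * n, by simpa using hVn n⁻¹ (inv_mem hn) v v.2⟩
      left_inv := fun v => Subtype.ext (by simp [mul_assoc])
      right_inv := fun v => Subtype.ext (by simp [mul_assoc]) }
    refine Fintype.sum_equiv eqv _ _ fun v => ?_
    rw [← map_mul, ← map_mul]
    show ρ (n * v) = ρ (n * v * n⁻¹ * n)
    rw [inv_mul_cancel_right]
  have heu : u * e = e * u := hen y₀ (Subgroup.le_normalizer hy₀P)
  have heT : trOp p u * e = e * trOp p u := by
    simp only [trOp, Finset.mul_sum, Finset.sum_mul]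
    exact Finset.sum_congr rfl fun i _ => (Commute.pow_left (show Commute u e from heu) i).eq
  have heTa : ∀ v, trOp p u (e v) = e (trOp p u v) := fun v => LinearMap.congr_fun heT v
  have heFx : ∀ v ∈ Fx, e v ∈ Fx := fun v hv => by
    rw [mem_fixS]
    show (u * e) v = e v
    rw [heu, Module.End.mul_apply, mem_fixS.1 hv]
  have heK : ∀ v ∈ K, e v ∈ K := fun v hv => LinearMap.mem_ker.2 (by
    rw [heTa, LinearMap.mem_ker.1 hv, map_zero])
  -- the first dichotomy
  have hmain : (∀ v ∈ Fx, ∀ w ∈ V, ρ w v - v ∈ TL) ∧ (∀ v ∈ K, ∀ w ∈ V, ρ w v - v ∈ I) := by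
    rcases proj_dichotomy hy₀ hord hpR hidx hbrick (TL ⊔ Fx.map e) (I ⊔ K.map e)
        (sup_le (range_trOp_le hu) (by rintro _ ⟨v, hv, rfl⟩; exact heFx v hv)) le_sup_left
        (sup_le (augS_le_ker hu) (by rintro _ ⟨v, hv, rfl⟩; exact heK v hv)) le_sup_left
        (fun n hn v hv => by
          obtain ⟨a, ha, _, ⟨b, hb, rfl⟩, rfl⟩ := Submodule.mem_sup.1 hv
          rw [map_add, show ρ n (e b) = e (ρ n b) from LinearMap.congr_fun (hen n hn) b]
          exact Submodule.add_mem_sup (hTn n hn a ha) ⟨_, normalizer_fix ρ hy₀ hord hn hb, rfl⟩)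
        (fun n hn v hv => by
          obtain ⟨a, ha, _, ⟨b, hb, rfl⟩, rfl⟩ := Submodule.mem_sup.1 hv
          rw [map_add, show ρ n (e b) = e (ρ n b) from LinearMap.congr_fun (hen n hn) b]
          exact Submodule.add_mem_sup (normalizer_augS ρ hy₀ hord hn ha) ⟨_, hKn n hn b hb, rfl⟩) with
      ⟨hsU, hsW⟩ | ⟨hbU, hbW⟩
    · exfalso
      -- the fixed part of `V` is free over `P`
      set L₁ := LinearMap.range e with hL₁
      have hL₁u : ∀ x ∈ L₁, u x ∈ L₁ := by
        rintro _ ⟨x, rfl⟩; exact ⟨u x, (LinearMap.congr_fun heu x).symm⟩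
      set u₁ := u.restrict hL₁u with hu₁
      have heL : ∀ x ∈ L₁, e x = x := by
        rintro _ ⟨x, rfl⟩; exact LinearMap.congr_fun heid x
      have hu₁i : ∀ (i : ℕ) (x : L₁), (((u₁ ^ i) x : L₁) : Fin d → R) = (u ^ i) x := by
        intro i
        induction i with
        | zero => simp
        | succ i ih =>
          intro x
          rw [pow_succ', pow_succ', Module.End.mul_apply, Module.End.mul_apply, ← ih x]
          rfl
      have hu₁T : ∀ x : L₁, ((trOp p u₁ x : L₁) : Fin d → R) = trOp p u x := fun x => by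
        simp only [trOp, LinearMap.sum_apply, AddSubmonoidClass.coe_finsetSum, hu₁i]
      have hu₁p : u₁ ^ p = 1 := LinearMap.ext fun x => Subtype.ext (by
        rw [hu₁i, hu]; rfl)
      have hX : (LinearMap.range (trOp p u₁)).toAddSubgroup.relIndex (fixS u₁).toAddSubgroup =
          Nat.card (R ⧸ Ideal.span {(p : R)}) ^ 0 := by
        rw [pow_zero]
        refine AddSubgroup.relIndex_eq_one.2 fun x hx => ?_
        have hxF : (x : Fin d → R) ∈ Fx := mem_fixS.2 (congrArg Subtype.val (mem_fixS.1 hx))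
        obtain ⟨z, hz⟩ := hsU (Submodule.mem_sup_right ⟨_, hxF, heL _ x.2⟩)
        refine ⟨⟨e z, ⟨z, rfl⟩⟩, Subtype.ext ?_⟩
        rw [hu₁T]
        show trOp p u (e z) = _
        rw [heTa, hz, heL _ x.2]
      have hY : (augS u₁).toAddSubgroup.relIndex (LinearMap.ker (trOp p u₁)).toAddSubgroup =
          Nat.card (R ⧸ Ideal.span {(p : R)}) ^ 0 := by
        rw [pow_zero]
        refine AddSubgroup.relIndex_eq_one.2 fun x hx => ?_
        have hxK : (x : Fin d → R) ∈ K := LinearMap.mem_ker.2 (by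
          rw [← hu₁T, LinearMap.mem_ker.1 hx]; rfl)
        obtain ⟨z, hz⟩ := hsW (Submodule.mem_sup_right ⟨_, hxK, heL _ x.2⟩)
        refine ⟨⟨e z, ⟨z, rfl⟩⟩, Subtype.ext ?_⟩
        show u (e z) - e z = _
        rw [show u (e z) = e (u z) from LinearMap.congr_fun heu z, ← map_sub]
        rw [show u z - z = (u - 1) z from rfl, hz, heL _ x.2]
      have hr := rank_eq_of_index hpR hu₁p hX hY
      rw [sub_self, mul_zero, sub_eq_zero] at hr
      -- traces
      have htre : LinearMap.trace R _ e = (Module.finrank R L₁ : R) := by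
        rw [show e = L₁.subtype.comp e.rangeRestrict from rfl, LinearMap.trace_comp_comm',
          show e.rangeRestrict.comp L₁.subtype = LinearMap.id from
            LinearMap.ext fun x => Subtype.ext (heL _ x.2), LinearMap.trace_id]
      have htrT : LinearMap.trace R _ (trOp p u * e) = (p : R) * (Module.finrank R (fixS u₁) : R) := by
        rw [show trOp p u * e = L₁.subtype.comp ((trOp p u₁).comp e.rangeRestrict) from
            LinearMap.ext fun v => (hu₁T (e.rangeRestrict v)).symm, LinearMap.trace_comp_comm',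
          show ((trOp p u₁).comp e.rangeRestrict).comp L₁.subtype = trOp p u₁ from
            LinearMap.ext fun x => congrArg (trOp p u₁) (Subtype.ext (heL _ x.2)),
          trace_trOp_gen hpR hu₁p]
      have hsplit : ∀ f : P → R, ∑ y, f y = f 1 + ∑ y ∈ Finset.univ.erase 1, f y :=
        fun f => (Finset.add_sum_erase _ _ (Finset.mem_univ _)).symm
      have h1 : LinearMap.trace R _ (trOp p u * e) = LinearMap.trace R _ e +
          ∑ y ∈ Finset.univ.erase (1 : P), LinearMap.trace R _ (ρ (y : G)) := by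
        rw [trOp_eq_sum ρ hy₀ hord, Finset.sum_mul, map_sum, hsplit, OneMemClass.coe_one, map_one,
          one_mul]
        congr 1
        refine Finset.sum_congr rfl fun y hy => ?_
        rw [he, mul_smul_comm, map_smul, Finset.mul_sum, map_sum,
          Finset.sum_congr rfl fun (v : V) _ => (by
            rw [← map_mul]
            exact htr y y.2 (fun h1 => (Finset.mem_erase.1 hy).1 (Subtype.ext h1)) v v.2 :
              LinearMap.trace R _ (ρ (y : G) * ρ (v : G)) = LinearMap.trace R _ (ρ (y : G))),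
          Finset.sum_const, Finset.card_univ, ← Nat.cast_smul_eq_nsmul R, ← Nat.card_eq_fintype_card,
          smul_smul, hc, one_smul]
      have h2 : (p : R) * (Module.finrank R (fixS u) : R) =
          (d : R) + ∑ y ∈ Finset.univ.erase (1 : P), LinearMap.trace R _ (ρ (y : G)) := by
        rw [← trace_trOp hy₀ hord hpR, trOp_eq_sum ρ hy₀ hord, map_sum, hsplit, OneMemClass.coe_one,
          map_one, LinearMap.trace_one, Module.finrank_fin_fun]
      have h3 : (p : R) * (Module.finrank R (fixS u₁) : R) = (Module.finrank R L₁ : R) := by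
        exact_mod_cast congrArg (Int.cast (R := R)) hr
      rw [htrT, htre, h3, left_eq_add] at h1
      rw [h1, add_zero] at h2
      exact hne (Nat.cast_injective (R := R) (by push_cast; exact h2))
    · constructor
      · intro v hv w hw
        obtain ⟨a, ha, _, ⟨b, hb, rfl⟩, hab⟩ := Submodule.mem_sup.1 (hbU hv)
        have hwn : w ∈ Subgroup.normalizer (P : Set G) :=
          Subgroup.centralizer_le_normalizer _ (Subgroup.mem_centralizer_iff.2 fun y hy =>
            (hVc w hw y hy).symm)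
        rw [← hab, map_add, show ρ w (e b) = e b from LinearMap.congr_fun (hee ⟨w, hw⟩) b,
          add_sub_add_right_eq_sub]
        exact sub_mem (hTn w hwn a ha) ha
      · intro v hv w hw
        obtain ⟨a, ha, _, ⟨b, hb, rfl⟩, hab⟩ := Submodule.mem_sup.1 (hbW hv)
        have hwn : w ∈ Subgroup.normalizer (P : Set G) :=
          Subgroup.centralizer_le_normalizer _ (Subgroup.mem_centralizer_iff.2 fun y hy =>
            (hVc w hw y hy).symm)
        rw [← hab, map_add, show ρ w (e b) = e b from LinearMap.congr_fun (hee ⟨w, hw⟩) b,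
          add_sub_add_right_eq_sub]
        exact sub_mem (normalizer_augS ρ hy₀ hord hwn ha) ha
  -- the centralizer acts trivially on both quotients
  have hPtriv : ∀ y ∈ P, (∀ v ∈ Fx, ρ y v = v) ∧ ∀ v, ρ y v - v ∈ I := by
    intro y hy
    obtain ⟨k, hk⟩ := mem_powers_iff_mem_zpowers.2 (hy₀.symm ▸ hy : y ∈ Subgroup.zpowers y₀)
    subst hk
    exact ⟨fun v hv => by rw [map_pow]; exact pow_fix (mem_fixS.1 hv) k,
      fun v => by rw [map_pow]; exact pow_sub_self_mem_augS v k⟩
  have hCF : ∀ g ∈ Subgroup.centralizer (P : Set G), ∀ v ∈ Fx, ρ g v - v ∈ TL := by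
    intro g hg v hv
    obtain ⟨w, hw, y, hy, rfl⟩ := hCV g hg
    rw [rho_mul, (hPtriv y hy).1 v hv]
    exact hmain.1 v hv w hw
  have hCK : ∀ g ∈ Subgroup.centralizer (P : Set G), ∀ v ∈ K, ρ g v - v ∈ I := by
    intro g hg v hv
    obtain ⟨w, hw, y, hy, rfl⟩ := hCV g hg
    rw [rho_mul]
    have hwn : w ∈ Subgroup.normalizer (P : Set G) :=
      Subgroup.centralizer_le_normalizer _ (Subgroup.mem_centralizer_iff.2 fun y hy =>
        (hVc w hw y hy).symm)
    have := add_mem (hmain.2 _ (hKn y (Subgroup.le_normalizer hy) v hv) w hw) ((hPtriv y hy).2 v)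
    rwa [sub_add_sub_cancel] at this
  -- eigenlines
  have hline : ∀ (A Z : Submodule R (Fin d → R)), Z ≤ A → (∀ v ∈ A, (p : R) • v ∈ Z) →
      (∀ n ∈ Subgroup.normalizer (P : Set G), ∀ v ∈ A, ρ n v ∈ A) →
      (∀ n ∈ Subgroup.normalizer (P : Set G), ∀ v ∈ Z, ρ n v ∈ Z) →
      (∀ g ∈ Subgroup.centralizer (P : Set G), ∀ v ∈ A, ρ g v - v ∈ Z) → ¬ A ≤ Z →
      ∃ w ∈ A, w ∉ Z ∧ ∀ n ∈ Subgroup.normalizer (P : Set G), ∀ v ∈ Z ⊔ R ∙ w,
        ρ n v ∈ Z ⊔ R ∙ w := by
    intro A Z hZA hpA hAn hZn hC hAZ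
    obtain ⟨v, hv, hvZ⟩ := SetLike.not_le_iff_exists.1 hAZ
    obtain ⟨w, hw, hwZ, a, ha⟩ := exists_eigen A Z hpA (ρ h) (hAn h hh)
      (fun v hv => by rw [← map_pow]; exact hC _ hhe v hv) hv hvZ
    refine ⟨w, hw, hwZ, fun n hn x hx => ?_⟩
    obtain ⟨z, hz, _, hb, rfl⟩ := Submodule.mem_sup.1 hx
    obtain ⟨r, rfl⟩ := Submodule.mem_span_singleton.1 hb
    rw [map_add, map_smul]
    refine add_mem (Submodule.mem_sup_left (hZn n hn z hz)) (Submodule.smul_mem _ _ ?_)
    obtain ⟨g, hg, k, rfl⟩ := hgen n hn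
    have hk : ∀ k : ℕ, ρ (h ^ k) w ∈ Z ⊔ R ∙ w := by
      intro k
      induction k with
      | zero => simpa using Submodule.mem_sup_right (Submodule.mem_span_singleton_self w)
      | succ k ih =>
        obtain ⟨z', hz', _, hb', he'⟩ := Submodule.mem_sup.1 ih
        obtain ⟨r', rfl⟩ := Submodule.mem_span_singleton.1 hb'
        rw [pow_succ', rho_mul, ← he', map_add, map_smul]
        refine add_mem (Submodule.mem_sup_left (hZn h hh z' hz')) (Submodule.smul_mem _ _ ?_)
        rw [show ρ h w = (ρ h w - a • w) + a • w by abel]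
        exact Submodule.add_mem_sup ha (Submodule.smul_mem _ _ (Submodule.mem_span_singleton_self w))
    rw [rho_mul]
    have hgA : ρ (h ^ k) w ∈ A := hAn _ (pow_mem hh k) w hw
    rw [show ρ g (ρ (h ^ k) w) = (ρ g (ρ (h ^ k) w) - ρ (h ^ k) w) + ρ (h ^ k) w by abel]
    exact add_mem (Submodule.mem_sup_left (hC g hg _ hgA)) (hk k)
  by_cases hXs : Fx ≤ TL
  · have hKs : ¬ K ≤ I := fun hKs => hne (by
      have := rank_eq_of_index hpR hu (a := 0) (b := 0)
        (by rw [pow_zero]; exact AddSubgroup.relIndex_eq_one.2 fun x hx => hXs hx)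
        (by rw [pow_zero]; exact AddSubgroup.relIndex_eq_one.2 fun x hx => hKs hx)
      rw [sub_self, mul_zero, sub_eq_zero, Module.finrank_fin_fun] at this
      exact_mod_cast this)
    obtain ⟨w, hw, hwI, hwn⟩ := hline K I (augS_le_ker hu) hpI hKn
      (fun n hn v hv => normalizer_augS ρ hy₀ hord hn hv) hCK hKs
    rcases proj_dichotomy hy₀ hord hpR hidx hbrick TL (I ⊔ R ∙ w) (range_trOp_le hu) le_rfl
        (sup_le (augS_le_ker hu) (by rwa [Submodule.span_singleton_le_iff_mem])) le_sup_left hTn hwn with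
      ⟨-, hs⟩ | ⟨-, hb⟩
    · exact absurd (hs (Submodule.mem_sup_right (Submodule.mem_span_singleton_self w))) hwI
    · right
      have := rank_eq_of_index hpR hu (a := 0) (b := 1)
        (by rw [pow_zero]; exact AddSubgroup.relIndex_eq_one.2 fun x hx => hXs hx)
        (by
          rw [pow_one, ← relIndex_sup_span hpR hwI (hpI w hw)]
          rw [le_antisymm hb (sup_le (augS_le_ker hu) (by rwa [Submodule.span_singleton_le_iff_mem]))])
      rw [Module.finrank_fin_fun] at this
      rw [this]; simp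
  · obtain ⟨w, hw, hwT, hwn⟩ := hline Fx TL (range_trOp_le hu) hpT
      (fun n hn v hv => normalizer_fix ρ hy₀ hord hn hv) hTn hCF hXs
    rcases proj_dichotomy hy₀ hord hpR hidx hbrick (TL ⊔ R ∙ w) I
        (sup_le (range_trOp_le hu) (by rwa [Submodule.span_singleton_le_iff_mem])) le_sup_left
        (augS_le_ker hu) le_rfl hwn (fun n hn v hv => normalizer_augS ρ hy₀ hord hn hv) with
      ⟨hs, -⟩ | ⟨hb, hKb⟩
    · exact absurd (hs (Submodule.mem_sup_right (Submodule.mem_span_singleton_self w))) hwT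
    · left
      have := rank_eq_of_index hpR hu (a := 1) (b := 0)
        (by
          rw [pow_one, ← relIndex_sup_span hpR hwT (hpT w hw)]
          rw [le_antisymm hb (sup_le (range_trOp_le hu) (by rwa [Submodule.span_singleton_le_iff_mem]))])
        (by rw [pow_zero]; exact AddSubgroup.relIndex_eq_one.2 fun x hx => hKb hx)
      rw [Module.finrank_fin_fun] at this
      rw [this]; simp

end Cfsg.Agent.DefectOne.Herbrand
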