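import Cfsg.Agent.Lib.DefectOne.PrimeCoord
import Cfsg.Agent.Lib.DefectOne.BlockBrick
import Cfsg.Agent.Lib.DefectOne.PrincipalOne

/-!
# Blocks with a defect group of order `p`, the full Sylow subgroup

For `θ ∈ Irr V` inducing the block `B`, with `e = |stab θ : C|` and `f = |N : C|`, the block has
`e` members `X` with constant components on `P - 1` and `(p - 1)/e` members `Y` forming one class
under the automorphisms of `ℂ` that fix the roots of unity of `p'`-order.
-/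

set_option linter.style.haveILetI false
set_option linter.unusedSectionVars false

namespace Cfsg.Agent.DefectOne.Local

open Cfsg Cfsg.Agent
open scoped ComplexConjugate Classical

universe u

variable {G : Type u} [Group G] [Fintype G] {p : ℕ} [hp : Fact p.Prime] {P : Sylow p G}
  (hP : Nat.card P = p)
include hP

/-- The stabiliser of `θ` in the normalizer. -/
noncomputable def stab (θ : IrrCharacter (Vsub P)) : Subgroup (Nsub P) where
  carrier := {n | thetaN hP θ n = θ}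
  one_mem' := thetaN_one hP θ
  mul_mem' {a b} ha hb := by
    show thetaN hP θ (a * b) = θ
    rw [← thetaN_mul, show thetaN hP θ a = θ from ha]; exact hb
  inv_mem' {a} ha := by
    show thetaN hP θ a⁻¹ = θ
    conv_lhs => rw [← show thetaN hP θ a = θ from ha]
    rw [thetaN_mul, mul_inv_cancel, thetaN_one]

theorem mem_stab {θ : IrrCharacter (Vsub P)} {n : Nsub P} :
    n ∈ stab hP θ ↔ thetaN hP θ n = θ := Iff.rfl

/-- The automorphisms of `P` induced by the stabiliser. -/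
noncomputable def autE (θ : IrrCharacter (Vsub P)) : Subgroup (MulAut (P : Subgroup G)) :=
  (stab hP θ).map (P : Subgroup G).normalizerMonoidHom

theorem centralizer_le_stab (θ : IrrCharacter (Vsub P)) :
    (Csub P).subgroupOf (Nsub P) ≤ stab hP θ :=
  fun n hn => thetaN_centralizer hP θ n (Subgroup.mem_subgroupOf.1 hn)

theorem card_autE (θ : IrrCharacter (Vsub P)) :
    Nat.card (autE hP θ) = (Csub P).relIndex ((stab hP θ).map (Nsub P).subtype) := by
  rw [autE, ← Subgroup.relIndex_ker, Subgroup.normalizerMonoidHom_ker, Subgroup.subgroupOf,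
    Subgroup.relIndex_comap]

theorem card_orb (θ : IrrCharacter (Vsub P)) : (orb hP θ).card = (stab hP θ).index := by
  rw [Subgroup.index, Nat.card_eq_fintype_card, ← Finset.card_univ]
  symm
  refine Finset.card_bij (fun q _ => Quotient.liftOn' q (fun n => thetaN hP θ n⁻¹) fun a b hab => ?_)
    (fun q _ => ?_) (fun q _ q' _ hqq => ?_) fun θ' hθ' => ?_
  · have h : thetaN hP θ (a⁻¹ * b) = θ := QuotientGroup.leftRel_apply.1 hab
    have := congrArg (thetaN hP · b⁻¹) h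
    simpa [thetaN_mul] using this
  · obtain ⟨n, rfl⟩ := QuotientGroup.mk_surjective q
    exact (mem_orb hP).2 ⟨n⁻¹, rfl⟩
  · obtain ⟨a, rfl⟩ := QuotientGroup.mk_surjective q
    obtain ⟨b, rfl⟩ := QuotientGroup.mk_surjective q'
    refine QuotientGroup.eq.2 ?_
    have := congrArg (thetaN hP · b) (hqq : thetaN hP θ a⁻¹ = thetaN hP θ b⁻¹)
    simpa [thetaN_mul, thetaN_one, mem_stab] using this
  · obtain ⟨n, rfl⟩ := (mem_orb hP).1 hθ'
    exact ⟨QuotientGroup.mk n⁻¹, Finset.mem_univ _, by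
      show thetaN hP θ (n⁻¹)⁻¹ = _; rw [inv_inv]⟩

theorem card_orb_mul (θ : IrrCharacter (Vsub P)) :
    (orb hP θ).card * Nat.card (autE hP θ) = (Csub P).relIndex (Nsub P) := by
  rw [card_orb, autE, ← Subgroup.relIndex_ker, Subgroup.normalizerMonoidHom_ker, mul_comm]
  exact Subgroup.relIndex_mul_index (centralizer_le_stab hP θ)

theorem relIndex_dvd : (Csub P).relIndex (Nsub P) ∣ p - 1 := by
  have h : (Csub P).relIndex (Nsub P) =
      Nat.card ((P : Subgroup G).normalizerMonoidHom).range := by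
    rw [← Subgroup.index_ker, Subgroup.normalizerMonoidHom_ker]
    rfl
  rw [h]
  exact Coord.card_dvd hP _

omit hP in
theorem normalizerHom_apply (n : Nsub P) (y : (P : Subgroup G)) :
    (((P : Subgroup G).normalizerMonoidHom n y : (P : Subgroup G)) : G) = n * y * (n : G)⁻¹ :=
  rfl

theorem mem_autE {θ : IrrCharacter (Vsub P)} {φ : MulAut (P : Subgroup G)} :
    φ ∈ autE hP θ ↔ ∃ n : Nsub P, thetaN hP θ n = θ ∧
      (P : Subgroup G).normalizerMonoidHom n = φ := Iff.rfl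

theorem zpowers_eq {y : (P : Subgroup G)} (hy : y ≠ 1) :
    Subgroup.zpowers (y : G) = (P : Subgroup G) := by
  refine Subgroup.eq_of_le_of_card_ge (Subgroup.zpowers_le.2 y.2) ?_
  rw [Nat.card_zpowers, hP]
  rcases (Nat.dvd_prime hp.out).1 ((Subgroup.orderOf_dvd_natCard _ y.2).trans (dvd_of_eq hP) : orderOf (y : G) ∣ p)
    with h | h
  · exact absurd (orderOf_eq_one_iff.1 h) fun he => hy (Subtype.ext he)
  · exact h.ge

/-- Conjugate nontrivial elements of `P` are conjugate in the normalizer. -/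
theorem exists_normalizer_of_isConj {y y' : (P : Subgroup G)} (hy : y ≠ 1)
    (h : IsConj (y : G) (y' : G)) : ∃ n : Nsub P, (y' : G) = n * y * (n : G)⁻¹ := by
  obtain ⟨g, hg⟩ := isConj_iff.1 h
  have hy' : y' ≠ 1 := fun he => hy (Subtype.ext (by
    have : (y' : G) = 1 := congrArg Subtype.val he
    rw [this, conj_eq_one_iff] at hg
    exact hg))
  have hmap : (P : Subgroup G).map (MulAut.conj g).toMonoidHom = (P : Subgroup G) := by
    conv_lhs => rw [← zpowers_eq hP hy]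
    rw [MonoidHom.map_zpowers, show (MulAut.conj g).toMonoidHom (y : G) = (y' : G) from hg,
      zpowers_eq hP hy']
  refine ⟨⟨g, Subgroup.mem_normalizer_iff.2 fun x => ⟨fun hx => ?_, fun hx => ?_⟩⟩, hg.symm⟩
  · rw [← hmap]; exact ⟨x, hx, rfl⟩
  · rw [← hmap] at hx
    obtain ⟨z, hz, hzx⟩ := hx
    have : g * z * g⁻¹ = g * x * g⁻¹ := hzx
    rw [mul_left_inj, mul_right_inj] at this
    rw [← this]
    exact hz

theorem card_factorization : (Nat.card G).factorization p = 1 := by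
  have h := P.card_eq_multiplicity
  rw [hP] at h
  exact Nat.pow_right_injective hp.out.two_le
    (show p ^ _ = p ^ 1 by rw [pow_one]; exact h.symm)

/-- A `p`-singular element is conjugate to some `y v`. -/
theorem exists_conj_section {g : G} (hg : p ∣ orderOf g) :
    ∃ (x : G) (y : (P : Subgroup G)) (v : Vsub P), y ≠ 1 ∧ x * g * x⁻¹ = y * v := by
  obtain ⟨k, hk⟩ := hg
  have hz : orderOf (g ^ k) = p := by
    have hk0 : k ≠ 0 := fun h0 => (orderOf_pos g).ne' (by rw [hk, h0, mul_zero])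
    rw [orderOf_pow' g hk0, hk, Nat.gcd_mul_left_left,
      Nat.mul_div_cancel _ (Nat.pos_of_ne_zero hk0)]
  obtain ⟨Q, hQ⟩ := IsPGroup.exists_le_sylow (p := p) (P := Subgroup.zpowers (g ^ k))
    (IsPGroup.of_card (n := 1) (by rw [Nat.card_zpowers, hz, pow_one]))
  obtain ⟨x, hx⟩ := MulAction.exists_smul_eq G Q P
  have hxP : x * g ^ k * x⁻¹ ∈ (P : Subgroup G) := by
    rw [← hx]
    exact ⟨g ^ k, hQ (Subgroup.mem_zpowers _), rfl⟩
  have hx1 : (⟨_, hxP⟩ : (P : Subgroup G)) ≠ 1 := fun he => by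
    have h1 : x * g ^ k * x⁻¹ = 1 := congrArg Subtype.val he
    rw [conj_eq_one_iff] at h1
    rw [h1, orderOf_one] at hz
    exact hp.out.ne_one hz.symm
  have hC : x * g * x⁻¹ ∈ Csub P := by
    rw [← centralizer_eq hP hxP fun he => hx1 (Subtype.ext he),
      Subgroup.mem_centralizer_singleton_iff]
    calc x * g * x⁻¹ * (x * g ^ k * x⁻¹) = x * (g * g ^ k) * x⁻¹ := by group
      _ = x * (g ^ k * g) * x⁻¹ := by rw [(Commute.self_pow g k).eq]
      _ = x * g ^ k * x⁻¹ * (x * g * x⁻¹) := by group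
  obtain ⟨y, hy, v, hv, he⟩ := exists_mul_eq hP hC
  refine ⟨x, ⟨y, hy⟩, ⟨v, hv⟩, fun h1 => regular_of_mem hv ?_, he.symm⟩
  have h2 : y = 1 := congrArg Subtype.val h1
  rw [h2, one_mul] at he
  rw [he, show orderOf (x * g * x⁻¹) = orderOf g from (MulAut.conj x).orderOf_eq g, hk]
  exact dvd_mul_right p k

theorem dvd_degree_of_forall_zero (χ : IrrCharacter G)
    (h : ∀ (θ : IrrCharacter (Vsub P)) (y : (P : Subgroup G)), y ≠ 1 → comp χ θ y = 0) :
    p ∣ Char.degree χ := by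
  have h1 := degree_modEq_total hP χ (T := 0) (by
    rw [Int.cast_zero]
    refine Finset.sum_eq_zero fun y hy => ?_
    have h2 := apply_eq (P := P) χ y 1
    rw [OneMemClass.coe_one, mul_one] at h2
    rw [h2, Finset.sum_eq_zero fun θ _ => by rw [h θ y (Finset.ne_of_mem_erase hy), zero_mul]])
  rw [neg_zero, Int.modEq_zero_iff_dvd, Char.charDegree_eq_degree] at h1
  exact_mod_cast h1

/-- The components of a constant member are fixed by the unramified automorphisms. -/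
theorem map_eq_of_comp_fixed {σ : ℂ ≃+* ℂ} (hσ : Fixes G p σ) {χ : IrrCharacter G}
    (hfix : ∀ (θ : IrrCharacter (Vsub P)) (y : (P : Subgroup G)), y ≠ 1 →
      σ (comp χ θ y) = comp χ θ y) (g : G) : σ (χ.1 g) = χ.1 g := by
  by_cases hg : p ∣ orderOf g
  · obtain ⟨x, y, v, hy, he⟩ := exists_conj_section hP hg
    rw [← Blocks.irr_classFun χ g x, he, apply_eq, map_sum]
    exact Finset.sum_congr rfl fun θ _ => by rw [map_mul, apply_fix hσ, hfix θ y hy]
  · obtain ⟨k, ρ, hρ, he⟩ := χ.2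
    obtain ⟨μ, hμ, hs⟩ := CharInt.exists_roots_character ρ g
    rw [← he, hs, map_sum]
    refine Finset.sum_congr rfl fun i _ => hσ _ ?_
    obtain ⟨d, hd⟩ := card_dvd_pprime (G := G) (p := p) (H := Subgroup.zpowers g)
      (by rwa [Nat.card_zpowers])
    rw [hd, Nat.card_zpowers, pow_mul, hμ i, one_pow]

variable {M : Ideal AlgInt} [M.IsMaximal] (hpM : (p : AlgInt) ∈ M)
include hpM

theorem indSet_of_comp_ne {χ : IrrCharacter G} {θ : IrrCharacter (Vsub P)}
    {y : (P : Subgroup G)} (hy : y ≠ 1) (hne : comp χ θ y ≠ 0) :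
    θ ∈ indSet hP M (blockOf M χ.1) := by
  by_contra hθ
  have h := comp_orth_self hP hpM (Blocks.isPBlock_blockOf (M := M) χ) hy θ θ
  rw [if_neg fun hh => hθ hh.2] at h
  have h2 : ∑ ψ ∈ Finset.univ.filter (· ∈ blockOf M χ.1), Complex.normSq (comp ψ θ y) = 0 := by
    rw [← Complex.ofReal_eq_zero, Complex.ofReal_sum, ← h]
    exact Finset.sum_congr rfl fun ψ _ => (Complex.mul_conj _).symm
  exact hne (Complex.normSq_eq_zero.1 ((Finset.sum_eq_zero_iff_of_nonneg
    fun ψ _ => Complex.normSq_nonneg _).1 h2 χ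
      (Finset.mem_filter.2 ⟨Finset.mem_univ _, Blocks.mem_blockOf_self χ⟩)))

/-- A character of degree prime to `p` lies in a block induced from some `θ`. -/
theorem exists_mem_indSet {χ : IrrCharacter G} (hχ : ¬ p ∣ Char.degree χ) :
    ∃ θ, θ ∈ indSet hP M (blockOf M χ.1) := by
  by_contra hno
  refine hχ (dvd_degree_of_forall_zero hP χ fun θ y hy => ?_)
  by_contra hne
  exact hno ⟨θ, indSet_of_comp_ne hP hpM hy hne⟩

variable {B : Set (IrrCharacter G)} {θ : IrrCharacter (Vsub P)} (hθ : θ ∈ indSet hP M B)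
include hθ

theorem exists_comp_ne {χ : IrrCharacter G} (hχ : χ ∈ B) :
    ∃ y : (P : Subgroup G), y ≠ 1 ∧ comp χ θ y ≠ 0 := by
  by_contra! hz
  have hall : ∀ (θ' : IrrCharacter (Vsub P)) (y : (P : Subgroup G)), y ≠ 1 → comp χ θ' y = 0 := by
    intro θ' y hy
    by_cases ho : θ' ∈ orb hP θ
    · obtain ⟨n, rfl⟩ := (mem_orb hP).1 ho
      rw [← comp_conj hP χ θ n y ((P : Subgroup G).normalizerMonoidHom n y) rfl]
      exact hz _ (by rwa [Ne, MulEquiv.map_eq_one_iff])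
    · exact comp_eq_zero hP hpM hθ hχ ho hy
  have hdvd := dvd_degree_of_forall_zero hP χ hall
  have hfac : (Char.degree χ).factorization p = (Nat.card G).factorization p := by
    refine le_antisymm ((Nat.factorization_le_iff_dvd (Char.degree_pos χ).ne'
      Nat.card_pos.ne').2 (Char.degree_dvd_natCard χ) p) ?_
    rw [card_factorization hP]
    exact hp.out.factorization_pos_of_dvd (Char.degree_pos χ).ne' hdvd
  have hB1 : B = {χ} := by
    rw [Blocks.block_eq hθ.2.1 hχ, (Blocks.blockOf_eq_singleton_iff hpM χ).2 hfac]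
  obtain ⟨y, hy⟩ : ∃ y : (P : Subgroup G), y ≠ 1 := by
    haveI : Nontrivial (P : Subgroup G) := Finite.one_lt_card_iff_nontrivial.1
      (hp.out.one_lt.trans_le hP.ge)
    exact exists_ne 1
  have h := comp_orth_self hP hpM hθ.2.1 hy θ θ
  rw [if_pos ⟨rfl, hθ⟩, Finset.sum_eq_zero fun ψ hψ => by
    have hψ' := (Finset.mem_filter.1 hψ).2
    rw [hB1, Set.mem_singleton_iff] at hψ'
    rw [hψ', hz y hy, zero_mul]] at h
  exact hp.out.ne_zero (Nat.cast_eq_zero.1 h.symm)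

theorem comp_orth {y y' : (P : Subgroup G)} (hy : y ≠ 1) :
    ∑ χ ∈ Finset.univ.filter (· ∈ B), comp χ θ y * conj (comp χ θ y') =
      if ∃ φ ∈ autE hP θ, φ y = y' then (p : ℂ) else 0 := by
  by_cases hc : IsConj (y : G) (y' : G)
  · obtain ⟨n, hn⟩ := exists_normalizer_of_isConj hP hy hc
    simp only [comp_conj hP _ θ n y y' hn]
    rw [comp_orth_self hP hpM hθ.2.1 hy]
    refine if_congr ⟨fun h => ⟨_, (mem_autE hP).2 ⟨n, h.1.symm, rfl⟩, Subtype.ext hn.symm⟩,
      fun ⟨φ, hφ, hφy⟩ => ⟨?_, hθ⟩⟩ rfl rfl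
    obtain ⟨k, hk, rfl⟩ := (mem_autE hP).1 hφ
    have hky : (k : G) * y * (k : G)⁻¹ = n * y * (n : G)⁻¹ :=
      (congrArg Subtype.val hφy).trans hn
    have hmem : ((k⁻¹ * n : Nsub P) : G) ∈ Csub P := by
      rw [← centralizer_eq hP y.2 fun he => hy (Subtype.ext he),
        Subgroup.mem_centralizer_singleton_iff, Subgroup.coe_mul, Subgroup.coe_inv]
      calc (k : G)⁻¹ * n * y = (k : G)⁻¹ * ((n : G) * y * (n : G)⁻¹) * n := by group
        _ = (k : G)⁻¹ * ((k : G) * y * (k : G)⁻¹) * n := by rw [hky]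
        _ = y * ((k : G)⁻¹ * n) := by group
    rw [show n = k * (k⁻¹ * n) by group, ← thetaN_mul, hk, thetaN_centralizer hP θ _ hmem]
  · rw [comp_orth_ne hP hpM hθ.2.1 hc, if_neg]
    rintro ⟨φ, hφ, rfl⟩
    obtain ⟨k, -, rfl⟩ := (mem_autE hP).1 hφ
    exact hc (isConj_iff.2 ⟨k, rfl⟩)

theorem data : Coord.Data p (Finset.univ.filter (· ∈ B))
    (fun (χ : IrrCharacter G) y => comp χ θ y) (autE hP θ) fun χ => Char.degree χ where
  card := hP
  int χ _ l := comp_integral hP χ θ l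
  deg_pos χ _ := Char.degree_pos χ
  nonzero χ hχ := exists_comp_ne hP hpM hθ (Finset.mem_filter.1 hχ).2
  deg_orth y hy := by
    have := comp_orth_regular hP hpM hθ.2.1 (g := (1 : G)) (by simp [IsPRegular, hp.out.ne_one])
      hy θ
    simpa only [Char.apply_one_eq_degree] using this
  orth y y' hy _ := by
    have h := comp_orth hP hpM hθ (y' := y') hy
    beta_reduce
    rw [h]
    split_ifs <;> rfl

omit hpM hθ in
theorem comp_autE (χ : IrrCharacter G) {φ : MulAut (P : Subgroup G)} (hφ : φ ∈ autE hP θ)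
    (y : (P : Subgroup G)) : comp χ θ (φ y) = comp χ θ y := by
  obtain ⟨n, hn, rfl⟩ := (mem_autE hP).1 hφ
  rw [comp_conj hP χ θ n y _ rfl, hn]

/-- The degree modulo `p` from the total of the `θ`-component. -/
theorem degree_modEq {χ : IrrCharacter G} (hχ : χ ∈ B) {T : ℤ}
    (hT : ∑ y ∈ Finset.univ.erase (1 : (P : Subgroup G)), comp χ θ y = T) :
    (Char.degree χ : ℤ) ≡ -(((orb hP θ).card * Char.degree θ : ℕ) * T) [ZMOD p] := by
  rw [← Char.charDegree_eq_degree χ]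
  refine degree_modEq_total hP χ ?_
  have hval : ∀ y ∈ Finset.univ.erase (1 : (P : Subgroup G)),
      χ.1 (y : G) = ∑ θ' ∈ orb hP θ, θ'.1 1 * comp χ θ' y := by
    intro y hy
    have h1 := apply_eq (P := P) χ y 1
    rw [OneMemClass.coe_one, mul_one] at h1
    rw [h1, ← Finset.sum_subset (Finset.subset_univ (orb hP θ)) fun θ' _ ho => by
      rw [comp_eq_zero hP hpM hθ hχ ho (Finset.ne_of_mem_erase hy), zero_mul]]
    exact Finset.sum_congr rfl fun θ' _ => mul_comm _ _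
  rw [Finset.sum_congr rfl hval, Finset.sum_comm,
    Finset.sum_congr rfl fun θ' hθ' => show
      ∑ y ∈ Finset.univ.erase (1 : (P : Subgroup G)), θ'.1 1 * comp χ θ' y = θ.1 1 * T by
        obtain ⟨k, rfl⟩ := (mem_orb hP).1 hθ'
        rw [← Finset.mul_sum, ← hT, thetaN_apply_one]
        congr 1
        refine Finset.sum_equiv ((P : Subgroup G).normalizerMonoidHom k).toEquiv
          (fun y => by simp) fun y _ => ?_
        exact (comp_conj hP χ θ k y _ rfl).symm,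
    Finset.sum_const, nsmul_eq_mul, Char.apply_one_eq_degree]
  push_cast
  ring

/-- Galois conjugates over the unramified field stay in the block. -/
theorem mem_of_map {σ : ℂ ≃+* ℂ} (hσ : Fixes G p σ) {χ η : IrrCharacter G} (hχ : χ ∈ B)
    (hη : η.1 = fun g => σ (χ.1 g)) : η ∈ B := by
  obtain ⟨y, hy, hne⟩ := exists_comp_ne hP hpM hθ hχ
  have h1 : comp η θ y ≠ 0 := by rwa [comp_map hσ hη, Ne, map_eq_zero]
  exact (indSet_unique hP hpM hθ (indSet_of_comp_ne hP hpM hy h1)).symm ▸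
    Blocks.mem_blockOf_self η

omit hθ in
theorem abs_eq_one (hθ : θ ∈ indSet hP M B) {χ : IrrCharacter G} (hχ : χ ∈ B) {a : ℤ}
    (ha : a ≠ 0) (hval : ∀ y : (P : Subgroup G), y ≠ 1 → comp χ θ y = a) : a = 1 ∨ a = -1 := by
  have hp1 : (1 : ℤ) < p := by exact_mod_cast hp.out.one_lt
  obtain ⟨n, ⟨η, hη⟩, -, hle, -⟩ := exists_total hP hpM hθ hχ (T := ((p : ℤ) - 1) * a) (by
    rw [Finset.sum_congr rfl fun y hy => hval y (Finset.ne_of_mem_erase hy), Finset.sum_const,
      Finset.card_erase_of_mem (Finset.mem_univ _), Finset.card_univ, ← Nat.card_eq_fintype_card,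
      show Nat.card (P : Subgroup G) = p from hP, nsmul_eq_mul, Nat.cast_sub hp.out.pos]
    push_cast
    ring)
  have hN : (1 : ℤ) ≤ (∑ η, n η : ℕ) := by
    exact_mod_cast (Nat.one_le_iff_ne_zero.2 hη).trans
      (Finset.single_le_sum (fun _ _ => Nat.zero_le _) (Finset.mem_univ η))
  rw [abs_mul, abs_of_pos (show 0 < (p : ℤ) - 1 by omega)] at hle
  have h1 : ((p : ℤ) - 1) * |a| ≤ ((p : ℤ) - 1) * 1 := by
    rw [mul_one]
    exact le_trans (le_mul_of_one_le_left (mul_nonneg (by omega) (abs_nonneg a)) hN) hle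
  exact Int.abs_le_one_iff.1 (le_of_mul_le_mul_left h1 (by omega)) |>.resolve_left ha

omit hpM hθ in
/-- An automorphism moving a `p`-th root of unity moves the components accordingly. -/
theorem map_comp_pow {σ : ℂ ≃+* ℂ} {z : ℂ} (hz : IsPrimitiveRoot z p) {j : ℕ} (hσz : σ z = z ^ j)
    (χ : IrrCharacter G) (y : (P : Subgroup G)) : σ (comp χ θ y) = comp χ θ (y ^ j) := by
  have hcl : IsClassFunction (P : Subgroup G) (comp χ θ) := fun a b => by
    rw [Coord.comm_of_card (p := p) hP b a, mul_inv_cancel_right]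
  have h := fun w => congrFun (Char.eq_sum_classInner_smul hcl) w
  simp only [Finset.sum_apply, Pi.smul_apply, smul_eq_mul] at h
  rw [h y, h (y ^ j), map_sum]
  refine Finset.sum_congr rfl fun l _ => ?_
  obtain ⟨a, ha⟩ := comp_integral hP χ θ l
  obtain ⟨lam, hlam⟩ := Coord.exists_hom (p := p) hP l
  haveI : NeZero p := ⟨hp.out.ne_zero⟩
  obtain ⟨i, -, hi⟩ := hz.eq_pow_of_pow_eq_one (ξ := lam y) (by
    rw [← map_pow]
    have := pow_card_eq_one' (x := y)
    rw [show Nat.card (P : Subgroup G) = p from hP] at this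
    rw [this, map_one])
  rw [ha, map_mul, map_intCast, ← hlam]
  rw [map_pow lam, ← hi, map_pow, hσz, ← pow_mul, ← pow_mul, mul_comm j]

/-- The structure of the block. -/
structure FullShape (B : Set (IrrCharacter G)) (θ : IrrCharacter (Vsub P)) where
  X : Finset (IrrCharacter G)
  Y : Finset (IrrCharacter G)
  a : IrrCharacter G → ℤ
  ε : ℤ
  union : B = (X : Set (IrrCharacter G)) ∪ (Y : Set (IrrCharacter G))
  disj : Disjoint X Y
  cardX : X.card = Nat.card (autE hP θ)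
  cardY : Y.card = (p - 1) / Nat.card (autE hP θ)
  signX : ∀ χ ∈ X, a χ = 1 ∨ a χ = -1
  hε : ε = 1 ∨ ε = -1
  degX : ∀ χ ∈ X, (Char.degree χ : ℤ) ≡ a χ * ((orb hP θ).card * Char.degree θ : ℕ) [ZMOD p]
  degY : ∀ ψ ∈ Y,
    (Char.degree ψ : ℤ) ≡ ε * ((Csub P).relIndex (Nsub P) * Char.degree θ : ℕ) [ZMOD p]
  fixX : ∀ χ ∈ X, ∀ σ : ℂ ≃+* ℂ, Fixes G p σ → ∀ g, σ (χ.1 g) = χ.1 g
  closedY : ∀ ψ ∈ Y, ∀ σ : ℂ ≃+* ℂ, Fixes G p σ → ∀ η : IrrCharacter G,
    η.1 = (fun g => σ (ψ.1 g)) → η ∈ Y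
  transY : ∀ ψ ∈ Y, ∀ ψ' ∈ Y, ∃ σ : ℂ ≃+* ℂ, Fixes G p σ ∧ ψ'.1 = fun g => σ (ψ.1 g)
  relation : ∀ g : G, IsPRegular p g → ∀ ψ ∈ Y,
    -(ε : ℂ) * ψ.1 g + ∑ χ ∈ X, (a χ : ℂ) * χ.1 g = 0
  agree : ∀ g : G, IsPRegular p g → ∀ ψ ∈ Y, ∀ ψ' ∈ Y, ψ.1 g = ψ'.1 g

theorem fullShape : Nonempty (FullShape hP B θ) := by
  letI : DecidableEq (IrrCharacter G) := fun a b => Classical.propDecidable (a = b)
  set e := Nat.card (autE hP θ) with he
  set s := Finset.univ.filter (· ∈ B) with hs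
  have hd := data hP hpM hθ
  have hinv : ∀ χ ∈ s, ∀ φ ∈ autE hP θ, ∀ y, comp χ θ (φ y) = comp χ θ y :=
    fun χ _ φ hφ y => comp_autE hP χ hφ y
  have hmem : ∀ {χ}, χ ∈ s ↔ χ ∈ B := fun {χ} => by simp [hs]
  have he0 : 0 < e := Nat.card_pos
  have hfix : ∀ χ ∈ B, ∀ a : ℤ, (∀ y : (P : Subgroup G), y ≠ 1 → comp χ θ y = a) →
      ∀ σ : ℂ ≃+* ℂ, Fixes G p σ → ∀ g, σ (χ.1 g) = χ.1 g := by
    intro χ hχ a hval σ hσ
    refine map_eq_of_comp_fixed hP hσ fun θ' y hy => ?_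
    by_cases ho : θ' ∈ orb hP θ
    · obtain ⟨n, rfl⟩ := (mem_orb hP).1 ho
      rw [← comp_conj hP χ θ n y ((P : Subgroup G).normalizerMonoidHom n y) rfl,
        hval _ (by rwa [Ne, MulEquiv.map_eq_one_iff]), map_intCast]
    · rw [comp_eq_zero hP hpM hθ hχ ho hy, map_zero]
  have hcardP : (Finset.univ.erase (1 : (P : Subgroup G))).card = p - 1 := by
    rw [Finset.card_erase_of_mem (Finset.mem_univ _), Finset.card_univ, ← Nat.card_eq_fintype_card,
      show Nat.card (P : Subgroup G) = p from hP]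
  have hdegc : ∀ χ ∈ B, ∀ a : ℤ, (∀ y : (P : Subgroup G), y ≠ 1 → comp χ θ y = a) →
      (Char.degree χ : ℤ) ≡ a * ((orb hP θ).card * Char.degree θ : ℕ) [ZMOD p] := by
    intro χ hχ a hval
    refine (degree_modEq hP hpM hθ hχ (T := ((p : ℤ) - 1) * a) ?_).trans ?_
    · rw [Finset.sum_congr rfl fun y hy => hval y (Finset.ne_of_mem_erase hy), Finset.sum_const,
        hcardP, nsmul_eq_mul, Nat.cast_sub hp.out.pos]
      push_cast
      ring
    · rw [Int.modEq_iff_dvd]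
      exact ⟨((orb hP θ).card * Char.degree θ : ℕ) * a, by ring⟩
  have hreg : ∀ g : G, IsPRegular p g → ∀ y : (P : Subgroup G), y ≠ 1 →
      ∑ χ ∈ s, χ.1 g * conj (comp χ θ y) = 0 :=
    fun g hg y hy => comp_orth_regular hP hpM hθ.2.1 hg hy θ
  by_cases hr : e + 1 < p
  swap
  · -- one orbit
    obtain ⟨hep, a, ha, hsq, hrel⟩ := Coord.shape_of_eq hd hinv hr
    rw [← he] at hep hsq
    have hsign : ∀ χ ∈ s, a χ = 1 ∨ a χ = -1 := fun χ hχ =>
      abs_eq_one hP hpM hθ (hmem.1 hχ) (ha χ hχ).1 (ha χ hχ).2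
    have hcard : s.card = e + 1 := by
      rw [Finset.sum_congr rfl fun χ hχ => show a χ ^ 2 = 1 by
        rcases hsign χ hχ with h | h <;> simp [h], Finset.sum_const, nsmul_eq_mul, mul_one] at hsq
      exact_mod_cast hsq
    obtain ⟨χ₀, hχ₀⟩ : s.Nonempty := Finset.card_pos.1 (by omega)
    refine ⟨⟨s.erase χ₀, {χ₀}, a, -a χ₀, ?_, by simp, ?_, ?_,
      fun χ hχ => hsign χ (Finset.mem_of_mem_erase hχ), ?_,
      fun χ hχ => hdegc χ (hmem.1 (Finset.mem_of_mem_erase hχ)) _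
        (ha χ (Finset.mem_of_mem_erase hχ)).2, fun ψ hψ => ?_,
      fun χ hχ => hfix χ (hmem.1 (Finset.mem_of_mem_erase hχ)) _
        (ha χ (Finset.mem_of_mem_erase hχ)).2, fun ψ hψ σ hσ η hη => ?_, fun ψ hψ ψ' hψ' => ?_,
      fun g hg ψ hψ => ?_, fun g hg ψ hψ ψ' hψ' => ?_⟩⟩
    · ext χ
      simp only [Finset.coe_erase, Finset.coe_singleton, Set.diff_union_self, Set.mem_union,
        Finset.mem_coe, Set.mem_singleton_iff, hmem]
      exact ⟨Or.inl, fun h => h.elim id fun h => h ▸ hmem.1 hχ₀⟩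
    · rw [Finset.card_erase_of_mem hχ₀, hcard]; omega
    · rw [Finset.card_singleton, show p - 1 = e by omega, Nat.div_self he0]
    · rcases hsign χ₀ hχ₀ with h | h <;> simp [h]
    · obtain rfl := Finset.mem_singleton.1 hψ
      refine (hdegc ψ (hmem.1 hχ₀) _ (ha ψ hχ₀).2).trans ?_
      rw [← card_orb_mul hP θ, ← he, Int.modEq_iff_dvd]
      have hz : (p : ℤ) = e + 1 := by exact_mod_cast hep.symm
      refine ⟨-(a ψ) * ((orb hP θ).card * Char.degree θ : ℕ), ?_⟩
      push_cast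
      linear_combination (a ψ : ℤ) * (orb hP θ).card * Char.degree θ * hz
    · obtain rfl := Finset.mem_singleton.1 hψ
      refine Finset.mem_singleton.2 (Subtype.ext ?_)
      rw [hη]
      exact funext fun g => hfix ψ (hmem.1 hχ₀) _ (ha ψ hχ₀).2 σ hσ g
    · obtain rfl := Finset.mem_singleton.1 hψ
      obtain rfl := Finset.mem_singleton.1 hψ'
      exact ⟨RingEquiv.refl ℂ, fun w _ => rfl, rfl⟩
    · obtain rfl := Finset.mem_singleton.1 hψ
      have := hrel (fun χ => χ.1 g) (hreg g hg)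
      rw [← Finset.add_sum_erase _ _ hχ₀] at this
      push_cast
      linear_combination this
    · rw [Finset.mem_singleton.1 hψ, Finset.mem_singleton.1 hψ']
  -- an exceptional family
  obtain ⟨S⟩ := Coord.shape hd hinv hr
  set r := (s \ S.X).card with hrdef
  have hre : r * e + 1 = p := S.card_mul
  have hr2 : 2 ≤ r := by
    by_contra hlt
    interval_cases r <;> omega
  have hsign : ∀ χ ∈ S.X, S.a χ = 1 ∨ S.a χ = -1 := fun χ hχ =>
    abs_eq_one hP hpM hθ (hmem.1 (S.X_sub hχ)) (S.X_val χ hχ).1 (S.X_val χ hχ).2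
  have hclosed : ∀ ψ ∈ s \ S.X, ∀ σ : ℂ ≃+* ℂ, Fixes G p σ → ∀ η : IrrCharacter G,
      η.1 = (fun g => σ (ψ.1 g)) → η ∈ s \ S.X := by
    intro ψ hψ σ hσ η hη
    refine Finset.mem_sdiff.2 ⟨hmem.2 (mem_of_map hP hpM hθ hσ
      (hmem.1 (Finset.mem_sdiff.1 hψ).1) hη), fun hX => ?_⟩
    obtain ⟨y, hy, hne⟩ := S.not_const ψ hψ (σ.symm (S.a η : ℂ))
    refine hne ?_
    rw [← (S.X_val η hX).2 y hy, comp_map hσ hη, σ.symm_apply_apply]
  have hTint : ∀ ψ ∈ s \ S.X, ∑ y ∈ Finset.univ.erase (1 : (P : Subgroup G)), comp ψ θ y =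
      (((e : ℤ) * (r * S.d - S.δ) : ℤ) : ℂ) := fun ψ hψ => by
    convert S.total ψ hψ
  have hmove : ∀ ψ ∈ s \ S.X, ∀ ψ' ∈ s \ S.X, ∀ n : IrrCharacter G → ℕ,
      (∀ z ω : ℂ, IsPrimitiveRoot z p → IsPrimitiveRoot ω p → ∃ σ : ℂ ≃+* ℂ, Fixes G p σ ∧
        σ z = ω ∧ ∀ η η' : IrrCharacter G, (η'.1 = fun g => σ (η.1 g)) → n η' = n η) →
      ∃ σ : ℂ ≃+* ℂ, Fixes G p σ ∧ (ψ'.1 = fun g => σ (ψ.1 g)) ∧ n ψ' = n ψ := by
    intro ψ hψ ψ' hψ' n hn
    obtain ⟨j, hj, hjv⟩ := S.trans ψ hψ ψ' hψ'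
    have hz := Complex.isPrimitiveRoot_exp p hp.out.ne_zero
    obtain ⟨σ, hσ, hσz, hinvn⟩ := hn _ _ hz
      (hz.pow_of_coprime j ((hp.out.coprime_iff_not_dvd).2 hj).symm)
    let η : IrrCharacter G := ⟨fun g => σ (ψ.1 g), CharInt.isIrrCharacter_map ψ.2 σ.toRingHom⟩
    have hη : η = ψ' := S.inj η (hclosed ψ hψ σ hσ η rfl) ψ' hψ' fun y hy => by
      rw [comp_map hσ (η := η) (χ := ψ) rfl, map_comp_pow hP hz hσz, ← hjv y hy]
    exact ⟨σ, hσ, by rw [← hη], by rw [← hη]; exact hinvn ψ η rfl⟩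
  obtain ⟨ψ₀, hψ₀⟩ : (s \ S.X).Nonempty := Finset.card_pos.1 (by omega)
  set uu : ℤ := r * S.d - S.δ with huu
  have hu : uu = 1 ∨ uu = -1 := by
    obtain ⟨n, ⟨η, hη⟩, hsupp, hle, hn⟩ := exists_total hP hpM hθ
      (hmem.1 (Finset.mem_sdiff.1 hψ₀).1) (hTint ψ₀ hψ₀)
    obtain ⟨σ, hσ, hση⟩ := hsupp η hη
    have hηY := hclosed ψ₀ hψ₀ σ hσ η hση
    have hN : r ≤ ∑ η, n η := by
      rw [hrdef, Finset.card_eq_sum_ones]
      refine le_trans (Finset.sum_le_sum fun ψ hψ => ?_)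
        (Finset.sum_le_sum_of_subset (Finset.subset_univ _))
      obtain ⟨τ, -, -, hτ⟩ := hmove η hηY ψ hψ n hn
      rw [hτ]
      exact Nat.one_le_iff_ne_zero.2 hη
    have hre' : (p : ℤ) - 1 = r * e := by
      have : (p : ℤ) = r * e + 1 := by exact_mod_cast hre.symm
      omega
    have h1 : (r : ℤ) * e * |uu| ≤ (r : ℤ) * e * 1 := by
      rw [mul_one, mul_assoc, ← hre', ← Nat.abs_cast e, ← abs_mul]
      refine le_trans ?_ hle
      exact mul_le_mul_of_nonneg_right (Int.ofNat_le.2 hN) (abs_nonneg _)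
    have h2 := le_of_mul_le_mul_left h1 (by
      have : 0 < r * e := Nat.mul_pos (by omega) he0
      exact_mod_cast this)
    refine (Int.abs_le_one_iff.1 h2).resolve_left fun h0 => ?_
    have h3 : (r : ℤ) ∣ 1 := by
      rcases S.hδ with h | h
      · exact ⟨S.d, by rw [huu, h] at h0; linear_combination -h0⟩
      · exact ⟨-S.d, by rw [huu, h] at h0; linear_combination h0⟩
    have := Int.eq_one_of_dvd_one (Int.natCast_nonneg r) h3
    omega
  have hX : S.X.card = e := by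
    have hnorm := S.norm_eq
    have hd0 : S.d * ((r : ℤ) * S.d - 2 * S.δ) = 0 := by
      rcases hu with h | h <;> rcases S.hδ with h' | h' <;> rw [huu, h'] at h <;> rw [h']
      all_goals first
        | (rw [mul_eq_zero]; right; linear_combination h)
        | (rw [mul_eq_zero]; left
           exact (mul_eq_zero.1 (show (r : ℤ) * S.d = 0 by linear_combination h)).resolve_left
             (by exact_mod_cast (by omega : r ≠ 0)))
    rw [← hrdef, hd0, add_zero, Finset.sum_congr rfl fun χ hχ => show S.a χ ^ 2 = 1 by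
      rcases hsign χ hχ with h | h <;> simp [h], Finset.sum_const, nsmul_eq_mul, mul_one] at hnorm
    exact_mod_cast hnorm
  refine ⟨⟨S.X, s \ S.X, S.a, -uu, ?_, Finset.disjoint_sdiff, hX, ?_, hsign, ?_,
    fun χ hχ => hdegc χ (hmem.1 (S.X_sub hχ)) _ (S.X_val χ hχ).2, fun ψ hψ => ?_,
    fun χ hχ => hfix χ (hmem.1 (S.X_sub hχ)) _ (S.X_val χ hχ).2, hclosed,
    fun ψ hψ ψ' hψ' => ?_, fun g hg ψ hψ => ?_, fun g hg ψ hψ ψ' hψ' => ?_⟩⟩
  · rw [← Finset.coe_union, Finset.union_sdiff_of_subset S.X_sub]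
    ext χ
    simp
  · rw [show p - 1 = r * e by omega, Nat.mul_div_cancel _ he0]
  · rcases hu with h | h <;> simp [h]
  · refine (degree_modEq hP hpM hθ (hmem.1 (Finset.mem_sdiff.1 hψ).1) (hTint ψ hψ)).trans ?_
    rw [← card_orb_mul hP θ, ← he, Int.modEq_iff_dvd]
    exact ⟨0, by push_cast; ring⟩
  · obtain ⟨σ, hσ, hv, -⟩ := hmove ψ hψ ψ' hψ' (fun _ => 0) fun z ω hz hω => by
      obtain ⟨n, -, -, -, hn⟩ := exists_total hP hpM hθ
        (hmem.1 (Finset.mem_sdiff.1 hψ).1) (hTint ψ hψ)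
      obtain ⟨σ, hσ, hσz, -⟩ := hn z ω hz hω
      exact ⟨σ, hσ, hσz, fun _ _ _ => rfl⟩
    exact ⟨σ, hσ, hv⟩
  · have := (S.relation ψ hψ (fun χ => χ.1 g) (hreg g hg)).1
    rw [huu]
    push_cast
    linear_combination this
  · exact ((S.relation ψ hψ (fun χ => χ.1 g) (hreg g hg)).2 ψ' hψ').symm

end Cfsg.Agent.DefectOne.Local
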