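import Mathlib.RingTheory.PrincipalIdealDomain
import Mathlib.LinearAlgebra.FreeModule.PID
import Mathlib.LinearAlgebra.FreeModule.Finite.Basic
import Mathlib.RingTheory.LocalRing.Basic
import Mathlib.Tactic

/-!
# Lattices with an operator of order `p`

For an operator `u` with `u ^ p = 1` on a lattice `L` over a discrete valuation ring with
uniformiser `p`: liftings of maps between the fixed points modulo traces and between the kernel
of the trace modulo `(u - 1) L`.
-/

set_option linter.unusedSectionVars false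
set_option linter.style.haveILetI false

namespace Cfsg.Agent.DefectOne.Herbrand

open Module

variable {R : Type*} [CommRing R] [IsDomain R] [IsPrincipalIdealRing R] [IsLocalRing R]
  {L : Type*} [AddCommGroup L] [Module R L] [Module.Free R L] [Module.Finite R L]

/-- The trace operator `∑ u ^ i`. -/
def trOp (p : ℕ) (u : Module.End R L) : Module.End R L := ∑ i ∈ Finset.range p, u ^ i

/-- The fixed submodule. -/
def fixS (u : Module.End R L) : Submodule R L := LinearMap.ker (u - 1)

/-- The image of `u - 1`. -/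
def augS (u : Module.End R L) : Submodule R L := LinearMap.range (u - 1)

/-- `u - 1` with values in its image. -/
def rI (u : Module.End R L) : L →ₗ[R] augS u :=
  LinearMap.codRestrict (augS u) (u - 1) fun v => ⟨v, rfl⟩

@[simp] theorem rI_coe (u : Module.End R L) (v : L) : (rI u v : L) = (u - 1) v := rfl

variable {p : ℕ} [hp : Fact p.Prime] {u : Module.End R L}

theorem mem_fixS {v : L} : v ∈ fixS u ↔ u v = v := by
  simp [fixS, sub_eq_zero]

theorem trOp_mul_sub (hu : u ^ p = 1) : trOp p u * (u - 1) = 0 := by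
  rw [trOp, geom_sum_mul, hu, sub_self]

theorem sub_mul_trOp (hu : u ^ p = 1) : (u - 1) * trOp p u = 0 := by
  rw [trOp, mul_geom_sum, hu, sub_self]

theorem range_trOp_le (hu : u ^ p = 1) : LinearMap.range (trOp p u) ≤ fixS u := by
  rintro _ ⟨v, rfl⟩
  exact LinearMap.congr_fun (sub_mul_trOp hu) v

theorem augS_le_ker (hu : u ^ p = 1) : augS u ≤ LinearMap.ker (trOp p u) := by
  rintro _ ⟨v, rfl⟩
  exact LinearMap.congr_fun (trOp_mul_sub hu) v

theorem pow_fix {v : L} (hv : u v = v) (i : ℕ) : (u ^ i) v = v := by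
  induction i with
  | zero => simp
  | succ i ih => rw [pow_succ, Module.End.mul_apply, hv, ih]

theorem trOp_fix {v : L} (hv : v ∈ fixS u) : trOp p u v = (p : R) • v := by
  rw [trOp, LinearMap.sum_apply, Finset.sum_congr rfl fun i _ => pow_fix (mem_fixS.1 hv) i,
    Finset.sum_const, Finset.card_range, Nat.cast_smul_eq_nsmul]

theorem trOp_comm : trOp p u * u = u * trOp p u := by
  simp only [trOp, Finset.sum_mul, Finset.mul_sum]
  exact Finset.sum_congr rfl fun i _ => (pow_mul_comm' u i).symm ▸ rfl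

theorem trOp_apply_comm (v : L) : trOp p u (u v) = u (trOp p u v) :=
  LinearMap.congr_fun trOp_comm v

theorem pow_sub_self_mem_augS (v : L) (i : ℕ) : (u ^ i) v - v ∈ augS u := by
  induction i with
  | zero => simp
  | succ i ih =>
    have : (u ^ (i + 1)) v - v = (u - 1) ((u ^ i) v) + ((u ^ i) v - v) := by
      rw [pow_succ', Module.End.mul_apply, LinearMap.sub_apply, Module.End.one_apply]; abel
    rw [this]
    exact add_mem ⟨_, rfl⟩ ih

theorem trOp_sub_mem_augS (v : L) : trOp p u v - (p : R) • v ∈ augS u := by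
  have : trOp p u v - (p : R) • v = ∑ i ∈ Finset.range p, ((u ^ i) v - v) := by
    rw [Finset.sum_sub_distrib, Finset.sum_const, Finset.card_range, trOp, LinearMap.sum_apply,
      Nat.cast_smul_eq_nsmul]
  rw [this]
  exact Submodule.sum_mem _ fun i _ => pow_sub_self_mem_augS v i

theorem smul_mem_augS {y : L} (hy : y ∈ LinearMap.ker (trOp p u)) : (p : R) • y ∈ augS u := by
  have := trOp_sub_mem_augS (p := p) (u := u) y
  rwa [LinearMap.mem_ker.1 hy, zero_sub, Submodule.neg_mem_iff] at this

variable (hpR : Irreducible (p : R))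
include hpR

theorem smul_left_cancel {a b : L} (h : (p : R) • a = (p : R) • b) : a = b :=
  smul_right_injective L hpR.ne_zero h

theorem eq_zero_of_fix_of_ker {v : L} (h1 : v ∈ fixS u) (h2 : trOp p u v = 0) : v = 0 := by
  rw [trOp_fix h1] at h2
  exact smul_left_cancel hpR (h2.trans (smul_zero _).symm)

/-- A map given modulo `p` on the preimage extends, by the Smith normal form. -/
theorem exists_lift {A Q U : Type*} [AddCommGroup A] [Module R A] [AddCommGroup Q] [Module R Q]
    [Module.Free R Q] [Module.Finite R Q] [AddCommGroup U] [Module R U] (Z : Submodule R U)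
    (hpU : ∀ x : U, (p : R) • x ∈ Z) (j : A →ₗ[R] Q) (g : A →ₗ[R] U)
    (hc : ∀ a, (∃ q, j a = (p : R) • q) → g a ∈ Z) :
    ∃ ψ : Q →ₗ[R] U, ∀ a, ψ (j a) - g a ∈ Z := by
  classical
  obtain ⟨n, B⟩ := Module.Free.chooseBasis R Q |>.reindex
    (Fintype.equivFin (Module.Free.ChooseBasisIndex R Q)) |> fun b => (⟨_, b⟩ :
      Σ n : ℕ, Basis (Fin n) R Q)
  obtain ⟨m, ⟨bM, bN, f, a, hsnf⟩⟩ := Submodule.smithNormalForm B (LinearMap.range j)
  choose pre hpre using fun i => LinearMap.mem_range.1 (bN i).2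
  have hs : ∀ i, ∃ s : R, (p : R) ∣ a i ∨ (p : R) ∣ s * a i - 1 := by
    intro i
    by_cases h : (p : R) ∣ a i
    · exact ⟨0, Or.inl h⟩
    · obtain ⟨x, y, hxy⟩ := (hpR.coprime_iff_not_dvd).2 h
      exact ⟨y, Or.inr ⟨-x, by linear_combination hxy⟩⟩
  choose s hs using hs
  refine ⟨bM.constr R fun k => if hk : ∃ i, f i = k then s hk.choose • g (pre hk.choose) else 0,
    fun x => ?_⟩
  have hbasis : ∀ i, (bM.constr R fun k => if hk : ∃ i, f i = k then
      s hk.choose • g (pre hk.choose) else 0) (j (pre i)) - g (pre i) ∈ Z := by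
    intro i
    rw [hpre, hsnf, map_smul, Basis.constr_basis]
    have hk : ∃ i', f i' = f i := ⟨i, rfl⟩
    rw [dif_pos hk, f.injective hk.choose_spec, smul_smul]
    rcases hs i with ⟨r, hr⟩ | ⟨r, hr⟩
    · refine sub_mem ?_ (hc _ ⟨r • bM (f i), by rw [hpre, hsnf, hr, mul_smul]⟩)
      rw [hr, show (p : R) * r * s i = (p : R) * (r * s i) by ring, mul_smul]
      exact hpU _
    · rw [show a i * s i = (p : R) * r + 1 by linear_combination hr, add_smul, one_smul, mul_smul,
        add_sub_cancel_right]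
      exact hpU _
  set ψ := bM.constr R fun k => if hk : ∃ i, f i = k then s hk.choose • g (pre hk.choose) else 0
  set c := bN.repr ⟨j x, LinearMap.mem_range_self j x⟩
  have hjx : j x = j (∑ i, c i • pre i) := by
    rw [map_sum]
    conv_lhs => rw [show j x = ((⟨j x, LinearMap.mem_range_self j x⟩ : LinearMap.range j) : Q)
      from rfl, ← bN.sum_repr ⟨j x, LinearMap.mem_range_self j x⟩, AddSubmonoidClass.coe_finsetSum]
    exact Finset.sum_congr rfl fun i _ => by rw [map_smul, hpre]; rfl
  have hker : g (x - ∑ i, c i • pre i) ∈ Z :=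
    hc _ ⟨0, by rw [map_sub, hjx, sub_self, smul_zero]⟩
  have : ψ (j x) - g x = ∑ i, c i • (ψ (j (pre i)) - g (pre i)) - g (x - ∑ i, c i • pre i) := by
    rw [hjx, map_sub g]
    simp only [map_sum, map_smul, smul_sub, Finset.sum_sub_distrib]
    abel
  rw [this]
  exact sub_mem (Submodule.sum_mem _ fun i _ => Z.smul_mem _ (hbasis i)) hker

/-- A projection of the fixed points lifts to an operator commuting with `u` and killing `ker T`. -/
theorem exists_op_fix (hu : u ^ p = 1) (U : Submodule R L) (hUfix : U ≤ fixS u)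
    (hTU : LinearMap.range (trOp p u) ≤ U) :
    ∃ F : Module.End R L, F * u = u * F ∧ (∀ v ∈ fixS u, F v ∈ U) ∧
      (∀ v ∈ U, F v - v ∈ LinearMap.range (trOp p u)) ∧
      (∀ y ∈ LinearMap.ker (trOp p u), F y = 0) := by
  have hpT : ∀ x : L, x ∈ fixS u → (p : R) • x ∈ LinearMap.range (trOp p u) :=
    fun x hx => ⟨x, trOp_fix hx⟩
  obtain ⟨π, hπ⟩ := exists_lift hpR (A := U) (Q := fixS u) (U := U)
    ((LinearMap.range (trOp p u)).comap U.subtype) (fun x => hpT _ (hUfix x.2))
    (Submodule.inclusion hUfix) LinearMap.id (by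
      rintro ⟨a, ha⟩ ⟨q, hq⟩
      have : a = (p : R) • (q : L) := congrArg Subtype.val hq
      show a ∈ LinearMap.range (trOp p u)
      rw [this]; exact hpT _ q.2)
  obtain ⟨ψ, hψ⟩ := exists_lift hpR (A := fixS u) (Q := LinearMap.range (trOp p u)) (U := U)
    ((LinearMap.range (trOp p u)).comap U.subtype) (fun x => hpT _ (hUfix x.2))
    ((trOp p u).rangeRestrict.comp (fixS u).subtype) π (by
      rintro a ⟨⟨_, t, rfl⟩, hq⟩
      have h1 : trOp p u (a : L) = (p : R) • trOp p u t := congrArg Subtype.val hq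
      rw [trOp_fix a.2] at h1
      have h2 := smul_left_cancel hpR h1
      have h3 := hπ ⟨(a : L), h2 ▸ hTU ⟨t, rfl⟩⟩
      have h4 : ((Submodule.inclusion hUfix ⟨(a : L), h2 ▸ hTU ⟨t, rfl⟩⟩) : fixS u) = a :=
        Subtype.ext rfl
      rw [h4] at h3
      have h5 := add_mem h3 (show (⟨(a : L), h2 ▸ hTU ⟨t, rfl⟩⟩ : U) ∈
        (LinearMap.range (trOp p u)).comap U.subtype from ⟨t, h2.symm⟩)
      simpa using h5)
  refine ⟨U.subtype.comp (ψ.comp (trOp p u).rangeRestrict), ?_, fun v _ => Subtype.coe_prop _,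
    fun v hv => ?_, fun y hy => ?_⟩
  · refine LinearMap.ext fun v => ?_
    show ((ψ ((trOp p u).rangeRestrict (u v))) : L) = u (ψ ((trOp p u).rangeRestrict v))
    rw [mem_fixS.1 (hUfix (Subtype.coe_prop _)), show (trOp p u).rangeRestrict (u v) =
      (trOp p u).rangeRestrict v from Subtype.ext ?_]
    show trOp p u (u v) = trOp p u v
    rw [trOp_apply_comm]
    exact mem_fixS.1 (range_trOp_le hu ⟨v, rfl⟩)
  · have h1 := hψ ⟨v, hUfix hv⟩
    have h2 := hπ ⟨v, hv⟩
    have h4 := add_mem (show ((ψ ((trOp p u).rangeRestrict v) : U) : L) - (π ⟨v, hUfix hv⟩ : U) ∈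
        LinearMap.range (trOp p u) from h1)
      (show ((π ⟨v, hUfix hv⟩ : U) : L) - v ∈ LinearMap.range (trOp p u) from h2)
    rwa [sub_add_sub_cancel] at h4
  · show ((ψ ((trOp p u).rangeRestrict y)) : L) = 0
    rw [show (trOp p u).rangeRestrict y = 0 from Subtype.ext (LinearMap.mem_ker.1 hy), map_zero]
    rfl

/-- A projection of `ker T` lifts to an operator commuting with `u` and killing the fixed points. -/
theorem exists_op_ker (hu : u ^ p = 1) (W : Submodule R L) (hW : W ≤ LinearMap.ker (trOp p u))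
    (hIW : augS u ≤ W) :
    ∃ F : Module.End R L, F * u = u * F ∧ (∀ y ∈ LinearMap.ker (trOp p u), F y ∈ W) ∧
      (∀ y ∈ W, F y - y ∈ augS u) ∧ (∀ v ∈ fixS u, F v = 0) := by
  set K := LinearMap.ker (trOp p u) with hK
  have hpI : ∀ x : L, x ∈ K → (p : R) • x ∈ augS u := fun x hx => smul_mem_augS hx
  have huW : ∀ (i : ℕ) (w : L), w ∈ W → (u ^ i) w ∈ W := fun i w hw => by
    simpa using add_mem (hIW (pow_sub_self_mem_augS (u := u) w i)) hw
  obtain ⟨π, hπ⟩ := exists_lift hpR (A := W) (Q := K) (U := W)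
    ((augS u).comap W.subtype) (fun x => hpI _ (hW x.2))
    (Submodule.inclusion hW) LinearMap.id (by
      rintro ⟨a, ha⟩ ⟨q, hq⟩
      have : a = (p : R) • (q : L) := congrArg Subtype.val hq
      show a ∈ augS u
      rw [this]; exact hpI _ q.2)
  let j : K →ₗ[R] augS u := LinearMap.codRestrict (augS u) ((p : R) • u.comp K.subtype) fun y => by
    refine smul_mem_augS (LinearMap.mem_ker.2 ?_)
    show trOp p u (u (y : L)) = 0
    rw [trOp_apply_comm, LinearMap.mem_ker.1 y.2, map_zero]
  obtain ⟨a, ha⟩ := exists_lift hpR (A := K) (Q := augS u) (U := W)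
    ((augS u).comap W.subtype) (fun x => hpI _ (hW x.2)) j π (by
      rintro y ⟨q, hq⟩
      have h1 : (p : R) • u (y : L) = (p : R) • (q : L) := congrArg Subtype.val hq
      have h2 := smul_left_cancel hpR h1
      have hyI : (y : L) ∈ augS u := by
        have := sub_mem (h2 ▸ q.2 : u (y : L) ∈ augS u) (pow_sub_self_mem_augS (u := u) (y : L) 1)
        simpa using this
      have h3 := hπ ⟨(y : L), hIW hyI⟩
      rw [show ((Submodule.inclusion hW ⟨(y : L), hIW hyI⟩) : K) = y from Subtype.ext rfl] at h3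
      have h5 := add_mem h3 (show (⟨(y : L), hIW hyI⟩ : W) ∈ (augS u).comap W.subtype from hyI)
      simpa using h5)
  let a' : Module.End R L → L →ₗ[R] L := fun g => W.subtype.comp (a.comp ((rI u).comp g))
  let F : Module.End R L :=
    -∑ i ∈ Finset.range p, (∑ k ∈ Finset.range i, u ^ k).comp (a' (u ^ (p - i)))
  have hFW : ∀ v, F v ∈ W := fun v => by
    simp only [F, LinearMap.neg_apply, LinearMap.sum_apply, LinearMap.comp_apply]
    exact neg_mem (Submodule.sum_mem _ fun i _ => Submodule.sum_mem _ fun k _ =>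
      huW k _ (Subtype.coe_prop _))
  let A : L → L := fun v => ∑ i ∈ Finset.range p, (u ^ i) (a' (u ^ (p - i)) v)
  have hAF : ∀ v, (u - 1) (F v) = -A v := by
    intro v
    have h0 : ∑ i ∈ Finset.range p, a' (u ^ (p - i)) v = 0 := by
      simp only [a', LinearMap.comp_apply, ← map_sum]
      rw [show rI u (∑ i ∈ Finset.range p, (u ^ (p - i)) v) = 0 from ?_]
      · simp
      rw [← LinearMap.sum_apply]
      have hs : ∑ i ∈ Finset.range p, u ^ (p - i) = trOp p u * u := by
        rw [trOp, Finset.sum_mul, ← Finset.sum_range_reflect]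
        refine Finset.sum_congr rfl fun i hi => ?_
        rw [← pow_succ]
        congr 1
        have := Finset.mem_range.1 hi
        omega
      rw [hs]
      refine Subtype.ext ?_
      show (u - 1) ((trOp p u * u) v) = 0
      exact LinearMap.congr_fun (sub_mul_trOp hu) (u v)
    simp only [F, A, LinearMap.neg_apply, LinearMap.sum_apply, LinearMap.comp_apply, map_neg,
      map_sum]
    rw [neg_inj]
    conv_rhs => rw [← sub_zero (∑ i ∈ Finset.range p, _), ← h0, ← Finset.sum_sub_distrib]
    refine Finset.sum_congr rfl fun i _ => ?_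
    rw [← map_sum, ← LinearMap.sum_apply, ← Module.End.mul_apply, mul_geom_sum,
      LinearMap.sub_apply, Module.End.one_apply]
  have hA : ∀ v, A (u v) = u (A v) := by
    intro v
    simp only [A, map_sum]
    have hmul : ∀ g : Module.End R L, a' g (u v) = a' (g * u) v := fun g => rfl
    simp only [hmul, ← pow_succ, ← Module.End.mul_apply u, ← pow_succ']
    obtain ⟨q, hq⟩ : ∃ q, p = q + 1 := ⟨p - 1, by have := hp.out.pos; omega⟩
    subst hq
    rw [Finset.sum_range_succ' (fun i => (u ^ i) _), Finset.sum_range_succ (fun i => (u ^ (i + 1)) _)]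
    refine congrArg₂ (· + ·) (Finset.sum_congr rfl fun i hi => ?_) ?_
    · have := Finset.mem_range.1 hi
      rw [show q + 1 - (i + 1) + 1 = q + 1 - i by omega]
    · rw [show q + 1 - q = 1 by omega, hu, pow_zero, show u ^ (q + 1 - 0 + 1) = u ^ 1 by
        rw [show q + 1 - 0 + 1 = (q + 1) + 1 by omega, pow_add, hu, one_mul]]
  refine ⟨F, LinearMap.ext fun v => ?_, fun y _ => hFW y, fun y hy => ?_, fun v hv => ?_⟩
  · rw [Module.End.mul_apply, Module.End.mul_apply]
    refine sub_eq_zero.1 (eq_zero_of_fix_of_ker (p := p) (u := u) hpR (LinearMap.mem_ker.2 ?_) ?_)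
    · rw [map_sub, hAF, show (u - 1) (u (F v)) = u ((u - 1) (F v)) by simp, hAF, hA, map_neg,
        sub_self]
    · rw [map_sub, LinearMap.mem_ker.1 (hW (hFW _)), trOp_apply_comm,
        LinearMap.mem_ker.1 (hW (hFW _)), map_zero, sub_zero]
  · -- modulo `(u - 1) L` the value is `a (p u y)`
    have h1 : F y + ∑ i ∈ Finset.range p, i • a' (u ^ (p - i)) y ∈ augS u := by
      simp only [F, LinearMap.neg_apply, LinearMap.sum_apply, LinearMap.comp_apply]
      rw [neg_add_eq_sub, ← Finset.sum_sub_distrib]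
      refine Submodule.sum_mem _ fun i _ => ?_
      rw [← neg_sub, show i • a' (u ^ (p - i)) y = ∑ k ∈ Finset.range i, a' (u ^ (p - i)) y by
        rw [Finset.sum_const, Finset.card_range], ← Finset.sum_sub_distrib]
      exact neg_mem (Submodule.sum_mem _ fun k _ => pow_sub_self_mem_augS _ _)
    have h2 : ∑ i ∈ Finset.range p, i • ((u - 1) ((u ^ (p - i)) y)) =
        trOp p u y - (p : R) • u y := by
      have hstep : ∀ i ∈ Finset.range p, i • ((u - 1) ((u ^ (p - i)) y)) =
          (u ^ (p - i)) y + ((i : ℕ) • (u ^ (p + 1 - i)) y - (i + 1) • (u ^ (p + 1 - (i + 1))) y) := by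
        intro i hi
        have := Finset.mem_range.1 hi
        rw [show p + 1 - i = (p - i) + 1 by omega, show p + 1 - (i + 1) = p - i by omega, pow_succ',
          LinearMap.sub_apply, Module.End.one_apply, Module.End.mul_apply, smul_sub, add_smul,
          one_smul]
        abel
      rw [Finset.sum_congr rfl hstep, Finset.sum_add_distrib,
        Finset.sum_range_sub' (fun i => (i : ℕ) • (u ^ (p + 1 - i)) y), zero_smul, zero_sub,
        show p + 1 - p = 1 by omega, pow_one, ← sub_eq_add_neg, Nat.cast_smul_eq_nsmul,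
        ← LinearMap.sum_apply]
      congr 1
      rw [← Finset.sum_range_reflect]
      rw [show ∑ j ∈ Finset.range p, u ^ (p - (p - 1 - j)) = trOp p u * u by
        rw [trOp, Finset.sum_mul]
        refine Finset.sum_congr rfl fun i hi => ?_
        rw [← pow_succ]
        congr 1
        have := Finset.mem_range.1 hi
        omega, Module.End.mul_apply, trOp_apply_comm, mem_fixS.1 (range_trOp_le hu ⟨y, rfl⟩)]
    have h3 : ∑ i ∈ Finset.range p, i • a' (u ^ (p - i)) y =
        -((a (j ⟨y, hW hy⟩) : W) : L) := by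
      simp only [a', LinearMap.comp_apply]
      rw [show ∑ i ∈ Finset.range p, i • W.subtype (a (rI u ((u ^ (p - i)) y))) =
          W.subtype (a (∑ i ∈ Finset.range p, i • rI u ((u ^ (p - i)) y))) by
        simp only [map_sum, map_nsmul],
        show ∑ i ∈ Finset.range p, i • rI u ((u ^ (p - i)) y) = -j ⟨y, hW hy⟩ from ?_, map_neg,
        map_neg]
      · rfl
      refine Subtype.ext ?_
      simp only [AddSubmonoidClass.coe_finsetSum, NegMemClass.coe_neg]
      refine h2.trans ?_
      rw [LinearMap.mem_ker.1 (hW hy), zero_sub]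
      rfl
    rw [h3] at h1
    have h4 : ((a (j ⟨y, hW hy⟩) : W) : L) - (π ⟨y, hW hy⟩ : W) ∈ augS u := ha ⟨y, hW hy⟩
    have h5 : ((π ⟨y, hW hy⟩ : W) : L) - y ∈ augS u := hπ ⟨y, hy⟩
    have h6 := add_mem (add_mem h1 h4) h5
    convert h6 using 1
    abel
  · simp only [F, a', LinearMap.neg_apply, LinearMap.sum_apply, LinearMap.comp_apply, neg_eq_zero]
    refine Finset.sum_eq_zero fun i _ => Finset.sum_eq_zero fun k _ => ?_
    rw [show rI u ((u ^ (p - i)) v) = 0 from Subtype.ext
      (LinearMap.mem_ker.1 (by rw [pow_fix (mem_fixS.1 hv)]; exact hv)), map_zero, map_zero, map_zero]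

end Cfsg.Agent.DefectOne.Herbrand
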