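import Cfsg.Agent.Lib.DefectOne.Herbrand
import Mathlib.RingTheory.Nakayama
import Mathlib.LinearAlgebra.Dimension.Localization
import Mathlib.Algebra.CharP.Lemmas
import Mathlib.GroupTheory.Index

/-!
# The index formula for a lattice with an operator of order `p`
-/

set_option linter.unusedSectionVars false
set_option linter.style.haveILetI false

namespace Cfsg.Agent.DefectOne.Herbrand

open Module

variable {R : Type*} [CommRing R] [IsDomain R] [IsPrincipalIdealRing R] [IsLocalRing R]
  {L : Type*} [AddCommGroup L] [Module R L] [Module.Free R L] [Module.Finite R L]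

theorem relIndex_map_ker {M₁ M₂ : Type*} [AddCommGroup M₁] [AddCommGroup M₂] (f : M₁ →+ M₂)
    {A B : AddSubgroup M₁} (hker : f.ker ≤ A) :
    (A.map f).relIndex (B.map f) = A.relIndex B := by
  rw [← AddSubgroup.relIndex_comap, AddSubgroup.comap_map_eq, sup_eq_left.2 hker]

variable {p : ℕ} [hp : Fact p.Prime] {u : Module.End R L} (hpR : Irreducible (p : R))
include hpR

/-- The index of `p M` in a submodule `M`. -/
theorem relIndex_smul [Finite (R ⧸ Ideal.span {(p : R)})] (A : Submodule R L) :
    ((A.map ((p : R) • (LinearMap.id : L →ₗ[R] L))).toAddSubgroup).relIndex A.toAddSubgroup =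
      Nat.card (R ⧸ Ideal.span {(p : R)}) ^ Module.finrank R A := by
  set b := Module.finBasis R A
  let φ : A →+ (Fin (Module.finrank R A) → R ⧸ Ideal.span {(p : R)}) :=
    { toFun := fun x i => Ideal.Quotient.mk _ (b.repr x i)
      map_zero' := by ext; simp
      map_add' := fun x y => by ext; simp }
  have hsurj : Function.Surjective φ := fun c => by
    refine ⟨b.equivFun.symm fun i => Classical.choose (Ideal.Quotient.mk_surjective (c i)), ?_⟩
    ext i
    show Ideal.Quotient.mk _ (b.repr _ i) = c i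
    rw [← Basis.equivFun_apply, LinearEquiv.apply_symm_apply]
    exact Classical.choose_spec (Ideal.Quotient.mk_surjective (c i))
  have hker : φ.ker = (A.map ((p : R) • (LinearMap.id : L →ₗ[R] L))).toAddSubgroup.addSubgroupOf
      A.toAddSubgroup := by
    ext x
    constructor
    · intro hx
      have : ∀ i, ∃ c, b.repr x i = (p : R) * c := fun i =>
        Ideal.mem_span_singleton'.1 (Ideal.Quotient.eq_zero_iff_mem.1 (congrFun hx i)) |>.imp
          fun c hc => by rw [← hc, mul_comm]
      choose c hc using this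
      refine ⟨(b.equivFun.symm c : A), Subtype.coe_prop _, ?_⟩
      show (p : R) • ((b.equivFun.symm c : A) : L) = (x : L)
      rw [← SetLike.val_smul, ← map_smul]
      congr 1
      apply b.equivFun.injective
      rw [LinearEquiv.apply_symm_apply]
      exact funext fun i => (hc i).symm
    · rintro ⟨z, hz, hzx⟩
      refine funext fun i => ?_
      show Ideal.Quotient.mk _ (b.repr x i) = 0
      rw [show x = (p : R) • (⟨z, hz⟩ : A) from Subtype.ext hzx.symm, map_smul,
        Finsupp.smul_apply, Ideal.Quotient.eq_zero_iff_mem, smul_eq_mul]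
      exact Ideal.mul_mem_right _ _ (Ideal.subset_span rfl)
  rw [AddSubgroup.relIndex, ← hker]
  show φ.ker.index = _
  rw [AddSubgroup.index_eq_card, Nat.card_congr
    (QuotientAddGroup.quotientKerEquivOfSurjective φ hsurj).toEquiv, Nat.card_fun, Nat.card_fin]

omit hpR in
theorem exists_cyclotomic_split (p : ℕ) [hp : Fact p.Prime] :
    ∃ g h : Polynomial ℤ, (Polynomial.X - 1) ^ (p - 1) =
      (∑ i ∈ Finset.range p, Polynomial.X ^ i) + Polynomial.C (p : ℤ) * g ∧
      g = -1 + (Polynomial.X - 1) * h := by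
  obtain ⟨g, hg⟩ : Polynomial.C (p : ℤ) ∣
      (Polynomial.X - 1) ^ (p - 1) - ∑ i ∈ Finset.range p, Polynomial.X ^ i := by
    rw [Polynomial.C_dvd_iff_dvd_coeff]
    intro n
    rw [← ZMod.intCast_zmod_eq_zero_iff_dvd]
    show Int.castRingHom (ZMod p) (Polynomial.coeff _ n) = 0
    rw [← Polynomial.coeff_map]
    have : ((Polynomial.X - 1) ^ (p - 1) : Polynomial (ZMod p)) =
        ∑ i ∈ Finset.range p, Polynomial.X ^ i := by
      refine mul_right_cancel₀ (b := Polynomial.X - 1)
        (by simpa using Polynomial.X_sub_C_ne_zero (1 : ZMod p)) ?_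
      rw [geom_sum_mul, ← pow_succ, Nat.sub_add_cancel hp.out.one_lt.le, sub_pow_char, one_pow]
    simp [Polynomial.map_sum, this]
  have hg1 : g.eval 1 = -1 := by
    have := congrArg (Polynomial.eval 1) hg
    have hp1 : p - 1 ≠ 0 := by have := hp.out.two_le; omega
    simp [Polynomial.eval_finsetSum, hp1] at this
    have h0 : (p : ℤ) ≠ 0 := by exact_mod_cast hp.out.ne_zero
    exact mul_left_cancel₀ h0 (by linarith)
  obtain ⟨h, hh⟩ := Polynomial.X_sub_C_dvd_sub_C_eval (a := (1 : ℤ)) (p := g)
  refine ⟨g, h, by rw [← hg]; ring, ?_⟩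
  rw [hg1, map_neg, map_one] at hh
  linear_combination hh

/-- On `ker T` the operator `(u - 1) ^ (p - 1)` has the image `p ker T`. -/
theorem map_sub_pow_eq (_hu : u ^ p = 1) :
    (LinearMap.ker (trOp p u)).map ((u - 1) ^ (p - 1)) =
      (LinearMap.ker (trOp p u)).map ((p : R) • (LinearMap.id : L →ₗ[R] L)) := by
  set K := LinearMap.ker (trOp p u) with hK
  obtain ⟨g, h, hg, hh⟩ := exists_cyclotomic_split p
  have hpoly : ∀ (q : Polynomial ℤ) (y : L), y ∈ K → (Polynomial.aeval u q) y ∈ K := by
    intro q y hy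
    refine LinearMap.mem_ker.2 ?_
    have hc : trOp p u * Polynomial.aeval u q = Polynomial.aeval u q * trOp p u := by
      rw [show trOp p u = Polynomial.aeval u (∑ i ∈ Finset.range p, (Polynomial.X : Polynomial ℤ) ^ i)
        by simp [trOp], ← map_mul, ← map_mul, mul_comm]
    rw [← Module.End.mul_apply, hc, Module.End.mul_apply, LinearMap.mem_ker.1 hy, map_zero]
  have hsub : ∀ i : ℕ, (u - 1) ^ i = Polynomial.aeval u ((Polynomial.X - 1 : Polynomial ℤ) ^ i) :=
    fun i => by simp
  have hid : ∀ y ∈ K, ((u - 1) ^ (p - 1)) y = (p : R) • (Polynomial.aeval u g) y := by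
    intro y hy
    rw [hsub, hg, map_add, map_mul, map_sum, LinearMap.add_apply, Module.End.mul_apply,
      Polynomial.aeval_C, Module.algebraMap_end_apply, LinearMap.sum_apply]
    have h0 : ∑ c ∈ Finset.range p, ((Polynomial.aeval u) (Polynomial.X ^ c : Polynomial ℤ)) y = 0 := by
      simp only [map_pow, Polynomial.aeval_X]
      rw [← LinearMap.sum_apply]; exact LinearMap.mem_ker.1 hy
    rw [h0, zero_add]
    simp only [Nat.cast_smul_eq_nsmul]
  set A := K.map ((u - 1) ^ (p - 1)) with hA
  set P' := K.map ((p : R) • (LinearMap.id : L →ₗ[R] L)) with hP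
  have hAP : A ≤ P' := by
    rintro _ ⟨y, hy, rfl⟩
    exact ⟨_, hpoly g y hy, (hid y hy).symm⟩
  refine le_antisymm hAP (Submodule.le_of_le_smul_of_le_jacobson_bot (I := Ideal.span {(p : R)})
    (IsNoetherian.noetherian _) ?_ ?_)
  · rw [IsLocalRing.jacobson_eq_maximalIdeal _ bot_ne_top, Ideal.span_le, Set.singleton_subset_iff]
    exact hpR.not_isUnit
  -- `p z = (u - 1) p h z - (u - 1) ^ (p - 1) z`
  have hstep : ∀ (i : ℕ) (y : L), y ∈ K →
      ∃ y' ∈ K, (p : R) • y - (p : R) • ((u - 1) ^ i) y' ∈ A := by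
    intro i
    induction i with
    | zero => exact fun y hy => ⟨y, hy, by simp⟩
    | succ i ih =>
      intro y hy
      obtain ⟨y', hy', hmem⟩ := ih y hy
      refine ⟨(Polynomial.aeval u h) y', hpoly h y' hy', ?_⟩
      have hz : ((u - 1) ^ i) y' ∈ K := by rw [hsub]; exact hpoly _ y' hy'
      have he : (p : R) • y - (p : R) • ((u - 1) ^ (i + 1)) ((Polynomial.aeval u h) y') =
          ((p : R) • y - (p : R) • ((u - 1) ^ i) y') +
            -(((u - 1) ^ (p - 1)) (((u - 1) ^ i) y')) := by
        have e2 : (Polynomial.aeval u g) (((u - 1) ^ i) y') =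
            -(((u - 1) ^ i) y') + ((u - 1) ^ (i + 1)) ((Polynomial.aeval u h) y') := by
          rw [hsub (i + 1), hsub i, ← Module.End.mul_apply, ← Module.End.mul_apply, ← map_mul,
            ← map_mul, hh, show (-1 + (Polynomial.X - 1) * h) * (Polynomial.X - 1) ^ i =
              -(Polynomial.X - 1) ^ i + (Polynomial.X - 1) ^ (i + 1) * h by ring, map_add, map_neg,
            LinearMap.add_apply, LinearMap.neg_apply]
        rw [hid _ hz, e2, smul_add, smul_neg]
        abel
      rw [he]
      exact add_mem hmem (neg_mem ⟨_, hz, rfl⟩)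
  rintro _ ⟨y, hy, rfl⟩
  obtain ⟨y', hy', hmem⟩ := hstep (p - 1) y hy
  rw [Submodule.mem_sup]
  refine ⟨_, hmem, (p : R) • ((u - 1) ^ (p - 1)) y',
    Submodule.smul_mem_smul (Ideal.mem_span_singleton_self _) (hAP ⟨y', hy', rfl⟩), ?_⟩
  simp

/-- The index formula. -/
theorem index_formula [Finite (R ⧸ Ideal.span {(p : R)})] (hu : u ^ p = 1) :
    Nat.card (R ⧸ Ideal.span {(p : R)}) ^ (Module.finrank R L - Module.finrank R (fixS u)) *
        ((LinearMap.range (trOp p u)).toAddSubgroup.relIndex (fixS u).toAddSubgroup) ^ (p - 1) =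
      ((augS u).toAddSubgroup.relIndex (LinearMap.ker (trOp p u)).toAddSubgroup) ^ (p - 1) *
        Nat.card (R ⧸ Ideal.span {(p : R)}) ^ (Module.finrank R (fixS u) * (p - 1)) := by
  set q := Nat.card (R ⧸ Ideal.span {(p : R)})
  set T := trOp p u with hT
  set Fx := fixS u with hFx
  set K := LinearMap.ker T with hK
  set P1 := Fx.map ((p : R) • (LinearMap.id : L →ₗ[R] L)) with hP1
  set D := (u - 1).toAddMonoidHom with hD
  set K1 := K.toAddSubgroup.map D with hK1
  have hrank : Module.finrank R K = Module.finrank R L - Module.finrank R Fx := by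
    have h1 := Submodule.finrank_quotient_add_finrank (LinearMap.ker (T : L →ₗ[R] L))
    rw [(T : L →ₗ[R] L).quotKerEquivRange.finrank_eq] at h1
    have h2 : Module.finrank R (LinearMap.range T) = Module.finrank R Fx := by
      refine le_antisymm (Submodule.finrank_mono (range_trOp_le hu)) ?_
      exact LinearMap.finrank_le_finrank_of_injective
        (f := (T.rangeRestrict).comp Fx.subtype) fun a b hab => Subtype.ext (smul_left_cancel hpR (by
          have h3 : T (a : L) = T (b : L) := congrArg Subtype.val hab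
          rwa [hT, trOp_fix a.2, trOp_fix b.2] at h3))
    have h1' : Module.finrank R (LinearMap.range T) + Module.finrank R K = Module.finrank R L := h1
    omega
  -- `[T L : p Fx] = [L : Fx + K] = [(u - 1) L : (u - 1) K]`
  have hmid : P1.toAddSubgroup.relIndex (LinearMap.range T).toAddSubgroup =
      K1.relIndex (augS u).toAddSubgroup := by
    have e1 : P1.toAddSubgroup = (Fx.toAddSubgroup ⊔ K.toAddSubgroup).map T.toAddMonoidHom := by
      rw [AddSubgroup.map_sup, show K.toAddSubgroup.map T.toAddMonoidHom = ⊥ from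
        (AddSubgroup.map_eq_bot_iff _).2 (fun x hx => hx), sup_bot_eq]
      ext x
      constructor
      · rintro ⟨v, hv, rfl⟩; exact ⟨v, hv, trOp_fix hv⟩
      · rintro ⟨v, hv, rfl⟩; exact ⟨v, hv, (trOp_fix hv).symm⟩
    have e2 : K1 = (Fx.toAddSubgroup ⊔ K.toAddSubgroup).map D := by
      rw [AddSubgroup.map_sup, show Fx.toAddSubgroup.map D = ⊥ from
        (AddSubgroup.map_eq_bot_iff _).2 (fun x hx => hx), bot_sup_eq]
    rw [e1, e2, show (LinearMap.range T).toAddSubgroup = (⊤ : AddSubgroup L).map T.toAddMonoidHom by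
        ext x; simp, show (augS u).toAddSubgroup = (⊤ : AddSubgroup L).map D by
        ext x; simp [augS, hD], relIndex_map_ker (T : L →ₗ[R] L).toAddMonoidHom (A := Fx.toAddSubgroup ⊔ K.toAddSubgroup)
        (fun x hx => AddSubgroup.mem_sup_right hx),
      relIndex_map_ker D (A := Fx.toAddSubgroup ⊔ K.toAddSubgroup)
        (fun x hx => AddSubgroup.mem_sup_left hx)]
  have hP1T : P1 ≤ LinearMap.range T := by
    rintro _ ⟨v, hv, rfl⟩; exact ⟨v, trOp_fix hv⟩
  have hA := AddSubgroup.relIndex_mul_relIndex P1.toAddSubgroup (LinearMap.range T).toAddSubgroup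
    Fx.toAddSubgroup hP1T (range_trOp_le hu)
  have hB := AddSubgroup.relIndex_mul_relIndex K1 (augS u).toAddSubgroup K.toAddSubgroup
    (by rintro _ ⟨v, _, rfl⟩; exact ⟨v, rfl⟩) (augS_le_ker hu)
  -- `[K : (u - 1) K] ^ (p - 1) = q ^ rank K`
  have hinjK : ∀ y ∈ K, D y = 0 → y = 0 := fun y hy h0 =>
    eq_zero_of_fix_of_ker (p := p) hpR (LinearMap.mem_ker.2 h0) (LinearMap.mem_ker.1 hy)
  have hpowK : ∀ i : ℕ, K.toAddSubgroup.map ((u - 1) ^ i).toAddMonoidHom ≤ K.toAddSubgroup := by
    intro i
    induction i with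
    | zero => rintro _ ⟨y, hy, rfl⟩; simpa using hy
    | succ i ih =>
      rintro _ ⟨y, hy, rfl⟩
      show ((u - 1) ^ (i + 1)) y ∈ K
      rw [pow_succ', Module.End.mul_apply]
      exact augS_le_ker hu ⟨_, rfl⟩
  have hchain : ∀ i : ℕ, (K.toAddSubgroup.map ((u - 1) ^ i).toAddMonoidHom).relIndex K.toAddSubgroup =
      K1.relIndex K.toAddSubgroup ^ i := by
    intro i
    induction i with
    | zero =>
      rw [pow_zero, pow_zero]
      exact AddSubgroup.relIndex_eq_one.2 fun y hy => ⟨y, hy, rfl⟩
    | succ i ih =>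
      have e : K.toAddSubgroup.map ((u - 1) ^ (i + 1)).toAddMonoidHom =
          (K.toAddSubgroup.map ((u - 1) ^ i).toAddMonoidHom).map D := by
        rw [AddSubgroup.map_map, pow_succ']; rfl
      rw [e, ← AddSubgroup.relIndex_mul_relIndex _ K1 K.toAddSubgroup
        (AddSubgroup.map_mono (hpowK i)) (by simpa [hK1, hD] using hpowK 1), pow_succ]
      congr 1
      set DK : K.toAddSubgroup →+ L := D.comp K.toAddSubgroup.subtype with hDK
      have hinj : Function.Injective DK := (injective_iff_map_eq_zero DK).2 fun y hy =>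
        Subtype.ext (hinjK _ y.2 hy)
      have emap : ∀ A : AddSubgroup L, A ≤ K.toAddSubgroup →
          (A.addSubgroupOf K.toAddSubgroup).map DK = A.map D := fun A hA => by
        rw [hDK, ← AddSubgroup.map_map, AddSubgroup.addSubgroupOf_map_subtype, inf_eq_left.2 hA]
      rw [← ih, hK1, ← emap _ (hpowK i), ← emap _ le_rfl,
        AddSubgroup.relIndex_map_map_of_injective _ _ hinj, AddSubgroup.addSubgroupOf_self,
        AddSubgroup.relIndex_top_right]
      rfl
  have hKK := hchain (p - 1)
  rw [show K.toAddSubgroup.map ((u - 1) ^ (p - 1)).toAddMonoidHom =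
      (K.map ((u - 1) ^ (p - 1))).toAddSubgroup from rfl, map_sub_pow_eq hpR hu,
    relIndex_smul hpR, hrank] at hKK
  rw [relIndex_smul hpR] at hA
  rw [hKK, ← hB, ← hmid, pow_mul, ← hA]
  ring

end Cfsg.Agent.DefectOne.Herbrand
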