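import Cfsg.Agent.Lib.DefectOne.PrimeOrder
import Cfsg.Agent.Lib.Blocks.NormalPair
import Cfsg.Agent.Lib.Char.Product

/-!
# Local data for a Sylow subgroup of order `p`

`C = C_G(P) = P × V`. The blocks of `C` correspond to the irreducible characters of `V`; for a
block `B` of `G`, the local components `D χ θ y = ⟨χ(y ·), θ⟩_V` satisfy column orthogonality with
respect to the set of `θ` whose blocks induce `B`, which is a single `N_G(P)`-orbit.
-/

set_option linter.style.haveILetI false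
set_option linter.unusedSectionVars false

namespace Cfsg.Agent.DefectOne.Local

open Cfsg Cfsg.Agent
open scoped ComplexConjugate Classical

universe u

variable {G : Type u} [Group G] [Fintype G] {p : ℕ} [hp : Fact p.Prime] {P : Sylow p G}

/-- The centralizer. -/
abbrev Csub (P : Sylow p G) : Subgroup G := Subgroup.centralizer ((P : Subgroup G) : Set G)

/-- The normalizer. -/
abbrev Nsub (P : Sylow p G) : Subgroup G := Subgroup.normalizer ((P : Subgroup G) : Set G)

/-- The `p'`-part of the centralizer. -/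
def Vsub (P : Sylow p G) : Subgroup G := (pPrimeCore p (Csub P)).map (Csub P).subtype

theorem V_le : Vsub P ≤ Csub P := by rintro _ ⟨w, -, rfl⟩; exact w.2

theorem commute_of_mem {y v : G} (hy : y ∈ (P : Subgroup G)) (hv : v ∈ Vsub P) : y * v = v * y :=
  Subgroup.mem_centralizer_iff.1 (V_le hv) y hy

theorem regular_of_mem {v : G} (hv : v ∈ Vsub P) : ¬ p ∣ orderOf v := by
  obtain ⟨w, hw, rfl⟩ := hv
  intro hd
  rw [Subgroup.subtype_apply, Subgroup.orderOf_coe] at hd
  exact PCore.not_dvd_card_pPrimeCore (hd.trans (Subgroup.orderOf_dvd_natCard _ hw))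

theorem not_dvd_card : ¬ p ∣ Nat.card (Vsub P) := by
  rw [Vsub, Subgroup.card_subtype]; exact PCore.not_dvd_card_pPrimeCore

section Prime

variable (hP : Nat.card P = p)
include hP

theorem comm {a b : G} (ha : a ∈ (P : Subgroup G)) (hb : b ∈ (P : Subgroup G)) : a * b = b * a :=
  (freeData_of_card_eq hP).mul_comm ha hb

theorem centralizer_eq {y : G} (hy : y ∈ (P : Subgroup G)) (hy1 : y ≠ 1) :
    Subgroup.centralizer ({y} : Set G) = Csub P := by
  have h1 : Subgroup.zpowers y = (P : Subgroup G) := by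
    refine Subgroup.eq_of_le_of_card_ge (Subgroup.zpowers_le.2 hy) ?_
    rw [Nat.card_zpowers, hP]
    rcases (Nat.dvd_prime hp.out).1 (hP ▸ Subgroup.orderOf_dvd_natCard _ hy : orderOf y ∣ p) with
      h | h
    · exact absurd (orderOf_eq_one_iff.1 h) hy1
    · exact h.ge
  rw [← Blocks.centralizer_zpowers_eq, h1]

theorem P_le : (P : Subgroup G) ≤ Csub P := fun _x hx =>
  Subgroup.mem_centralizer_iff.2 fun _q hq => comm hP hq hx

theorem core_facts :
    (pPrimeCore p (Csub P)).index = p ^ (Nat.card (Csub P)).factorization p ∧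
      ∀ g : Csub P, ¬ p ∣ orderOf g → g ∈ pPrimeCore p (Csub P) := by
  refine index_pPrimeCore_of_hasNormalPComplement
    (Transfer.hasNormalPComplement_of_normalizer_le_centralizer (P.subtype (P_le hP)) fun g _ => ?_)
  refine Subgroup.mem_centralizer_iff.2 fun x hx => Subtype.ext ?_
  exact Subgroup.mem_centralizer_iff.1 g.2 x hx

theorem mem_V {v : G} (hv : v ∈ Csub P) (hr : ¬ p ∣ orderOf v) : v ∈ Vsub P :=
  ⟨⟨v, hv⟩, (core_facts hP).2 ⟨v, hv⟩ (by rwa [Subgroup.orderOf_mk]), rfl⟩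

theorem exists_mul_eq {c : G} (hc : c ∈ Csub P) :
    ∃ y ∈ (P : Subgroup G), ∃ v ∈ Vsub P, y * v = c := by
  obtain ⟨hKidx, -⟩ := core_facts hP
  have hcompl : Subgroup.IsComplement' (pPrimeCore p (Csub P))
      ((P.subtype (P_le hP) : Sylow p (Csub P)) : Subgroup (Csub P)) := by
    refine Subgroup.isComplement'_of_coprime ?_ ?_
    · rw [(P.subtype (P_le hP)).card_eq_multiplicity, ← hKidx, Subgroup.card_mul_index]
    · rw [(P.subtype (P_le hP)).card_eq_multiplicity]
      exact Nat.Coprime.pow_right _ PCore.coprime_card_pPrimeCore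
  obtain ⟨⟨⟨w, hw⟩, ⟨y, hy⟩⟩, hwy⟩ := hcompl.2 ⟨c, hc⟩
  refine ⟨y, hy, w, ⟨w, hw, rfl⟩, ?_⟩
  have h1 := commute_of_mem (P := P) (show (y : G) ∈ (P : Subgroup G) from hy)
    (show (w : G) ∈ Vsub P from ⟨w, hw, rfl⟩)
  rw [h1]
  exact congrArg Subtype.val hwy

theorem conj_mem_V {n : G} (hn : n ∈ Nsub P) {v : G} (hv : v ∈ Vsub P) :
    n * v * n⁻¹ ∈ Vsub P := by
  refine mem_V hP (Subgroup.mem_centralizer_iff.2 fun y hy => ?_) ?_
  · have hy' : n⁻¹ * y * n ∈ (P : Subgroup G) := (Subgroup.mem_normalizer_iff''.1 hn y).1 hy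
    calc y * (n * v * n⁻¹) = n * ((n⁻¹ * y * n) * v) * n⁻¹ := by group
      _ = n * (v * (n⁻¹ * y * n)) * n⁻¹ := by rw [commute_of_mem hy' hv]
      _ = n * v * n⁻¹ * y := by group
  · rw [show orderOf (n * v * n⁻¹) = orderOf v from (MulAut.conj n).orderOf_eq v]
    exact regular_of_mem hv

/-- The multiplication `P × V → G`. -/
noncomputable def mulHom : ↥(P : Subgroup G) × ↥(Vsub P) →* Csub P where
  toFun x := ⟨x.1 * x.2, mul_mem (P_le hP x.1.2) (V_le x.2.2)⟩
  map_one' := Subtype.ext (one_mul _)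
  map_mul' a b := Subtype.ext (by
    show (a.1 : G) * b.1 * ((a.2 : G) * b.2) = (a.1 : G) * a.2 * ((b.1 : G) * b.2)
    rw [mul_assoc, ← mul_assoc (b.1 : G), commute_of_mem b.1.2 a.2.2]
    group)

theorem mulHom_bijective : Function.Bijective (mulHom (P := P) hP) := by
  refine ⟨(injective_iff_map_eq_one _).2 fun x hx => ?_, fun c => ?_⟩
  · have h1 : (x.1 : G) * x.2 = 1 := congrArg Subtype.val hx
    have h2 : (x.2 : G) ∈ (P : Subgroup G) := by
      rw [eq_inv_of_mul_eq_one_right h1]; exact inv_mem x.1.2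
    have h3 : (x.2 : G) = 1 := by
      by_contra hne
      refine regular_of_mem x.2.2 ?_
      rcases (Nat.dvd_prime hp.out).1 ((Subgroup.orderOf_dvd_natCard _ h2).trans (dvd_of_eq hP))
        with h | h
      · exact absurd (orderOf_eq_one_iff.1 h) hne
      · rw [h]
    exact Prod.ext (Subtype.ext (by rw [h3, mul_one] at h1; exact h1)) (Subtype.ext h3)
  · obtain ⟨y, hy, v, hv, h⟩ := exists_mul_eq hP c.2
    exact ⟨(⟨y, hy⟩, ⟨v, hv⟩), Subtype.ext h⟩

/-- `P × V ≅ C`. -/
noncomputable def prodEquiv : ↥(P : Subgroup G) × ↥(Vsub P) ≃* Csub P :=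
  MulEquiv.ofBijective (mulHom hP) (mulHom_bijective hP)

theorem prodEquiv_coe (x : ↥(P : Subgroup G) × ↥(Vsub P)) : (prodEquiv hP x : G) = x.1 * x.2 := rfl

/-- The irreducible character `l ⊗ θ` of `C`. -/
noncomputable def tens (l : IrrCharacter (P : Subgroup G)) (θ : IrrCharacter (Vsub P)) :
    IrrCharacter (Csub P) :=
  Char.irrCongr (prodEquiv hP) ⟨_, Char.isIrrCharacter_prod_mul l.2 θ.2⟩

theorem tens_apply (l : IrrCharacter (P : Subgroup G)) (θ : IrrCharacter (Vsub P))
    (x : ↥(P : Subgroup G) × ↥(Vsub P)) : (tens hP l θ).1 (prodEquiv hP x) = l.1 x.1 * θ.1 x.2 := by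
  show l.1 ((prodEquiv hP).symm (prodEquiv hP x)).1 * θ.1 ((prodEquiv hP).symm (prodEquiv hP x)).2 = _
  rw [MulEquiv.symm_apply_apply]

theorem linearP (l : IrrCharacter (P : Subgroup G)) : l.1 1 = 1 :=
  (freeData_of_card_eq hP).linear l

theorem tens_apply_V (l : IrrCharacter (P : Subgroup G)) (θ : IrrCharacter (Vsub P))
    (c : Csub P) (v : Vsub P) (h : (c : G) = v) : (tens hP l θ).1 c = θ.1 v := by
  rw [show c = prodEquiv hP (1, v) from Subtype.ext (by rw [prodEquiv_coe]; simpa using h),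
    tens_apply, linearP hP, one_mul]

theorem tens_injective {l l' : IrrCharacter (P : Subgroup G)} {θ θ' : IrrCharacter (Vsub P)}
    (h : tens hP l θ = tens hP l' θ') : l = l' ∧ θ = θ' := by
  have h1 : ∀ x : ↥(P : Subgroup G) × ↥(Vsub P), l.1 x.1 * θ.1 x.2 = l'.1 x.1 * θ'.1 x.2 := fun x => by
    rw [← tens_apply hP, ← tens_apply hP, h]
  have hθ : θ = θ' := Subtype.ext (funext fun v => by simpa [linearP hP] using h1 (1, v))
  subst hθ
  exact ⟨Subtype.ext (funext fun y => mul_right_cancel₀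
    (Char.IsIrrCharacter.apply_one_ne_zero θ.2) (h1 (y, 1))), rfl⟩

theorem exists_tens (η : IrrCharacter (Csub P)) : ∃ l θ, η = tens hP l θ := by
  obtain ⟨φ, ψ, hφ, hψ, h⟩ := Char.exists_eq_prod_mul ((Char.irrCongr (prodEquiv hP)).symm η).2
  refine ⟨⟨φ, hφ⟩, ⟨ψ, hψ⟩, ?_⟩
  rw [← (Char.irrCongr (prodEquiv hP)).apply_symm_apply η]
  exact congrArg (Char.irrCongr (prodEquiv hP)) (Subtype.ext h)

theorem centralChar_tens (l : IrrCharacter (P : Subgroup G)) (θ : IrrCharacter (Vsub P))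
    (x : ↥(P : Subgroup G) × ↥(Vsub P)) :
    centralChar (tens hP l θ).1 (prodEquiv hP x) = l.1 x.1 * centralChar θ.1 x.2 := by
  let π : Csub P →* Vsub P := (MonoidHom.snd _ _).comp (prodEquiv hP).symm.toMonoidHom
  have hπ : ∀ z, π (prodEquiv hP z) = z.2 := fun z => by simp [π]
  have hsurj : Function.Surjective π := fun v => ⟨prodEquiv hP (1, v), hπ _⟩
  have hcz : Subgroup.centralizer ({prodEquiv hP x} : Set (Csub P)) =
      (Subgroup.centralizer ({x.2} : Set (Vsub P))).comap π := by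
    ext c
    obtain ⟨z, rfl⟩ := (prodEquiv hP).surjective c
    rw [Subgroup.mem_comap, hπ, Subgroup.mem_centralizer_singleton_iff,
      Subgroup.mem_centralizer_singleton_iff, ← map_mul, ← map_mul, (prodEquiv hP).injective.eq_iff,
      Prod.ext_iff, Prod.fst_mul, Prod.fst_mul, Prod.snd_mul, Prod.snd_mul]
    exact ⟨fun h => h.2, fun h => ⟨Subtype.ext (comm hP z.1.2 x.1.2), h⟩⟩
  rw [centralChar, centralChar, hcz, Subgroup.index_comap_of_surjective _ hsurj, tens_apply,
    tens_apply_V hP l θ 1 1 rfl]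
  ring

/-- Conjugation of `V` by the normalizer. -/
noncomputable def conjV (n : Nsub P) : Vsub P ≃* Vsub P where
  toFun v := ⟨(n : G) * v * (n : G)⁻¹, conj_mem_V hP n.2 v.2⟩
  invFun v := ⟨(n : G)⁻¹ * v * n, by simpa using conj_mem_V hP (inv_mem n.2) v.2⟩
  left_inv v := Subtype.ext (by simp [mul_assoc])
  right_inv v := Subtype.ext (by simp [mul_assoc])
  map_mul' a b := Subtype.ext (by simp [mul_assoc])

/-- `θ` moved by `n`. -/
noncomputable def thetaN (θ : IrrCharacter (Vsub P)) (n : Nsub P) : IrrCharacter (Vsub P) :=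
  ⟨θ.1 ∘ conjV hP n, Char.IsIrrCharacter.comp_surjective θ.2 (conjV hP n).toMonoidHom
    (conjV hP n).surjective⟩

theorem thetaN_apply (θ : IrrCharacter (Vsub P)) (n : Nsub P) (v : Vsub P) :
    (thetaN hP θ n).1 v = θ.1 (conjV hP n v) := rfl

theorem thetaN_one (θ : IrrCharacter (Vsub P)) : thetaN hP θ 1 = θ :=
  Subtype.ext (funext fun v => congrArg θ.1 (Subtype.ext (by simp [conjV])))

theorem thetaN_mul (θ : IrrCharacter (Vsub P)) (a b : Nsub P) :
    thetaN hP (thetaN hP θ a) b = thetaN hP θ (a * b) :=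
  Subtype.ext (funext fun v => congrArg θ.1 (Subtype.ext (by simp [conjV, mul_assoc])))

theorem thetaN_apply_one (θ : IrrCharacter (Vsub P)) (n : Nsub P) :
    (thetaN hP θ n).1 1 = θ.1 1 := congrArg θ.1 (map_one (conjV hP n))

theorem thetaN_centralizer (θ : IrrCharacter (Vsub P)) (n : Nsub P) (hn : (n : G) ∈ Csub P) :
    thetaN hP θ n = θ := by
  obtain ⟨y, hy, v, hv, he⟩ := exists_mul_eq hP hn
  refine Subtype.ext (funext fun w => ?_)
  rw [thetaN_apply, show conjV hP n w = ⟨v, hv⟩ * w * (⟨v, hv⟩ : Vsub P)⁻¹ from Subtype.ext ?_]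
  · exact Blocks.irr_classFun θ w _
  · show (n : G) * w * (n : G)⁻¹ = v * w * v⁻¹
    rw [← he, commute_of_mem hy hv, show v * y * (w : G) * (v * y)⁻¹ = v * (y * w * y⁻¹) * v⁻¹ by
      group, commute_of_mem hy w.2, mul_inv_cancel_right]

end Prime

/-- The local component of `χ` at `θ`. -/
noncomputable def comp (χ : IrrCharacter G) (θ : IrrCharacter (Vsub P)) (y : (P : Subgroup G)) : ℂ :=
  classInner (fun v : Vsub P => χ.1 ((y : G) * v)) θ.1

variable (hP : Nat.card P = p)

theorem apply_eq (χ : IrrCharacter G) (y : (P : Subgroup G)) (v : Vsub P) :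
    χ.1 ((y : G) * v) = ∑ θ : IrrCharacter (Vsub P), comp χ θ y * θ.1 v := by
  have hcl : IsClassFunction (Vsub P) (fun v : Vsub P => χ.1 ((y : G) * v)) := fun a b => by
    show χ.1 ((y : G) * (b * a * b⁻¹ : Vsub P)) = χ.1 ((y : G) * a)
    rw [Subgroup.coe_mul, Subgroup.coe_mul, Subgroup.coe_inv,
      show (y : G) * ((b : G) * a * (b : G)⁻¹) = (b : G) * ((y : G) * a) * (b : G)⁻¹ by
        rw [← mul_assoc, ← mul_assoc, commute_of_mem y.2 b.2]; group,
      Blocks.irr_classFun χ]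
  have := congrFun (Char.eq_sum_classInner_smul hcl) v
  simpa [Finset.sum_apply, comp] using this

include hP

theorem comp_conj (χ : IrrCharacter G) (θ : IrrCharacter (Vsub P)) (n : Nsub P)
    (y y' : (P : Subgroup G)) (hy : (y' : G) = n * y * (n : G)⁻¹) :
    comp χ θ y' = comp χ (thetaN hP θ n) y := by
  simp only [comp, classInner]
  congr 1
  refine (Fintype.sum_equiv (conjV hP n).toEquiv _ _ fun v => ?_).symm
  simp only [MulEquiv.toEquiv_eq_coe, EquivLike.coe_coe, thetaN_apply, hy]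
  congr 1
  show χ.1 ((y : G) * v) = χ.1 ((n : G) * y * (n : G)⁻¹ * ((n : G) * v * (n : G)⁻¹))
  rw [show (n : G) * y * (n : G)⁻¹ * ((n : G) * v * (n : G)⁻¹) = n * ((y : G) * v) * (n : G)⁻¹ by
    group, Blocks.irr_classFun χ]

theorem comp_integral (χ : IrrCharacter G) (θ : IrrCharacter (Vsub P))
    (l : IrrCharacter (P : Subgroup G)) : ∃ z : ℤ, classInner (comp χ θ) l.1 = z := by
  obtain ⟨n, hn⟩ := Char.IsCharacter.exists_nat_classInner
    (Char.IsCharacter.comp (Char.irr_isCharacter χ) ((Csub P).subtype.comp (prodEquiv hP).toMonoidHom))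
    (Char.irr_isCharacter (⟨_, Char.isIrrCharacter_prod_mul l.2 θ.2⟩ :
      IrrCharacter (↥(P : Subgroup G) × ↥(Vsub P))))
  refine ⟨n, ?_⟩
  rw [Int.cast_natCast, ← hn]
  simp only [comp, classInner, Nat.card_prod, Nat.cast_mul, Fintype.sum_prod_type, map_mul,
    mul_inv, Finset.mul_sum, Finset.sum_mul]
  refine Finset.sum_congr rfl fun y _ => Finset.sum_congr rfl fun v _ => ?_
  show _ = _ * (χ.1 (prodEquiv hP (y, v) : G) * _)
  rw [prodEquiv_coe]
  ring

variable {M : Ideal AlgInt} [M.IsMaximal]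

/-- The block of `C` attached to `θ`. -/
noncomputable def blk (M : Ideal AlgInt) (θ : IrrCharacter (Vsub P)) : Set (IrrCharacter (Csub P)) :=
  blockOf M (tens hP (Char.trivialChar _) θ).1

/-- The `θ` whose blocks induce `B`. -/
def indSet (M : Ideal AlgInt) (B : Set (IrrCharacter G)) : Set (IrrCharacter (Vsub P)) :=
  {θ | IsInducedBlock M (Csub P) (blk hP M θ) B}

variable (hpM : (p : AlgInt) ∈ M)
include hpM

theorem memLocalIdeal_linear_sub_one (l : IrrCharacter (P : Subgroup G)) (y : (P : Subgroup G)) :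
    MemLocalIdeal M (l.1 y - 1) := by
  haveI := hp
  obtain ⟨lam, hlam⟩ := Char.IsCharacter.exists_monoidHom (Char.irr_isCharacter l) (linearP hP l)
  have hpow : l.1 y ^ p = 1 := by
    have hy : y ^ p = 1 := by
      have := pow_card_eq_one' (x := y)
      rwa [show Nat.card (P : Subgroup G) = p from hP] at this
    rw [← hlam, ← map_pow, hy, map_one]
  have hint : IsIntegral ℤ (l.1 y) :=
    ⟨Polynomial.X ^ p - 1, by simpa using Polynomial.monic_X_pow_sub_C (1 : ℤ) hp.out.ne_zero,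
      by simp [hpow]⟩
  have hR : MemLocalRing M (l.1 y) := Blocks.memLocalRing_of_isIntegral hint
  haveI := Blocks.charP_residue (M := M) hpM
  have h1 : (Blocks.red M (l.1 y) - 1) ^ p = 0 := by
    rw [sub_pow_char, ← Blocks.red_pow hR, hpow, Blocks.red_one, one_pow, sub_self]
  rw [← Blocks.red_eq_iff hR Blocks.memLocalRing_one, Blocks.red_one]
  exact sub_eq_zero.1 (pow_eq_zero_iff hp.out.ne_zero |>.1 h1)

theorem sameBlock_tens (l : IrrCharacter (P : Subgroup G)) (θ : IrrCharacter (Vsub P)) :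
    SameBlock M (tens hP l θ).1 (tens hP (Char.trivialChar _) θ).1 := by
  intro c
  obtain ⟨x, rfl⟩ := (prodEquiv hP).surjective c
  rw [centralChar_tens, centralChar_tens, Char.trivialChar_apply, one_mul,
    show l.1 x.1 * centralChar θ.1 x.2 - centralChar θ.1 x.2 =
      (l.1 x.1 - 1) * centralChar θ.1 x.2 by ring]
  exact Blocks.MemLocalIdeal.mul_right (memLocalIdeal_linear_sub_one hP hpM l x.1)
    (Blocks.memLocalRing_centralChar θ x.2)

theorem eq_of_sameBlock_tens {l l' : IrrCharacter (P : Subgroup G)}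
    {θ θ' : IrrCharacter (Vsub P)} (h : SameBlock M (tens hP l θ).1 (tens hP l' θ').1) : θ = θ' := by
  have h1 : θ' ∈ blockOf M θ.1 := fun v => by
    have := h (prodEquiv hP (1, v))
    rwa [centralChar_tens, centralChar_tens, linearP hP, linearP hP, one_mul, one_mul] at this
  rw [(Blocks.blockOf_eq_singleton_iff hpM θ).2 ?_] at h1
  · exact h1.symm
  · rw [Nat.factorization_eq_zero_of_not_dvd (not_dvd_card (P := P)),
      Nat.factorization_eq_zero_of_not_dvd fun hd =>
        not_dvd_card (P := P) (hd.trans (Char.degree_dvd_natCard θ))]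

theorem blockOf_tens (l : IrrCharacter (P : Subgroup G)) (θ : IrrCharacter (Vsub P)) :
    blockOf M (tens hP l θ).1 = blk hP M θ :=
  Blocks.blockOf_eq (sameBlock_tens hP hpM l θ)

theorem mem_blk_iff {η : IrrCharacter (Csub P)} {θ : IrrCharacter (Vsub P)} :
    η ∈ blk hP M θ ↔ ∃ l, η = tens hP l θ := by
  constructor
  · intro h
    obtain ⟨l, θ', rfl⟩ := exists_tens hP η
    exact ⟨l, by rw [eq_of_sameBlock_tens hP hpM h]⟩
  · rintro ⟨l, rfl⟩
    exact Blocks.SameBlock.symm (sameBlock_tens hP hpM l θ)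

theorem exists_induced (θ : IrrCharacter (Vsub P)) :
    ∃ B : Set (IrrCharacter G), θ ∈ indSet hP M B := by
  obtain ⟨B, hB⟩ := Blocks.inducedBlockDefined_of_le hpM P.isPGroup' (le_refl (Csub P))
    (Subgroup.centralizer_le_normalizer _) (P_le hP) (Blocks.isPBlock_blockOf (M := M)
      (tens hP (Char.trivialChar _) θ))
  exact ⟨B, hB⟩

theorem indSet_unique {θ : IrrCharacter (Vsub P)} {B B' : Set (IrrCharacter G)}
    (h : θ ∈ indSet hP M B) (h' : θ ∈ indSet hP M B') : B = B' :=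
  Blocks.IsInducedBlock.unique h h'

theorem isDefectGroup_of_indSet {θ : IrrCharacter (Vsub P)} {B : Set (IrrCharacter G)}
    (h : θ ∈ indSet hP M B) : IsDefectGroup p M B (P : Subgroup G) := by
  haveI := Fintype.ofFinite (Csub P)
  obtain ⟨D, hD⟩ := Blocks.exists_defectGroup (p := p) (M := M) h.1
  obtain ⟨E, hE, hle⟩ := Blocks.IsInducedBlock.exists_defectGroup_ge hpM h hD
  haveI : ((P : Subgroup G).subgroupOf (Csub P)).Normal :=
    Blocks.normal_subgroupOf_of_le_normalizer (Subgroup.centralizer_le_normalizer _)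
  have h1 := Subgroup.map_mono (f := (Csub P).subtype) (Blocks.normal_le_defectGroup hpM h.1
    (P.isPGroup'.of_equiv (Subgroup.subgroupOfEquivOfLe (P_le hP)).symm) hD)
  rw [Subgroup.map_subgroupOf_eq_of_le (P_le hP)] at h1
  rwa [← P.is_maximal' (Blocks.IsDefectGroup.isPGroup hE) (h1.trans hle)]

omit hP hpM in
theorem sum_inner_mul {ι : Type*} (s : Finset ι) (F F' : ι → Vsub P → ℂ) (φ φ' : Vsub P → ℂ) :
    ∑ χ ∈ s, classInner (F χ) φ * conj (classInner (F' χ) φ') =
      (Nat.card (Vsub P) : ℂ)⁻¹ * (Nat.card (Vsub P) : ℂ)⁻¹ * ∑ v, ∑ v',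
        conj (φ v) * φ' v' * ∑ χ ∈ s, F χ v * conj (F' χ v') := by
  calc ∑ χ ∈ s, classInner (F χ) φ * conj (classInner (F' χ) φ')
      = ∑ χ ∈ s, (Nat.card (Vsub P) : ℂ)⁻¹ * (Nat.card (Vsub P) : ℂ)⁻¹ * ∑ v, ∑ v',
          conj (φ v) * φ' v' * (F χ v * conj (F' χ v')) := by
        refine Finset.sum_congr rfl fun χ _ => ?_
        simp only [classInner, map_mul, map_inv₀, map_natCast, map_sum, Complex.conj_conj]
        rw [mul_mul_mul_comm, Finset.sum_mul_sum]
        congr 1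
        exact Finset.sum_congr rfl fun v _ => Finset.sum_congr rfl fun v' _ => by ring
    _ = _ := by
        rw [← Finset.mul_sum, Finset.sum_comm]
        congr 1
        refine Finset.sum_congr rfl fun v _ => ?_
        rw [Finset.sum_comm]
        exact Finset.sum_congr rfl fun v' _ => (Finset.mul_sum _ _ _).symm

/-- The orthogonality on a section of `y`. -/
theorem orth_section {y : G} (hy : ∃ k, orderOf y = p ^ k) {H : Subgroup G} [Fintype H]
    (hH : H = Subgroup.centralizer ({y} : Set G)) {B : Set (IrrCharacter G)} (hB : IsPBlock M B)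
    {s s' : H} (hs : IsPRegular p s) (hs' : IsPRegular p s') :
    ∑ χ ∈ Finset.univ.filter (· ∈ B), χ.1 (y * s) * conj (χ.1 (y * s')) =
      ∑ η ∈ Finset.univ.filter (· ∈ Blocks.inducingSet M H B), η.1 s * conj (η.1 s') := by
  subst hH
  convert Blocks.second_main_orth hpM hy hB hs hs'

theorem sum_section {B : Set (IrrCharacter G)} (hB : IsPBlock M B) {y : (P : Subgroup G)}
    (hy : y ≠ 1) (v v' : Vsub P) :
    ∑ χ ∈ Finset.univ.filter (· ∈ B), χ.1 ((y : G) * v) * conj (χ.1 ((y : G) * v')) =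
      (p : ℂ) * ∑ θ ∈ Finset.univ.filter (· ∈ indSet hP M B), θ.1 v * conj (θ.1 v') := by
  haveI := Fintype.ofFinite (Csub P)
  have hy1 : (y : G) ≠ 1 := fun he => hy (Subtype.ext he)
  have hr : ∀ w : Vsub P, IsPRegular p (⟨w, V_le w.2⟩ : Csub P) := fun w => by
    rw [IsPRegular, Subgroup.orderOf_mk]; exact regular_of_mem w.2
  rw [show ∑ χ ∈ Finset.univ.filter (· ∈ B), χ.1 ((y : G) * v) * conj (χ.1 ((y : G) * v')) =
      ∑ η ∈ Finset.univ.filter (· ∈ Blocks.inducingSet M (Csub P) B),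
        η.1 ⟨v, V_le v.2⟩ * conj (η.1 ⟨v', V_le v'.2⟩) from
    orth_section hP hpM (freeData_of_card_eq hP |>.exists_pow_orderOf y.2)
      (centralizer_eq hP y.2 hy1).symm hB (hr v) (hr v'), Finset.mul_sum]
  have hmem : ∀ (l : IrrCharacter (P : Subgroup G)) (θ : IrrCharacter (Vsub P)),
      tens hP l θ ∈ Blocks.inducingSet M (Csub P) B ↔ θ ∈ indSet hP M B := fun l θ => by
    show IsInducedBlock M _ (blockOf M _) B ↔ _
    rw [blockOf_tens hP hpM]; rfl
  rw [← Finset.sum_bij (s := (Finset.univ : Finset (IrrCharacter (P : Subgroup G))) ×ˢ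
      Finset.univ.filter (· ∈ indSet hP M B)) (f := fun x => x.2.1 v * conj (x.2.1 v'))
    (fun x _ => tens hP x.1 x.2)
    (fun x hx => Finset.mem_filter.2 ⟨Finset.mem_univ _, (hmem _ _).2
      (Finset.mem_filter.1 (Finset.mem_product.1 hx).2).2⟩)
    (fun a _ b _ hab => Prod.ext (tens_injective hP hab).1 (tens_injective hP hab).2)
    (fun η hη => ?_)
    (fun x _ => by rw [tens_apply_V hP x.1 x.2 _ v rfl, tens_apply_V hP x.1 x.2 _ v' rfl]),
    Finset.sum_product]
  · simp only [Finset.sum_const, Finset.card_univ, (freeData_of_card_eq hP).card_irr, hP,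
      nsmul_eq_mul, Finset.mul_sum]
  · obtain ⟨l, θ, rfl⟩ := exists_tens hP η
    exact ⟨(l, θ), Finset.mem_product.2 ⟨Finset.mem_univ _, Finset.mem_filter.2
      ⟨Finset.mem_univ _, (hmem _ _).1 (Finset.mem_filter.1 hη).2⟩⟩, rfl⟩

/-- Column orthogonality of the components at one element. -/
theorem comp_orth_self {B : Set (IrrCharacter G)} (hB : IsPBlock M B) {y : (P : Subgroup G)}
    (hy : y ≠ 1) (θ₁ θ₂ : IrrCharacter (Vsub P)) :
    ∑ χ ∈ Finset.univ.filter (· ∈ B), comp χ θ₁ y * conj (comp χ θ₂ y) =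
      if θ₁ = θ₂ ∧ θ₁ ∈ indSet hP M B then (p : ℂ) else 0 := by
  have hinner : ∀ θ θ' : IrrCharacter (Vsub P),
      classInner θ.1 θ'.1 = if θ = θ' then 1 else 0 := fun θ θ' => by
    split_ifs with he
    · subst he; exact Char.classInner_irr_self θ.2
    · exact Char.classInner_irr_of_ne θ.2 θ'.2 fun hh => he (Subtype.ext hh)
  calc ∑ χ ∈ Finset.univ.filter (· ∈ B), comp χ θ₁ y * conj (comp χ θ₂ y)
      = (p : ℂ) * ∑ θ ∈ Finset.univ.filter (· ∈ indSet hP M B),
          classInner θ.1 θ₁.1 * conj (classInner θ.1 θ₂.1) := by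
        simp only [comp]
        rw [sum_inner_mul, sum_inner_mul]
        simp only [sum_section hP hpM hB hy, Finset.mul_sum]
        refine Finset.sum_congr rfl fun v _ => Finset.sum_congr rfl fun v' _ =>
          Finset.sum_congr rfl fun θ _ => by ring
    _ = if θ₁ = θ₂ ∧ θ₁ ∈ indSet hP M B then (p : ℂ) else 0 := by
        simp only [hinner, apply_ite conj, map_one, map_zero, ite_mul, one_mul, zero_mul,
          Finset.sum_ite_eq', Finset.mem_filter, Finset.mem_univ, true_and, mul_ite, mul_one,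
          mul_zero]
        by_cases h1 : θ₁ = θ₂
        · subst h1; by_cases h2 : θ₁ ∈ indSet hP M B <;> simp [h2]
        · simp [h1, Ne.symm h1]

/-- Components at non-conjugate elements are orthogonal. -/
theorem comp_orth_ne {B : Set (IrrCharacter G)} (hB : IsPBlock M B) {y y' : (P : Subgroup G)}
    (hne : ¬ IsConj (y : G) (y' : G)) (θ₁ θ₂ : IrrCharacter (Vsub P)) :
    ∑ χ ∈ Finset.univ.filter (· ∈ B), comp χ θ₁ y * conj (comp χ θ₂ y') = 0 := by
  have hz : ∀ v v' : Vsub P, ∑ χ ∈ Finset.univ.filter (· ∈ B),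
      χ.1 ((y : G) * v) * conj (χ.1 ((y' : G) * v')) = 0 := fun v v' => by
    refine Blocks.block_orthogonality hpM (x := (y : G)) (y := (y' : G)) ?_ ?_ hne hB
    · exact ⟨v, rfl, commute_of_mem y.2 v.2, (freeData_of_card_eq hP).exists_pow_orderOf y.2,
        regular_of_mem v.2⟩
    · exact ⟨v', rfl, commute_of_mem y'.2 v'.2, (freeData_of_card_eq hP).exists_pow_orderOf y'.2,
        regular_of_mem v'.2⟩
  simp only [comp]
  rw [sum_inner_mul, Finset.sum_eq_zero, mul_zero]
  intro v _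
  exact Finset.sum_eq_zero fun v' _ => by rw [hz v v', mul_zero]

/-- Regular values are orthogonal to the components. -/
theorem comp_orth_regular {B : Set (IrrCharacter G)} (hB : IsPBlock M B) {g : G}
    (hg : IsPRegular p g) {y : (P : Subgroup G)} (hy : y ≠ 1) (θ : IrrCharacter (Vsub P)) :
    ∑ χ ∈ Finset.univ.filter (· ∈ B), χ.1 g * conj (comp χ θ y) = 0 := by
  have hz : ∀ v : Vsub P, ∑ χ ∈ Finset.univ.filter (· ∈ B),
      χ.1 g * conj (χ.1 ((y : G) * v)) = 0 := fun v => by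
    refine Blocks.block_orthogonality hpM (x := 1) (y := (y : G))
      ⟨g, one_mul _, Commute.one_left _, ⟨0, by simp⟩, hg⟩
      ⟨v, rfl, commute_of_mem y.2 v.2, (freeData_of_card_eq hP).exists_pow_orderOf y.2,
        regular_of_mem v.2⟩ (fun hc => hy (Subtype.ext (isConj_one_right.1 hc))) hB
  simp only [comp, classInner, map_mul, map_inv₀, map_natCast, map_sum, Complex.conj_conj,
    Finset.mul_sum]
  rw [Finset.sum_comm, Finset.sum_eq_zero]
  intro v _
  rw [show (0 : ℂ) = (Nat.card (Vsub P) : ℂ)⁻¹ * θ.1 v * 0 by ring, ← hz v, Finset.mul_sum]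
  exact Finset.sum_congr rfl fun χ _ => by ring

theorem indSet_conj {B : Set (IrrCharacter G)} {θ : IrrCharacter (Vsub P)}
    (h : θ ∈ indSet hP M B) (n : Nsub P) : thetaN hP θ n ∈ indSet hP M B := by
  obtain ⟨y, hy⟩ : ∃ y : (P : Subgroup G), y ≠ 1 := by
    haveI : Nontrivial (P : Subgroup G) := Finite.one_lt_card_iff_nontrivial.1
      (hp.out.one_lt.trans_le hP.ge)
    exact exists_ne 1
  let y' : (P : Subgroup G) :=
    ⟨(n : G) * y * (n : G)⁻¹, (Subgroup.mem_normalizer_iff.1 n.2 _).1 y.2⟩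
  have hy' : y' ≠ 1 := fun he => hy (Subtype.ext (by simpa [y'] using congrArg Subtype.val he))
  have h1 := comp_orth_self hP hpM h.2.1 hy' θ θ
  rw [if_pos ⟨rfl, h⟩] at h1
  simp only [comp_conj hP _ θ n y y' rfl] at h1
  rw [comp_orth_self hP hpM h.2.1 hy] at h1
  by_contra hn
  rw [if_neg fun hh => hn hh.2] at h1
  exact hp.out.ne_zero (Nat.cast_eq_zero.1 h1.symm)

theorem conj_of_blocks {H : Subgroup G} (hH : H = (P : Subgroup G) ⊔ Csub P)
    {B : Set (IrrCharacter G)} (hD : IsDefectGroup p M B (P : Subgroup G))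
    {b b' : Set (IrrCharacter H)}
    (hb : IsInducedBlock M H b B) (hb' : IsInducedBlock M H b' B) :
    ∃ n ∈ Nsub P, ∀ θ ∈ b, ∃ θ' ∈ b', ∀ x : H, ∀ hx : n * (x : G) * n⁻¹ ∈ H,
      θ'.1 x = θ.1 ⟨n * (x : G) * n⁻¹, hx⟩ := by
  subst hH
  exact Blocks.exists_normalizer_conj_of_induced hpM hD hb hb'

/-- The inducing set is one orbit. -/
theorem exists_thetaN {B : Set (IrrCharacter G)} {θ θ' : IrrCharacter (Vsub P)}
    (h : θ ∈ indSet hP M B) (h' : θ' ∈ indSet hP M B) : ∃ n : Nsub P, thetaN hP θ n = θ' := by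
  obtain ⟨n, hn, hall⟩ := conj_of_blocks hP hpM (sup_eq_right.2 (P_le hP)).symm
    (isDefectGroup_of_indSet hP hpM h) h h'
  obtain ⟨η, hη, heq⟩ := hall _ ((mem_blk_iff hP hpM).2 ⟨_, rfl⟩ :
    tens hP (Char.trivialChar _) θ ∈ blk hP M θ)
  obtain ⟨l, rfl⟩ := (mem_blk_iff hP hpM).1 hη
  refine ⟨⟨n, hn⟩, Subtype.ext (funext fun v => ?_)⟩
  have h2 := heq ⟨v, V_le v.2⟩ (V_le (conj_mem_V hP hn v.2))
  rw [tens_apply_V hP l θ' _ v rfl,
    tens_apply_V hP _ θ _ ⟨_, conj_mem_V hP hn v.2⟩ rfl] at h2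
  exact h2.symm

end Cfsg.Agent.DefectOne.Local
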