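import Cfsg.Agent.Lib.Blocks.CentralChar
import Cfsg.Agent.Lib.Char.Orthogonality
import Cfsg.Agent.Lib.CharInt.Basic
import Cfsg.Agent.Lib.CharInt.Galois
import Mathlib.NumberTheory.Padics.PadicIntegers
import Mathlib.NumberTheory.Padics.ProperSpace
import Mathlib.FieldTheory.IsAlgClosed.Classification
import Mathlib.FieldTheory.IsAlgClosed.AlgebraicClosure
import Mathlib.Analysis.Complex.Cardinality
import Mathlib.Topology.Algebra.Module.Cardinality
import Mathlib.FieldTheory.Galois.Infinite
import Mathlib.RingTheory.Artinian.Ring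
import Mathlib.RingTheory.Localization.Module
import Mathlib.RepresentationTheory.Basic
import Mathlib.LinearAlgebra.Trace
import Mathlib.LinearAlgebra.Matrix.Charpoly.Basic
import Mathlib.Algebra.MonoidAlgebra.Module

/-!
# `p`-adic lattices affording Galois orbit sums

For every irreducible character `χ` there is a `ℤ_p`-lattice of `G` whose endomorphism ring has
only trivial idempotents and whose character is a nonzero sum of images of `χ` under field
automorphisms of `ℂ`.
-/

set_option linter.style.haveILetI false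
set_option linter.unusedSectionVars false

namespace Cfsg.Agent.DefectOne

open Cfsg Cfsg.Agent Module
open scoped ComplexConjugate Cardinal

variable (p : ℕ) [hp : Fact p.Prime]

theorem mk_padic_le : #ℚ_[p] ≤ 𝔠 := by
  refine le_trans (Cardinal.mk_le_of_surjective (f := Quotient.mk'') Quotient.mk''_surjective) ?_
  refine le_trans (Cardinal.mk_subtype_le _) ?_
  rw [← Cardinal.power_def, Cardinal.mk_nat, Cardinal.mk_eq_aleph0 ℚ, Cardinal.aleph0_power_aleph0]

theorem exists_ringEquiv_complex : Nonempty (AlgebraicClosure ℚ_[p] ≃+* ℂ) := by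
  have hge : 𝔠 ≤ #ℚ_[p] := continuum_le_cardinal_of_nontriviallyNormedField ℚ_[p]
  have h1 : #(AlgebraicClosure ℚ_[p]) = 𝔠 := by
    refine le_antisymm ((Algebra.IsAlgebraic.cardinalMk_le_max ℚ_[p] _).trans
      (max_le (mk_padic_le p) Cardinal.aleph0_le_continuum)) (hge.trans ?_)
    exact Cardinal.mk_le_of_injective (algebraMap ℚ_[p] (AlgebraicClosure ℚ_[p])).injective
  refine IsAlgClosed.ringEquiv_of_equiv_of_charZero (h1 ▸ Cardinal.aleph0_lt_continuum)
    (Cardinal.eq.1 (h1.trans Cardinal.mk_complex.symm))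

universe u

variable {G : Type u} [Group G] [Fintype G]

open Cfsg.Agent.Blocks in
/-- A lattice without nontrivial idempotent endomorphisms affording a sum of conjugates of `χ`. -/
theorem exists_brick (χ : IrrCharacter G) :
    ∃ (Φ : ℤ_[p] →+* ℂ) (d : ℕ) (ρ : Representation ℤ_[p] G (Fin d → ℤ_[p]))
      (n : IrrCharacter G → ℕ),
      (∀ F : Module.End ℤ_[p] (Fin d → ℤ_[p]), (∀ g, F * ρ g = ρ g * F) → F * F = F → F = 0 ∨ F = 1) ∧
      (∀ η, n η ≠ 0 → ∃ σ : ℂ ≃+* ℂ, η.1 = fun g => σ (χ.1 g)) ∧ (∃ η, n η ≠ 0) ∧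
      ∀ g, Φ (LinearMap.trace ℤ_[p] _ (ρ g)) = ∑ η, (n η : ℂ) * η.1 g := by
  classical
  obtain ⟨j⟩ := exists_ringEquiv_complex p
  set ι : ℚ_[p] →+* ℂ := j.toRingHom.comp (algebraMap ℚ_[p] (AlgebraicClosure ℚ_[p])) with hι
  let σ : Gal(AlgebraicClosure ℚ_[p]/ℚ_[p]) → (ℂ ≃+* ℂ) := fun τ =>
    (j.symm.trans τ.toRingEquiv).trans j
  let act : Gal(AlgebraicClosure ℚ_[p]/ℚ_[p]) → IrrCharacter G → IrrCharacter G := fun τ η =>
    ⟨fun g => σ τ (η.1 g), CharInt.isIrrCharacter_map η.2 (σ τ).toRingHom⟩
  have hactmul : ∀ τ τ' η, act τ (act τ' η) = act (τ * τ') η := fun τ τ' η =>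
    Subtype.ext (funext fun g => by
      show j (τ (j.symm (j (τ' (j.symm (η.1 g)))))) = j (τ (τ' (j.symm (η.1 g))))
      rw [RingEquiv.symm_apply_apply])
  set O : Set (IrrCharacter G) := {η | ∃ τ, act τ χ = η} with hO
  have hχO : χ ∈ O := ⟨1, Subtype.ext (funext fun g => j.apply_symm_apply (χ.1 g))⟩
  -- the idempotent has coefficients in `ℚ_p`
  have hfix : ∀ τ g, σ τ (blockCoeff O g) = blockCoeff O g := by
    intro τ g
    simp only [blockCoeff_eq_sum, map_mul, map_inv₀, map_natCast, map_sum]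
    congr 1
    simp only [Char.IsCharacter.conj_apply (Char.irr_isCharacter _)]
    refine Finset.sum_bij' (fun η _ => act τ η) (fun η _ => act τ⁻¹ η) ?_ ?_ ?_ ?_
      (fun η _ => by rfl)
    · intro η hη
      obtain ⟨τ', rfl⟩ := (Finset.mem_filter.1 hη).2
      exact Finset.mem_filter.2 ⟨Finset.mem_univ _, τ * τ', (hactmul _ _ _).symm⟩
    · intro η hη
      obtain ⟨τ', rfl⟩ := (Finset.mem_filter.1 hη).2
      exact Finset.mem_filter.2 ⟨Finset.mem_univ _, τ⁻¹ * τ', (hactmul _ _ _).symm⟩
    · intro η _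
      rw [hactmul, inv_mul_cancel]
      exact Subtype.ext (funext fun g => j.apply_symm_apply (η.1 g))
    · intro η _
      rw [hactmul, mul_inv_cancel]
      exact Subtype.ext (funext fun g => j.apply_symm_apply (η.1 g))
  have hrat : ∀ g, ∃ a : ℚ_[p], ι a = blockCoeff O g := by
    intro g
    obtain ⟨a, ha⟩ := (InfiniteGalois.mem_range_algebraMap_iff_fixed (k := ℚ_[p])
      (j.symm (blockCoeff O g))).2 fun τ => j.injective (by
        rw [j.apply_symm_apply]; exact hfix τ g)
    exact ⟨a, by rw [hι, RingHom.comp_apply, ha]; exact j.apply_symm_apply _⟩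
  choose ec hec using hrat
  set e : MonoidAlgebra ℚ_[p] G := ofFun ec with he
  have hee : e * e = e := alg_ext fun g => ι.injective (by
    rw [coeff_mul_eq_sum, map_sum]
    simp only [map_mul, he, coeff_ofFun, hec]
    have h := congrArg (fun z => z.coeff g) (blockIdem_mul_self O)
    simpa [coeff_mul_eq_sum, coeff_blockIdem] using h)
  have he0 : e ≠ 0 := fun h0 => by
    have h1 : blockIdem O = 0 := alg_ext fun g => by
      rw [coeff_blockIdem, ← hec]
      have := congrArg (fun z => z.coeff g) h0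
      simp only [he, coeff_ofFun] at this
      rw [this]
      simp
    have h2 := omega_blockIdem (χ := χ) O
    rw [h1, if_pos hχO] at h2
    simp [omega, chiL] at h2
  have hec' : ∀ w, e * w = w * e := fun w => by
    refine ((IsCentralElt.commute ?_ w)).eq
    intro g h
    apply ι.injective
    simp only [he, coeff_ofFun, hec, ← coeff_blockIdem]
    exact isCentralElt_blockIdem O g h
  -- a minimal left ideal under `e`
  haveI : Module.Finite ℚ_[p] (MonoidAlgebra ℚ_[p] G) :=
    Module.Finite.of_surjective (∑ x : G, (LinearMap.proj (R := ℚ_[p]) (φ := fun _ : G => ℚ_[p]) x).smulRight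
      (MonoidAlgebra.single x (1 : ℚ_[p]))) fun z => ⟨fun x => z.coeff x, by
        conv_rhs => rw [eq_sum_single z]
        simp [MonoidAlgebra.smul_single]⟩
  haveI : IsArtinianRing (MonoidAlgebra ℚ_[p] G) := IsArtinianRing.of_finite ℚ_[p] _
  obtain ⟨S, hS, hSle⟩ := (eq_bot_or_exists_atom_le
    (Submodule.span (MonoidAlgebra ℚ_[p] G) {e})).resolve_left
    (by rw [Submodule.span_singleton_eq_bot]; exact he0)
  have heS : ∀ s ∈ S, e * s = s := by
    intro s hs
    obtain ⟨a, rfl⟩ := Submodule.mem_span_singleton.1 (hSle hs)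
    rw [smul_eq_mul, hec', mul_assoc, hee]
  -- the lattice
  let emb : (G → ℤ_[p]) →ₗ[ℤ_[p]] MonoidAlgebra ℚ_[p] G :=
    { toFun := fun f => ofFun fun g => ((f g : ℤ_[p]) : ℚ_[p])
      map_add' := fun a b => alg_ext fun g => by simp
      map_smul' := fun r a => alg_ext fun g => by simp [Algebra.smul_def] }
  have hemb : ∀ f g, (emb f).coeff g = ((f g : ℤ_[p]) : ℚ_[p]) := fun f g => by simp [emb]
  set L : Submodule ℤ_[p] (G → ℤ_[p]) := (S.restrictScalars ℤ_[p]).comap emb with hL
  have hemb_inj : Function.Injective emb := fun a b h => funext fun g =>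
    PadicInt.ext (by rw [← hemb, h, hemb])
  obtain ⟨d, b⟩ : Σ d, Basis (Fin d) ℤ_[p] L := ⟨_, Module.finBasis ℤ_[p] L⟩
  let τL : G → (G → ℤ_[p]) →ₗ[ℤ_[p]] (G → ℤ_[p]) := fun g => LinearMap.funLeft _ _ fun x => g⁻¹ * x
  have hτ : ∀ g f, emb (τL g f) = MonoidAlgebra.single g 1 * emb f := fun g f => alg_ext fun x => by
    rw [hemb, coeff_single_mul', one_mul, hemb]; rfl
  have hτL : ∀ g, ∀ f ∈ L, τL g f ∈ L := fun g f hf => by
    show emb (τL g f) ∈ S
    rw [hτ, ← smul_eq_mul]
    exact S.smul_mem _ hf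
  let ρL : Representation ℤ_[p] G L :=
    { toFun := fun g => (τL g).restrict (hτL g)
      map_one' := LinearMap.ext fun f => Subtype.ext (funext fun x => by
        show (f : G → ℤ_[p]) (1⁻¹ * x) = (f : G → ℤ_[p]) x
        rw [inv_one, one_mul])
      map_mul' := fun a c => LinearMap.ext fun f => Subtype.ext (funext fun x => by
        show (f : G → ℤ_[p]) ((a * c)⁻¹ * x) = (f : G → ℤ_[p]) (c⁻¹ * (a⁻¹ * x))
        rw [mul_inv_rev, mul_assoc]) }
  let ρ : Representation ℤ_[p] G (Fin d → ℤ_[p]) :=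
    { toFun := fun g => b.equivFun.toLinearMap ∘ₗ ρL g ∘ₗ b.equivFun.symm.toLinearMap
      map_one' := LinearMap.ext fun f => by
        show b.equivFun (ρL 1 (b.equivFun.symm f)) = f
        rw [map_one, Module.End.one_apply, LinearEquiv.apply_symm_apply]
      map_mul' := fun a c => LinearMap.ext fun f => by
        show b.equivFun (ρL (a * c) (b.equivFun.symm f)) =
          b.equivFun (ρL a (b.equivFun.symm (b.equivFun (ρL c (b.equivFun.symm f)))))
        rw [map_mul, Module.End.mul_apply, LinearEquiv.symm_apply_apply] }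
  -- a basis of `S`
  let w : Fin d → S.restrictScalars ℚ_[p] := fun i => ⟨emb (b i : L), (b i).2⟩
  have hli : LinearIndependent ℚ_[p] w := by
    refine LinearIndependent.of_comp (S.restrictScalars ℚ_[p]).subtype ?_
    rw [← LinearIndependent.iff_fractionRing ℤ_[p] ℚ_[p]]
    exact (b.linearIndependent.map' (emb.comp L.subtype)
      (LinearMap.ker_eq_bot.2 (hemb_inj.comp Subtype.val_injective)))
  have hspan : ⊤ ≤ Submodule.span ℚ_[p] (Set.range w) := by
    rintro ⟨x, hx⟩ -
    obtain ⟨⟨m, hm⟩, hN⟩ := IsLocalization.exist_integer_multiples (nonZeroDivisors ℤ_[p])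
      (Finset.univ : Finset G) (fun g => x.coeff g)
    choose f hf using fun g => hN g (Finset.mem_univ g)
    have hfx : emb f = (m : ℚ_[p]) • x := alg_ext fun g => by
      rw [hemb, MonoidAlgebra.coeff_smul, Finsupp.smul_apply, smul_eq_mul]
      exact hf g
    have hfL : f ∈ L := by
      show emb f ∈ S
      rw [hfx]
      exact S.smul_of_tower_mem _ hx
    have hm0 : (m : ℚ_[p]) ≠ 0 := fun h0 => nonZeroDivisors.ne_zero hm (PadicInt.ext h0)
    have key : (⟨x, hx⟩ : S.restrictScalars ℚ_[p]) =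
        ∑ i, ((m : ℚ_[p])⁻¹ * ((b.repr ⟨f, hfL⟩ i : ℤ_[p]) : ℚ_[p])) • w i := by
      refine Subtype.ext ?_
      rw [AddSubmonoidClass.coe_finsetSum]
      simp only [SetLike.val_smul, w, mul_smul, ← Finset.smul_sum]
      rw [eq_inv_smul_iff₀ hm0, ← hfx]
      conv_lhs => rw [show f = ((⟨f, hfL⟩ : L) : G → ℤ_[p]) from rfl, ← b.sum_repr ⟨f, hfL⟩]
      rw [AddSubmonoidClass.coe_finsetSum, map_sum]
      refine Finset.sum_congr rfl fun i _ => ?_
      rw [SetLike.val_smul, map_smul]
      exact alg_ext fun g => by simp [Algebra.smul_def]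
    rw [key]
    exact Submodule.sum_mem _ fun i _ => Submodule.smul_mem _ _ (Submodule.subset_span ⟨i, rfl⟩)
  let bS : Basis (Fin d) ℚ_[p] (S.restrictScalars ℚ_[p]) := Basis.mk hli hspan
  let lm : MonoidAlgebra ℚ_[p] G →ₗ[ℚ_[p]] Module.End ℚ_[p] (S.restrictScalars ℚ_[p]) :=
    { toFun := fun a => (LinearMap.mulLeft ℚ_[p] a).restrict fun x hx => by
        show a * x ∈ S
        exact S.smul_mem a hx
      map_add' := fun a c => LinearMap.ext fun x => Subtype.ext (add_mul a c _)
      map_smul' := fun r a => LinearMap.ext fun x => Subtype.ext (smul_mul_assoc r a _) }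
  let Mt : G → Matrix (Fin d) (Fin d) ℤ_[p] := fun g => LinearMap.toMatrix' (ρ g)
  let MQ : G → Matrix (Fin d) (Fin d) ℚ_[p] := fun g => (Mt g).map PadicInt.Coe.ringHom
  have hρe : ∀ g i, (ρ g) (Pi.single i 1) = b.equivFun (ρL g (b i)) := fun g i => by
    show b.equivFun (ρL g (b.equivFun.symm (Pi.single i 1))) = _
    rw [show b.equivFun.symm (Pi.single i 1) = b i by simp [Basis.equivFun_symm_apply, Pi.single_apply]]
  have hMQ : ∀ g, LinearMap.toMatrix bS bS (lm (MonoidAlgebra.single g 1)) = MQ g := by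
    intro g
    ext k i
    rw [LinearMap.toMatrix_apply, show lm (MonoidAlgebra.single g 1) (bS i) =
        ∑ k, ((b.repr (ρL g (b i)) k : ℤ_[p]) : ℚ_[p]) • bS k from ?_]
    · rw [bS.repr_sum_self]
      show _ = PadicInt.Coe.ringHom (LinearMap.toMatrix' (ρ g) k i)
      rw [LinearMap.toMatrix'_apply, hρe]
      rfl
    · refine Subtype.ext ?_
      rw [AddSubmonoidClass.coe_finsetSum]
      simp only [bS, Basis.coe_mk, SetLike.val_smul, w]
      show MonoidAlgebra.single g 1 * emb (b i : L) = _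
      rw [← hτ, show τL g (b i : L) = ((ρL g (b i) : L) : G → ℤ_[p]) from rfl]
      conv_lhs => rw [← b.sum_repr (ρL g (b i))]
      rw [AddSubmonoidClass.coe_finsetSum, map_sum]
      refine Finset.sum_congr rfl fun c _ => ?_
      rw [SetLike.val_smul, map_smul]
      exact alg_ext fun x => by simp [Algebra.smul_def]
  have hMmul : ∀ a c, Mt (a * c) = Mt a * Mt c := fun a c => by
    simp only [Mt, map_mul]; exact LinearMap.toMatrix'_comp _ _
  let ρC : Representation ℂ G (Fin d → ℂ) :=
    { toFun := fun g => Matrix.toLin' ((Mt g).map (ι.comp PadicInt.Coe.ringHom))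
      map_one' := by
        simp only [Mt, map_one]
        rw [show LinearMap.toMatrix' (1 : Module.End ℤ_[p] (Fin d → ℤ_[p])) = 1 from
          LinearMap.toMatrix'_id, Matrix.map_one _ (map_zero _) (map_one _), Matrix.toLin'_one]
        rfl
      map_mul' := fun a c => by
        rw [hMmul, Matrix.map_mul, Matrix.toLin'_mul]; rfl }
  have hχC : ∀ g, ρC.character g = (ι.comp PadicInt.Coe.ringHom) (LinearMap.trace ℤ_[p] _ (ρ g)) := by
    intro g
    show LinearMap.trace ℂ _ (Matrix.toLin' _) = _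
    rw [Matrix.trace_toLin'_eq, LinearMap.trace_eq_matrix_trace ℤ_[p] (Pi.basisFun ℤ_[p] (Fin d)),
      LinearMap.toMatrix_eq_toMatrix', Matrix.trace, Matrix.trace, map_sum]
    rfl
  choose m hm using fun η : IrrCharacter G => Char.IsCharacter.exists_nat_classInner
    (Char.isCharacter_character ρC) (Char.irr_isCharacter η)
  have hdec : ∀ g, ρC.character g = ∑ η, (m η : ℂ) * η.1 g := fun g => by
    have := congrFun (Char.eq_sum_classInner_smul
      (Char.IsCharacter.isClassFunction (Char.isCharacter_character ρC))) g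
    rw [this, Finset.sum_apply]
    exact Finset.sum_congr rfl fun η _ => by rw [Pi.smul_apply, hm, smul_eq_mul]
  -- `e` acts as the identity
  have hchi : chiL ρC.character (blockIdem O) = (d : ℂ) := by
    have h1 : ∀ g, ρC.character g = ι (LinearMap.trace ℚ_[p] _ (lm (MonoidAlgebra.single g 1))) := by
      intro g
      rw [hχC, LinearMap.trace_eq_matrix_trace ℚ_[p] bS, hMQ,
        LinearMap.trace_eq_matrix_trace ℤ_[p] (Pi.basisFun ℤ_[p] (Fin d)),
        LinearMap.toMatrix_eq_toMatrix', RingHom.comp_apply, Matrix.trace, Matrix.trace, map_sum]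
      rfl
    have h2 : lm e = 1 := LinearMap.ext fun x => Subtype.ext (heS _ x.2)
    rw [chiL_eq_sum]
    simp only [coeff_blockIdem, ← hec, h1, ← map_mul, ← map_sum]
    rw [show ∑ g, ec g * LinearMap.trace ℚ_[p] _ (lm (MonoidAlgebra.single g 1)) =
        LinearMap.trace ℚ_[p] _ (lm e) by
      conv_rhs => rw [eq_sum_single e, map_sum, map_sum]
      refine Finset.sum_congr rfl fun g _ => ?_
      rw [show MonoidAlgebra.single g (e.coeff g) = e.coeff g • MonoidAlgebra.single g (1 : ℚ_[p]) by
        rw [MonoidAlgebra.smul_single, smul_eq_mul, mul_one], map_smul, map_smul, smul_eq_mul, he,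
        coeff_ofFun], h2, LinearMap.trace_one, Module.finrank_eq_card_basis bS, Fintype.card_fin,
      map_natCast]
  have hdeg : ρC.character 1 = (d : ℂ) := by simp
  have hsum : ∀ η, m η ≠ 0 → η ∈ O := by
    have h1 : chiL ρC.character (blockIdem O) = ∑ η, (m η : ℂ) * if η ∈ O then η.1 1 else 0 := by
      simp only [← chiL_blockIdem, chiL_eq_sum, hdec, Finset.mul_sum]
      rw [Finset.sum_comm]
      exact Finset.sum_congr rfl fun η _ => Finset.sum_congr rfl fun g _ => by ring
    rw [hchi, ← hdeg, hdec] at h1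
    intro η hη
    by_contra hηO
    have h2 : ∑ η, (m η * if η ∈ O then 0 else Char.degree η) = 0 := by
      rw [← Nat.cast_inj (R := ℂ)]
      push_cast
      have := sub_eq_zero.2 h1
      rw [← Finset.sum_sub_distrib] at this
      refine Eq.trans (Finset.sum_congr rfl fun η _ => ?_) this
      split_ifs <;> simp [Char.apply_one_eq_degree]
    have := (Finset.sum_eq_zero_iff.1 h2) η (Finset.mem_univ _)
    rw [if_neg hηO] at this
    exact hη ((Nat.mul_eq_zero.1 this).resolve_right (Char.degree_pos η).ne')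
  have hd0 : d ≠ 0 := fun h0 => hS.1 (by
    rw [eq_bot_iff]
    intro x hx
    subst h0
    have := bS.sum_repr (⟨x, hx⟩ : S.restrictScalars ℚ_[p])
    rw [Finset.univ_eq_empty, Finset.sum_empty] at this
    exact (Submodule.mem_bot _).2 (congrArg Subtype.val this).symm)
  refine ⟨ι.comp PadicInt.Coe.ringHom, d, ρ, m, ?_, fun η hη => ?_, ?_, fun g => ?_⟩
  · intro F hF hFF
    set MF := (LinearMap.toMatrix' F).map PadicInt.Coe.ringHom with hMF
    set f := Matrix.toLin bS bS MF with hf
    have hcomm : ∀ (g : G) x, f (lm (MonoidAlgebra.single g 1) x) = lm (MonoidAlgebra.single g 1) (f x) := by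
      intro g x
      have hM : MF * MQ g = MQ g * MF := by
        simp only [hMF, MQ, Mt, ← Matrix.map_mul, ← LinearMap.toMatrix'_comp]
        rw [show F ∘ₗ ρ g = ρ g ∘ₗ F from hF g]
      have h1 : lm (MonoidAlgebra.single g 1) = Matrix.toLin bS bS (MQ g) := by
        rw [← hMQ, Matrix.toLin_toMatrix]
      rw [h1, hf, ← LinearMap.comp_apply, ← Matrix.toLin_mul, hM, Matrix.toLin_mul bS bS bS]
      rfl
    have hff : ∀ x, f (f x) = f x := fun x => by
      rw [hf, ← LinearMap.comp_apply, ← Matrix.toLin_mul, hMF, ← Matrix.map_mul,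
        ← LinearMap.toMatrix'_comp, show F ∘ₗ F = F from hFF]
    let R' : Submodule (MonoidAlgebra ℚ_[p] G) (MonoidAlgebra ℚ_[p] G) :=
      { carrier := {y | ∃ x, (f x : MonoidAlgebra ℚ_[p] G) = y}
        add_mem' := by rintro _ _ ⟨x, rfl⟩ ⟨z, rfl⟩; exact ⟨x + z, by rw [map_add]; rfl⟩
        zero_mem' := ⟨0, by rw [map_zero]; rfl⟩
        smul_mem' := by
          rintro a _ ⟨x, rfl⟩
          refine ⟨∑ g, a.coeff g • lm (MonoidAlgebra.single g 1) x, ?_⟩
          rw [map_sum, AddSubmonoidClass.coe_finsetSum]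
          conv_rhs => rw [smul_eq_mul, eq_sum_single a, Finset.sum_mul]
          refine Finset.sum_congr rfl fun g _ => ?_
          rw [map_smul, SetLike.val_smul, hcomm]
          show a.coeff g • (MonoidAlgebra.single g 1 * _) = _
          rw [← smul_mul_assoc, MonoidAlgebra.smul_single, smul_eq_mul, mul_one]
          rfl }
    have hR : R' ≤ S := by rintro _ ⟨x, rfl⟩; exact (f x).2
    rcases hS.le_iff.1 hR with h | h
    · left
      have hf0 : f = 0 := LinearMap.ext fun x => Subtype.ext
        ((Submodule.mem_bot _).1 (h.le (show (f x : MonoidAlgebra ℚ_[p] G) ∈ R' from ⟨x, rfl⟩)))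
      have : MF = 0 := (Matrix.toLin bS bS).injective (hf0.trans (map_zero _).symm)
      apply LinearMap.toMatrix'.injective
      rw [map_zero]
      ext k i
      have := congrFun (congrFun this k) i
      simp only [hMF, Matrix.map_apply, Matrix.zero_apply] at this
      exact PadicInt.ext ((show PadicInt.Coe.ringHom _ = ((LinearMap.toMatrix' F k i : ℤ_[p]) : ℚ_[p])
        from rfl).symm.trans (this.trans PadicInt.coe_zero.symm))
    · right
      have hf1 : f = LinearMap.id := LinearMap.ext fun x => by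
        obtain ⟨z, hz⟩ : (x : MonoidAlgebra ℚ_[p] G) ∈ R' := h.symm ▸ x.2
        rw [← (Subtype.ext hz : f z = x)]
        exact hff z
      have : MF = 1 := (Matrix.toLin bS bS).injective (hf1.trans (Matrix.toLin_one bS).symm)
      apply LinearMap.toMatrix'.injective
      rw [show LinearMap.toMatrix' (1 : Module.End ℤ_[p] (Fin d → ℤ_[p])) = 1 from LinearMap.toMatrix'_id]
      ext k i
      have := congrFun (congrFun this k) i
      simp only [hMF, Matrix.map_apply, Matrix.one_apply] at this ⊢
      apply PadicInt.ext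
      change _ = _ at this
      rw [show PadicInt.Coe.ringHom _ = ((LinearMap.toMatrix' F k i : ℤ_[p]) : ℚ_[p]) from rfl] at this
      rw [this]
      split_ifs <;> simp
  · obtain ⟨τ, rfl⟩ := hsum η hη
    exact ⟨σ τ, rfl⟩
  · by_contra! h0
    rw [hdec] at hdeg
    simp [h0] at hdeg
    exact hd0 (by exact_mod_cast hdeg.symm)
  · rw [← hχC, hdec]

end Cfsg.Agent.DefectOne
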