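import Cfsg.Agent.Lib.DefectOne.Vectors
import Cfsg.Agent.Lib.Char.KernelSum
import Cfsg.Agent.Lib.Char.Linear
import Mathlib.GroupTheory.SpecificGroups.Cyclic

/-!
# Orthogonal families of generalised characters of a group of order `p`

A family `D χ` of generalised characters of `A`, `|A| = p`, with `∑ D χ y * conj (D χ y') = p` or
`0` according as `y'` lies in the orbit of `y` under a group `E` of automorphisms, decomposes
into constants and an exceptional family indexed by the `E`-orbits of nontrivial characters.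
-/

set_option linter.style.haveILetI false
set_option linter.unusedSectionVars false

namespace Cfsg.Agent.DefectOne.Coord

open Cfsg Cfsg.Agent
open scoped ComplexConjugate Classical

universe u v

variable {A : Type u} [Group A] [Fintype A] {p : ℕ} [hp : Fact p.Prime]

/-- The hypotheses on the family. -/
structure Data (p : ℕ) {ι : Type v} (s : Finset ι) (D : ι → A → ℂ) (E : Subgroup (MulAut A))
    (deg : ι → ℕ) : Prop where
  card : Nat.card A = p
  int : ∀ χ ∈ s, ∀ l : IrrCharacter A, ∃ z : ℤ, classInner (D χ) l.1 = z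
  orth : ∀ y y' : A, y ≠ 1 → y' ≠ 1 →
    ∑ χ ∈ s, D χ y * conj (D χ y') = if ∃ φ ∈ E, φ y = y' then (p : ℂ) else 0
  deg_pos : ∀ χ ∈ s, 0 < deg χ
  deg_orth : ∀ y : A, y ≠ 1 → ∑ χ ∈ s, (deg χ : ℂ) * conj (D χ y) = 0
  nonzero : ∀ χ ∈ s, ∃ y : A, y ≠ 1 ∧ D χ y ≠ 0

variable {ι : Type v} {s : Finset ι} {D : ι → A → ℂ} {E : Subgroup (MulAut A)} {deg : ι → ℕ}

theorem comm_of_card (hA : Nat.card A = p) (a b : A) : a * b = b * a :=
  ((isCyclic_of_prime_card hA).commutative.is_comm.comm a b)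

theorem eq_of_apply_eq (hA : Nat.card A = p) {φ φ' : MulAut A} {y : A} (hy : y ≠ 1)
    (h : φ y = φ' y) : φ = φ' := by
  haveI : Fact (Nat.card A).Prime := ⟨hA ▸ hp.out⟩
  ext x
  obtain ⟨k, rfl⟩ := Subgroup.mem_zpowers_iff.1 (mem_zpowers_of_prime_card (p := p) hA hy (g' := x))
  rw [map_zpow, map_zpow, h]

/-- The automorphism group has order dividing `p - 1`. -/
theorem card_dvd (hA : Nat.card A = p) (E : Subgroup (MulAut A)) : Nat.card E ∣ p - 1 := by
  haveI : IsCyclic A := isCyclic_of_prime_card hA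
  refine (Subgroup.card_subgroup_dvd_card E).trans ?_
  rw [IsCyclic.card_mulAut, hA, Nat.totient_prime hp.out]

/-- A character composed with an automorphism. -/
noncomputable def actE (μ : IrrCharacter A) (φ : MulAut A) : IrrCharacter A :=
  ⟨μ.1 ∘ φ, Char.IsIrrCharacter.comp_surjective μ.2 φ.toMonoidHom φ.surjective⟩

theorem actE_apply (μ : IrrCharacter A) (φ : MulAut A) (y : A) : (actE μ φ).1 y = μ.1 (φ y) := rfl

/-- `l` and `μ` lie in one `E`-orbit. -/
def Rel (E : Subgroup (MulAut A)) (l μ : IrrCharacter A) : Prop := ∃ φ ∈ E, actE μ φ = l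

theorem rel_equivalence : Equivalence (Rel E) where
  refl l := ⟨1, one_mem _, Subtype.ext (funext fun _ => rfl)⟩
  symm {l μ} := by
    rintro ⟨φ, hφ, rfl⟩
    refine ⟨φ⁻¹, inv_mem hφ, Subtype.ext (funext fun y => ?_)⟩
    show μ.1 (φ (φ⁻¹ y)) = μ.1 y
    rw [MulAut.apply_inv_self]
  trans {l μ ν} := by
    rintro ⟨φ, hφ, rfl⟩ ⟨ψ, hψ, rfl⟩
    exact ⟨ψ * φ, mul_mem hψ hφ, Subtype.ext (funext fun y => rfl)⟩

theorem actE_eq_trivial_iff {μ : IrrCharacter A} {φ : MulAut A} :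
    actE μ φ = Char.trivialChar A ↔ μ = Char.trivialChar A := by
  constructor
  · intro h
    refine Subtype.ext (funext fun y => ?_)
    have := congrFun (congrArg Subtype.val h) (φ.symm y)
    rwa [actE_apply, MulEquiv.apply_symm_apply] at this
  · rintro rfl; rfl

variable (hA : Nat.card A = p)
include hA

theorem linear (l : IrrCharacter A) : l.1 1 = 1 := Char.apply_one_of_comm (comm_of_card hA) l

theorem card_irr : Fintype.card (IrrCharacter A) = p := by
  have h1 := Char.sum_degree_sq (G := A)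
  rw [Finset.sum_congr rfl fun l _ => show Char.degree l ^ 2 = 1 by
    have := linear hA l
    rw [Char.apply_one_eq_degree, Nat.cast_eq_one] at this
    rw [this, one_pow], Finset.sum_const, smul_eq_mul, mul_one, Finset.card_univ] at h1
  rw [h1, hA]

theorem exists_hom (l : IrrCharacter A) : ∃ lam : A →* ℂ, ⇑lam = l.1 :=
  Char.IsCharacter.exists_monoidHom (Char.irr_isCharacter l) (linear hA l)

theorem eq_of_actE_eq {μ : IrrCharacter A} (hμ : μ ≠ Char.trivialChar A) {φ φ' : MulAut A}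
    (h : actE μ φ = actE μ φ') : φ = φ' := by
  obtain ⟨lam, hlam⟩ := exists_hom hA μ
  by_contra hne
  refine hμ (Subtype.ext (funext fun x => ?_))
  haveI : Fact (Nat.card A).Prime := ⟨hA ▸ hp.out⟩
  obtain ⟨y, hy⟩ : ∃ y : A, φ' y ≠ φ y := by
    by_contra! hall; exact hne (MulEquiv.ext fun y => (hall y).symm)
  have hz : φ y * (φ' y)⁻¹ ≠ 1 := fun he => hy (mul_inv_eq_one.1 he).symm
  obtain ⟨k, rfl⟩ := Subgroup.mem_zpowers_iff.1 (mem_zpowers_of_prime_card (p := p) hA hz (g' := x))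
  have h1 := congrFun (congrArg Subtype.val h) y
  rw [actE_apply, actE_apply, ← hlam] at h1
  have h2 : lam (φ y * (φ' y)⁻¹) = 1 := by
    rw [map_mul, h1, ← map_mul, mul_inv_cancel, map_one]
  show μ.1 _ = 1
  rw [← hlam]
  let u : A →* ℂˣ := lam.toHomUnits
  have h3 : u (φ y * (φ' y)⁻¹) = 1 := Units.ext h2
  show ((u ((φ y * (φ' y)⁻¹) ^ k) : ℂˣ) : ℂ) = 1
  rw [map_zpow, h3, one_zpow, Units.val_one]

/-- The orbits of nontrivial characters have `|E|` members. -/
theorem card_orbit {μ : IrrCharacter A} (hμ : μ ≠ Char.trivialChar A) :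
    (Finset.univ.filter fun l => Rel E l μ).card = Nat.card E := by
  haveI := Fintype.ofFinite E
  rw [Nat.card_eq_fintype_card, ← Finset.card_univ]
  symm
  refine Finset.card_bij (fun φ _ => actE μ φ.1)
    (fun φ _ => Finset.mem_filter.2 ⟨Finset.mem_univ _, φ.1, φ.2, rfl⟩)
    (fun a _ b _ hab => Subtype.ext (eq_of_actE_eq hA hμ hab)) fun l hl => ?_
  obtain ⟨φ, hφ, rfl⟩ := (Finset.mem_filter.1 hl).2
  exact ⟨⟨φ, hφ⟩, Finset.mem_univ _, rfl⟩

theorem exists_pow_eq {l μ : IrrCharacter A} (hl : l ≠ Char.trivialChar A)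
    (hμ : μ ≠ Char.trivialChar A) : ∃ j : ℕ, ¬ p ∣ j ∧ ∀ y, μ.1 y = l.1 (y ^ j) := by
  obtain ⟨lam, hlam⟩ := exists_hom hA l
  obtain ⟨mu, hmu⟩ := exists_hom hA μ
  haveI : IsCyclic A := isCyclic_of_prime_card hA
  obtain ⟨g, hg⟩ := IsCyclic.exists_generator (α := A)
  have hgen : ∀ y : A, ∃ k : ℕ, g ^ k = y := fun y => mem_powers_iff_mem_zpowers.2 (hg y)
  have hgp : g ^ p = 1 := by rw [← hA, pow_card_eq_one']
  have hne : ∀ (ν : A →* ℂ) (ν' : IrrCharacter A), ⇑ν = ν'.1 → ν' ≠ Char.trivialChar A →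
      ν g ≠ 1 := by
    intro ν ν' hν hν' h1
    refine hν' (Subtype.ext (funext fun y => ?_))
    obtain ⟨k, rfl⟩ := hgen y
    rw [← hν, map_pow, h1, one_pow, Char.trivialChar_apply]
  have hω : IsPrimitiveRoot (lam g) p := by
    rw [← orderOf_eq_prime (p := p) (by rw [← map_pow, hgp, map_one]) (hne lam l hlam hl)]
    exact IsPrimitiveRoot.orderOf _
  haveI : NeZero p := ⟨hp.out.ne_zero⟩
  obtain ⟨j, -, hj⟩ := hω.eq_pow_of_pow_eq_one (ξ := mu g) (by rw [← map_pow, hgp, map_one])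
  refine ⟨j, fun hd => hne mu μ hmu hμ ?_, fun y => ?_⟩
  · obtain ⟨c, rfl⟩ := hd
    rw [← hj, pow_mul, hω.pow_eq_one, one_pow]
  · obtain ⟨k, rfl⟩ := hgen y
    rw [← hmu, ← hlam, map_pow, map_pow, map_pow, ← hj, ← pow_mul, ← pow_mul, mul_comm]

theorem sum_inner (l ν : IrrCharacter A) (hl : l ≠ Char.trivialChar A)
    (hν : ν ≠ Char.trivialChar A) :
    ∑ y : A, (1 - l.1 y) * (1 - conj (ν.1 y)) = (p : ℂ) * (1 + if l = ν then 1 else 0) := by
  have h1 := Char.sum_apply_eq_zero hl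
  have h2 : ∑ y : A, conj (ν.1 y) = 0 := by
    rw [← map_sum, Char.sum_apply_eq_zero hν, map_zero]
  have h3 : ∑ y : A, l.1 y * conj (ν.1 y) = (p : ℂ) * if l = ν then 1 else 0 := by
    have : classInner l.1 ν.1 = if l = ν then 1 else 0 := by
      split_ifs with he
      · subst he; exact Char.classInner_irr_self l.2
      · exact Char.classInner_irr_of_ne l.2 ν.2 fun hh => he (Subtype.ext hh)
    rw [← this, classInner, hA]
    field_simp [hp.out.ne_zero]
  simp only [sub_mul, mul_sub, one_mul, mul_one, Finset.sum_sub_distrib, h1, h2, h3]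
  simp [← Nat.card_eq_fintype_card, hA]
  split_ifs <;> ring

theorem sum_nontrivial {y : A} (hy : y ≠ 1) :
    ∑ l ∈ Finset.univ.erase (Char.trivialChar A), l.1 y = -1 := by
  have h2 : ∑ l : IrrCharacter A, l.1 y = 0 := by
    have := Char.sum_irr_mul_conj y (1 : A)
    rw [if_neg (by simpa [isConj_one_left, isConj_one_right] using hy)] at this
    simpa [linear hA] using this
  rw [← Finset.add_sum_erase Finset.univ _ (Finset.mem_univ (Char.trivialChar A)),
    Char.trivialChar_apply] at h2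
  linear_combination h2

omit hA

/-- The integral coordinate `⟨D χ, 1⟩ - ⟨D χ, l⟩`. -/
noncomputable def cz (D : ι → A → ℂ) (χ : ι) (l : IrrCharacter A) : ℤ :=
  if h : ∃ z : ℤ, classInner (D χ) (Char.trivialChar A).1 - classInner (D χ) l.1 = z then h.choose
  else 0

variable (h : Data p s D E deg)
include h

theorem cz_cast {χ : ι} (hχ : χ ∈ s) (l : IrrCharacter A) :
    (cz D χ l : ℂ) = classInner (D χ) (Char.trivialChar A).1 - classInner (D χ) l.1 := by
  have hex : ∃ z : ℤ, classInner (D χ) (Char.trivialChar A).1 - classInner (D χ) l.1 = z := by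
    obtain ⟨a, ha⟩ := h.int χ hχ (Char.trivialChar A)
    obtain ⟨b, hb⟩ := h.int χ hχ l
    exact ⟨a - b, by rw [ha, hb, Int.cast_sub]⟩
  rw [cz, dif_pos hex]
  exact hex.choose_spec.symm

theorem cz_eq {χ : ι} (hχ : χ ∈ s) (l : IrrCharacter A) :
    (cz D χ l : ℂ) = (p : ℂ)⁻¹ * ∑ y : A, D χ y * (1 - conj (l.1 y)) := by
  simp only [cz_cast h hχ, classInner, h.card, mul_sub, Finset.sum_sub_distrib,
    Char.trivialChar_apply, map_one, mul_one]

theorem cz_conj {χ : ι} (hχ : χ ∈ s) (l : IrrCharacter A) :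
    (cz D χ l : ℂ) = (p : ℂ)⁻¹ * ∑ y : A, conj (D χ y) * (1 - l.1 y) := by
  have := congrArg conj (cz_eq h hχ l)
  rw [map_intCast, map_mul, map_inv₀, map_natCast, map_sum] at this
  rw [this]
  simp

/-- The Gram matrix of the coordinates. -/
theorem gram {l μ : IrrCharacter A} (hl : l ≠ Char.trivialChar A) (hμ : μ ≠ Char.trivialChar A) :
    ∑ χ ∈ s, cz D χ l * cz D χ μ = (Nat.card E : ℤ) + if Rel E l μ then 1 else 0 := by
  haveI := Fintype.ofFinite E
  have hp0 : (p : ℂ) ≠ 0 := Nat.cast_ne_zero.2 hp.out.ne_zero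
  rw [← Int.cast_inj (α := ℂ)]
  push_cast
  calc ∑ χ ∈ s, (cz D χ l : ℂ) * (cz D χ μ : ℂ)
      = (p : ℂ)⁻¹ * (p : ℂ)⁻¹ * ∑ y : A, ∑ y' : A,
          (1 - l.1 y) * (1 - conj (μ.1 y')) * ∑ χ ∈ s, D χ y' * conj (D χ y) := by
        rw [Finset.sum_congr rfl fun χ hχ => show (cz D χ l : ℂ) * (cz D χ μ : ℂ) =
          (p : ℂ)⁻¹ * (p : ℂ)⁻¹ * ∑ y : A, ∑ y' : A, (1 - l.1 y) * (1 - conj (μ.1 y')) *
            (D χ y' * conj (D χ y)) by
          rw [cz_conj h hχ, cz_eq h hχ, mul_mul_mul_comm, Finset.sum_mul_sum]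
          congr 1
          exact Finset.sum_congr rfl fun y _ => Finset.sum_congr rfl fun y' _ => by ring,
          ← Finset.mul_sum, Finset.sum_comm]
        congr 1
        refine Finset.sum_congr rfl fun y _ => ?_
        rw [Finset.sum_comm]
        simp only [← Finset.mul_sum]
    _ = (p : ℂ)⁻¹ * ∑ y : A, ∑ φ : E, (1 - l.1 y) * (1 - conj (μ.1 (φ.1 y))) := by
        rw [mul_assoc, Finset.mul_sum]
        congr 1
        refine Finset.sum_congr rfl fun y _ => ?_
        by_cases hy : y = 1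
        · subst hy; simp [linear h.card]
        rw [Finset.sum_congr rfl fun y' _ => show (1 - l.1 y) * (1 - conj (μ.1 y')) *
              ∑ χ ∈ s, D χ y' * conj (D χ y) = (1 - l.1 y) * (1 - conj (μ.1 y')) *
              if ∃ φ ∈ E, φ y' = y then (p : ℂ) else 0 by
            by_cases hy' : y' = 1
            · subst hy'; simp [linear h.card]
            · rw [h.orth y' y hy' hy],
          Finset.mul_sum, Finset.sum_congr rfl fun y' _ => show (p : ℂ)⁻¹ * ((1 - l.1 y) *
              (1 - conj (μ.1 y')) * if ∃ φ ∈ E, φ y' = y then (p : ℂ) else 0) =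
              if ∃ φ ∈ E, φ y' = y then (1 - l.1 y) * (1 - conj (μ.1 y')) else 0 by
            split_ifs
            · field_simp
            · rw [mul_zero, mul_zero],
          ← Finset.sum_filter]
        symm
        refine Finset.sum_bij (fun φ _ => φ.1 y) (fun φ _ => ?_)
          (fun a _ b _ hab => Subtype.ext (eq_of_apply_eq h.card hy hab)) (fun y' hy' => ?_)
          fun φ _ => rfl
        · exact Finset.mem_filter.2 ⟨Finset.mem_univ _, φ.1⁻¹, inv_mem φ.2,
            MulAut.inv_apply_self _ _ _⟩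
        · obtain ⟨φ, hφ, rfl⟩ := (Finset.mem_filter.1 hy').2
          exact ⟨⟨φ⁻¹, inv_mem hφ⟩, Finset.mem_univ _, MulAut.inv_apply_self _ _ _⟩
    _ = ∑ φ : E, ((1 : ℂ) + if actE μ φ.1 = l then 1 else 0) := by
        rw [Finset.sum_comm, Finset.mul_sum]
        refine Finset.sum_congr rfl fun φ _ => ?_
        have := sum_inner h.card l (actE μ φ.1) hl (fun he => hμ (actE_eq_trivial_iff.1 he))
        simp only [actE_apply] at this
        rw [this, ← mul_assoc, inv_mul_cancel₀ hp0, one_mul]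
        simp only [eq_comm (a := l)]
    _ = (Nat.card E : ℂ) + if Rel E l μ then 1 else 0 := by
        rw [Finset.sum_add_distrib, Finset.sum_const, nsmul_eq_mul, mul_one, Finset.card_univ,
          ← Nat.card_eq_fintype_card]
        congr 1
        split_ifs with hr
        · obtain ⟨φ, hφ, rfl⟩ := hr
          rw [Finset.sum_eq_single (⟨φ, hφ⟩ : E)
            (fun b _ hb => if_neg fun he => hb (Subtype.ext (eq_of_actE_eq h.card hμ he)))
            (by simp), if_pos rfl]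
        · exact Finset.sum_eq_zero fun φ _ => if_neg fun he => hr ⟨φ.1, φ.2, he⟩

theorem cz_rel {χ : ι} (hχ : χ ∈ s) (hinv : ∀ φ ∈ E, ∀ y, D χ (φ y) = D χ y)
    {l μ : IrrCharacter A} (hr : Rel E l μ) : cz D χ l = cz D χ μ := by
  obtain ⟨φ, hφ, rfl⟩ := hr
  rw [← Int.cast_inj (α := ℂ), cz_eq h hχ, cz_eq h hχ]
  congr 1
  refine Fintype.sum_equiv φ.toEquiv _ _ fun y => ?_
  simp only [MulEquiv.toEquiv_eq_coe, EquivLike.coe_coe, hinv φ hφ, actE_apply]

theorem cz_trivial {χ : ι} (hχ : χ ∈ s) : cz D χ (Char.trivialChar A) = 0 := by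
  rw [← Int.cast_inj (α := ℂ), cz_cast h hχ, sub_self, Int.cast_zero]

/-- Values on `A - 1` from the coordinates. -/
theorem apply_eq {χ : ι} (hχ : χ ∈ s) {y : A} (hy : y ≠ 1) :
    D χ y = -∑ l ∈ Finset.univ.erase (Char.trivialChar A), (cz D χ l : ℂ) * l.1 y := by
  have hcl : IsClassFunction A (D χ) := fun a b => by
    rw [comm_of_card h.card b a, mul_inv_cancel_right]
  have h1 := congrFun (Char.eq_sum_classInner_smul hcl) y
  simp only [Finset.sum_apply, Pi.smul_apply, smul_eq_mul] at h1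
  simp only [cz_cast h hχ, sub_mul, Finset.sum_sub_distrib, ← Finset.mul_sum,
    sum_nontrivial h.card hy]
  rw [h1, ← Finset.add_sum_erase Finset.univ _ (Finset.mem_univ (Char.trivialChar A)),
    Char.trivialChar_apply]
  ring

theorem exists_cz_ne_zero {χ : ι} (hχ : χ ∈ s) :
    ∃ l, l ≠ Char.trivialChar A ∧ cz D χ l ≠ 0 := by
  by_contra! hall
  obtain ⟨y, hy, hne⟩ := h.nonzero χ hχ
  refine hne ?_
  rw [apply_eq h hχ hy, Finset.sum_eq_zero fun l hl => by
    rw [hall l (Finset.ne_of_mem_erase hl), Int.cast_zero, zero_mul], neg_zero]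

/-- Vectors orthogonal to the columns are orthogonal to the coordinates. -/
theorem sum_cz_mul (l : IrrCharacter A) {F : ι → ℂ}
    (hF : ∀ y : A, y ≠ 1 → ∑ χ ∈ s, F χ * conj (D χ y) = 0) :
    ∑ χ ∈ s, (cz D χ l : ℂ) * F χ = 0 := by
  rw [Finset.sum_congr rfl fun χ hχ => show (cz D χ l : ℂ) * F χ =
      (p : ℂ)⁻¹ * ∑ y : A, (1 - l.1 y) * (F χ * conj (D χ y)) by
    rw [cz_conj h hχ, mul_assoc, Finset.sum_mul]
    exact congrArg _ (Finset.sum_congr rfl fun y _ => by ring),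
    ← Finset.mul_sum, Finset.sum_comm, Finset.sum_eq_zero, mul_zero]
  intro y _
  by_cases hy : y = 1
  · subst hy; simp [linear h.card]
  · rw [← Finset.mul_sum, hF y hy, mul_zero]

/-- The sum over `A` is a multiple of `p`. -/
theorem exists_sum_eq {χ : ι} (hχ : χ ∈ s) : ∃ z : ℤ, ∑ y, D χ y = (p : ℂ) * z := by
  obtain ⟨z, hz⟩ := h.int χ hχ (Char.trivialChar A)
  refine ⟨z, ?_⟩
  rw [← hz, classInner, h.card]
  simp [hp.out.ne_zero]

variable (hinv : ∀ χ ∈ s, ∀ φ ∈ E, ∀ y, D χ (φ y) = D χ y)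
include hinv

/-- One orbit: all members are constant. -/
theorem shape_of_eq (hr : ¬ Nat.card E + 1 < p) :
    Nat.card E + 1 = p ∧ ∃ a : ι → ℤ, (∀ χ ∈ s, a χ ≠ 0 ∧ ∀ y : A, y ≠ 1 → D χ y = a χ) ∧
      ∑ χ ∈ s, a χ ^ 2 = (Nat.card E : ℤ) + 1 ∧
      ∀ F : ι → ℂ, (∀ y : A, y ≠ 1 → ∑ χ ∈ s, F χ * conj (D χ y) = 0) →
        ∑ χ ∈ s, (a χ : ℂ) * F χ = 0 := by
  have hp1 := hp.out.one_lt
  set L := Finset.univ.erase (Char.trivialChar A) with hL
  have hcardL : L.card = p - 1 := by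
    rw [hL, Finset.card_erase_of_mem (Finset.mem_univ _), Finset.card_univ, card_irr h.card]
  obtain ⟨l₀, hl₀⟩ : L.Nonempty := Finset.card_pos.1 (by omega)
  have hl₀' : l₀ ≠ Char.trivialChar A := Finset.ne_of_mem_erase hl₀
  set O := Finset.univ.filter fun l => Rel E l l₀ with hO
  have hOL : O ⊆ L := fun l hl => by
    refine Finset.mem_erase.2 ⟨fun he => hl₀' ?_, Finset.mem_univ _⟩
    obtain ⟨φ, -, hφ⟩ := (Finset.mem_filter.1 hl).2
    exact actE_eq_trivial_iff.1 (hφ.trans he)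
  have hcardO : O.card = Nat.card E := card_orbit h.card hl₀'
  have hle := Finset.card_le_card hOL
  have hOeq : O = L := Finset.eq_of_subset_of_card_le hOL (by omega)
  have hall : ∀ χ ∈ s, ∀ l ∈ L, cz D χ l = cz D χ l₀ := fun χ hχ l hl =>
    cz_rel h hχ (hinv χ hχ) (Finset.mem_filter.1 (hOeq ▸ hl : l ∈ O)).2
  refine ⟨by omega, fun χ => cz D χ l₀, fun χ hχ => ⟨fun h0 => ?_, fun y hy => ?_⟩, ?_,
    fun F hF => sum_cz_mul h l₀ hF⟩
  · obtain ⟨l, hl, hne⟩ := exists_cz_ne_zero h hχ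
    exact hne ((hall χ hχ l (Finset.mem_erase.2 ⟨hl, Finset.mem_univ _⟩)).trans h0)
  · rw [apply_eq h hχ hy, Finset.sum_congr rfl fun l hl => by rw [hall χ hχ l hl],
      ← Finset.mul_sum, sum_nontrivial h.card hy]
    ring
  · have := gram h hl₀' hl₀'
    rw [if_pos (rel_equivalence.refl _)] at this
    simp only [pow_two]
    exact this

/-- The non-exceptional part `X` and the exceptional part `s \ X`. -/
structure Shape (p : ℕ) (s : Finset ι) (D : ι → A → ℂ) (E : Subgroup (MulAut A)) where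
  X : Finset ι
  a : ι → ℤ
  d : ℤ
  δ : ℤ
  hδ : δ = 1 ∨ δ = -1
  X_sub : X ⊆ s
  X_val : ∀ χ ∈ X, a χ ≠ 0 ∧ ∀ y : A, y ≠ 1 → D χ y = a χ
  card_mul : (s \ X).card * Nat.card E + 1 = p
  norm_eq : ∑ χ ∈ X, a χ ^ 2 + d * ((s \ X).card * d - 2 * δ) = (Nat.card E : ℤ)
  total : ∀ θ ∈ s \ X, ∑ y ∈ Finset.univ.erase (1 : A), D θ y =
    ((Nat.card E : ℤ) * ((s \ X).card * d - δ) : ℤ)
  not_const : ∀ θ ∈ s \ X, ∀ c : ℂ, ∃ y : A, y ≠ 1 ∧ D θ y ≠ c
  inj : ∀ θ ∈ s \ X, ∀ θ' ∈ s \ X, (∀ y : A, y ≠ 1 → D θ y = D θ' y) → θ = θ'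
  trans : ∀ θ ∈ s \ X, ∀ θ' ∈ s \ X, ∃ j : ℕ, ¬ p ∣ j ∧ ∀ y : A, y ≠ 1 → D θ' y = D θ (y ^ j)
  relation : ∀ θ ∈ s \ X, ∀ F : ι → ℂ,
    (∀ y : A, y ≠ 1 → ∑ χ ∈ s, F χ * conj (D χ y) = 0) →
      ((s \ X).card * (d : ℂ) - δ) * F θ + ∑ χ ∈ X, (a χ : ℂ) * F χ = 0 ∧
      ∀ θ' ∈ s \ X, F θ' = F θ

theorem shape (hr : Nat.card E + 1 < p) : Nonempty (Shape p s D E) := by
  let L := {l : IrrCharacter A // l ≠ Char.trivialChar A}
  let S : Setoid L := ⟨fun l μ => Rel E l.1 μ.1,
    ⟨fun l => rel_equivalence.refl _, fun h => rel_equivalence.symm h,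
      fun h h' => rel_equivalence.trans h h'⟩⟩
  let Ω := Quotient S
  haveI : Fintype Ω := Fintype.ofFinite _
  set e := Nat.card E with he
  have hcardL : Fintype.card L + 1 = p := by
    rw [Fintype.card_subtype_compl, Fintype.card_subtype_eq, card_irr h.card]
    have := hp.out.one_lt
    omega
  have hfib : ∀ C : Ω, (Finset.univ.filter fun l : L => (Quotient.mk S l : Ω) = C).card = e := by
    intro C
    obtain ⟨l₀, rfl⟩ := Quotient.exists_rep C
    rw [he, ← card_orbit (E := E) h.card l₀.2]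
    refine Finset.card_bij (fun l _ => l.1) (fun l hl => ?_) (fun a _ b _ hab => Subtype.ext hab)
      fun l hl => ?_
    · exact Finset.mem_filter.2 ⟨Finset.mem_univ _, Quotient.exact (Finset.mem_filter.1 hl).2⟩
    · have hl' := (Finset.mem_filter.1 hl).2
      refine ⟨⟨l, fun hl1 => l₀.2 ?_⟩, Finset.mem_filter.2 ⟨Finset.mem_univ _, Quotient.sound hl'⟩, rfl⟩
      obtain ⟨φ, -, hφ⟩ := hl'
      exact actE_eq_trivial_iff.1 (hφ.trans hl1)
  have hcardΩ : Fintype.card Ω * e + 1 = p := by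
    rw [← hcardL, ← Finset.card_univ, ← Finset.card_univ,
      Finset.card_eq_sum_card_fiberwise (s := (Finset.univ : Finset L))
        (t := (Finset.univ : Finset Ω)) (f := fun l => (Quotient.mk S l : Ω)) (fun x _ => Finset.mem_univ _),
      Finset.sum_congr rfl fun C _ => hfib C, Finset.sum_const, smul_eq_mul]
  haveI : Nontrivial Ω := Fintype.one_lt_card_iff_nontrivial.1 (by
    by_contra hle
    push Not at hle
    have : Fintype.card Ω * e ≤ e := (Nat.mul_le_mul_right e hle).trans (one_mul e).le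
    omega)
  let c : Ω → s → ℤ := fun C χ => Quotient.liftOn C (fun l => cz D χ.1 l.1)
    fun l μ hlμ => cz_rel h χ.2 (hinv χ.1 χ.2) hlμ
  have hc : ∀ (l : L) (χ : s), c (Quotient.mk S l) χ = cz D χ.1 l.1 := fun _ _ => rfl
  have hgram : ∀ i j, ∑ χ : s, c i χ * c j χ = (e : ℤ) + if i = j then 1 else 0 := by
    intro i j
    obtain ⟨l, rfl⟩ := Quotient.exists_rep i
    obtain ⟨μ, rfl⟩ := Quotient.exists_rep j
    simp only [hc]
    rw [Finset.sum_coe_sort s fun χ => cz D χ l.1 * cz D χ μ.1, gram h l.2 μ.2]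
    congr 1
    by_cases hh : Rel E l.1 μ.1
    · rw [if_pos hh, if_pos (Quotient.sound hh)]
    · rw [if_neg hh, if_neg fun hq => hh (Quotient.exact hq)]
  have horth : ∀ i, ∑ χ : s, (deg χ.1 : ℤ) * c i χ = 0 := by
    intro i
    obtain ⟨l, rfl⟩ := Quotient.exists_rep i
    rw [← Int.cast_inj (α := ℂ)]
    push_cast
    simp only [hc]
    rw [Finset.sum_coe_sort s fun χ => (deg χ : ℂ) * (cz D χ l.1 : ℂ),
      ← sum_cz_mul h l.1 h.deg_orth]
    exact Finset.sum_congr rfl fun χ _ => mul_comm _ _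
  obtain ⟨w, δ₀, f, d, hδ₀, hinj, hcf, hwf, hnorm⟩ := exists_exceptional (e : ℤ) c hgram
    (D := fun χ => (deg χ.1 : ℤ)) (fun χ => by exact_mod_cast h.deg_pos χ.1 χ.2) horth
  let W : ι → ℤ := fun χ => if hχ : χ ∈ s then w ⟨χ, hχ⟩ else 0
  have hW : ∀ χ : s, W χ.1 = w χ := fun χ => dif_pos χ.2
  let Y : Finset ι := Finset.univ.image fun C => (f C).1
  have hYsub : Y ⊆ s := fun χ hχ => by
    obtain ⟨C, -, rfl⟩ := Finset.mem_image.1 hχ; exact (f C).2
  have hYcard : Y.card = Fintype.card Ω :=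
    Finset.card_image_of_injective _ fun a b hab => hinj (Subtype.ext hab)
  have hsY : s \ (s \ Y) = Y := Finset.sdiff_sdiff_eq_self hYsub
  -- the orbit sums
  let T : Ω → A → ℂ := fun C y =>
    ∑ l ∈ Finset.univ.filter (fun l : L => (Quotient.mk S l : Ω) = C), l.1.1 y
  have hval : ∀ (χ : s) (y : A), y ≠ 1 → D χ.1 y =
      (w χ : ℂ) - (δ₀ : ℂ) * ∑ C : Ω, if χ = f C then T C y else 0 := by
    intro χ y hy
    have h1 := sum_nontrivial h.card hy
    rw [Finset.sum_subtype _ (p := fun l => l ≠ Char.trivialChar A) (by simp)] at h1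
    rw [apply_eq h χ.2 hy,
      Finset.sum_subtype _ (p := fun l => l ≠ Char.trivialChar A) (by simp),
      Finset.sum_congr rfl fun l _ => show (cz D χ.1 l.1 : ℂ) * l.1.1 y = (w χ : ℂ) * l.1.1 y +
        (δ₀ : ℂ) * (if χ = f (Quotient.mk S l) then l.1.1 y else 0) by
        rw [← hc l χ, hcf]; split_ifs <;> push_cast <;> ring,
      Finset.sum_add_distrib, ← Finset.mul_sum, ← Finset.mul_sum, h1]
    have h2 : ∑ l : L, (if χ = f (Quotient.mk S l) then l.1.1 y else 0) =
        ∑ C : Ω, if χ = f C then T C y else 0 := by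
      rw [← Finset.sum_fiberwise Finset.univ (fun l : L => (Quotient.mk S l : Ω))]
      refine Finset.sum_congr rfl fun C _ => ?_
      rw [Finset.sum_congr rfl fun l hl => by rw [(Finset.mem_filter.1 hl).2]]
      split_ifs
      · rfl
      · exact Finset.sum_const_zero
    rw [h2]
    ring
  have hvalY : ∀ (C : Ω) (y : A), y ≠ 1 → D (f C).1 y = (d : ℂ) - (δ₀ : ℂ) * T C y := by
    intro C y hy
    rw [hval (f C) y hy, hwf, Finset.sum_eq_single C (fun b _ hb => if_neg fun hh => hb (hinj hh).symm)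
      (by simp), if_pos rfl]
  -- orbit sums determine the orbit
  have hTeq : ∀ (C : Ω) (μ : L), ∑ y : A, T C y * conj (μ.1.1 y) =
      if (Quotient.mk S μ : Ω) = C then (p : ℂ) else 0 := by
    intro C μ
    simp only [T, Finset.sum_mul]
    rw [Finset.sum_comm, Finset.sum_congr rfl fun l _ => show ∑ y : A, l.1.1 y * conj (μ.1.1 y) =
      if l = μ then (p : ℂ) else 0 by
        split_ifs with hh
        · subst hh
          have := Char.classInner_irr_self l.1.2
          rw [classInner, h.card] at this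
          field_simp [hp.out.ne_zero] at this
          exact this
        · have := Char.classInner_irr_of_ne l.1.2 μ.1.2 fun hv => hh (Subtype.ext (Subtype.ext hv))
          rw [classInner, h.card] at this
          simpa [hp.out.ne_zero] using this, Finset.sum_ite_eq']
    simp [Finset.mem_filter]
  have hT1 : ∀ C : Ω, T C 1 = e := by
    intro C
    simp only [T]
    rw [Finset.sum_congr rfl fun l _ => linear h.card l.1, Finset.sum_const, hfib C]
    simp
  have hTtot : ∀ C : Ω, ∑ y ∈ Finset.univ.erase (1 : A), T C y = -(e : ℂ) := by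
    intro C
    simp only [T]
    rw [Finset.sum_comm, Finset.sum_congr rfl fun l _ => show
      ∑ y ∈ Finset.univ.erase (1 : A), l.1.1 y = (-1 : ℂ) by
        have h1 := Char.sum_apply_eq_zero l.2
        rw [← Finset.add_sum_erase _ _ (Finset.mem_univ (1 : A)), linear h.card] at h1
        linear_combination h1, Finset.sum_const, hfib C, nsmul_eq_mul]
    ring
  have hδC : (δ₀ : ℂ) ≠ 0 := by rcases hδ₀ with rfl | rfl <;> norm_num
  have hmemY : ∀ χ ∈ s \ (s \ Y), ∃ C, (f C).1 = χ := fun χ hχ => by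
    rw [hsY] at hχ
    obtain ⟨C, -, hC⟩ := Finset.mem_image.1 hχ
    exact ⟨C, hC⟩
  have hrel : ∀ (F : ι → ℂ), (∀ y : A, y ≠ 1 → ∑ χ ∈ s, F χ * conj (D χ y) = 0) → ∀ C : Ω,
      ∑ χ ∈ s, (W χ : ℂ) * F χ + (δ₀ : ℂ) * F (f C).1 = 0 := by
    intro F hF C
    obtain ⟨l, rfl⟩ := Quotient.exists_rep C
    rw [← sum_cz_mul h l.1 hF, ← Finset.sum_coe_sort s fun χ => (W χ : ℂ) * F χ,
      ← Finset.sum_coe_sort s fun χ => (cz D χ l.1 : ℂ) * F χ,
      Finset.sum_congr rfl (f := fun χ : s => (cz D χ.1 l.1 : ℂ) * F χ.1) fun χ _ => by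
        rw [← hc l χ, hcf]]
    simp only [hW]
    push_cast
    simp only [add_mul, Finset.sum_add_distrib, ite_mul, zero_mul, Finset.sum_ite_eq',
      Finset.mem_univ, if_true]
  refine ⟨⟨s \ Y, W, d, -δ₀, by omega, Finset.sdiff_subset, fun χ hχ => ?_, ?_, ?_,
    fun θ hθ => ?_, fun θ hθ c => ?_, fun θ hθ θ' hθ' hD => ?_, fun θ hθ θ' hθ' => ?_,
    fun θ hθ F hF => ?_⟩⟩
  · obtain ⟨hχs, hχY⟩ := Finset.mem_sdiff.1 hχ
    have hne : ∀ C, (⟨χ, hχs⟩ : s) ≠ f C := fun C hh =>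
      hχY (Finset.mem_image.2 ⟨C, Finset.mem_univ _, (congrArg Subtype.val hh).symm⟩)
    have hv : ∀ y : A, y ≠ 1 → D χ y = W χ := fun y hy => by
      rw [hW ⟨χ, hχs⟩]
      have := hval ⟨χ, hχs⟩ y hy
      rw [Finset.sum_eq_zero fun C _ => if_neg (hne C), mul_zero, sub_zero] at this
      exact this
    refine ⟨fun h0 => ?_, hv⟩
    obtain ⟨y, hy, hne'⟩ := h.nonzero χ hχs
    exact hne' (by rw [hv y hy, h0, Int.cast_zero])
  · rw [hsY, hYcard]; exact hcardΩ
  · rw [hsY, hYcard]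
    have h1 : ∑ χ : s, w χ ^ 2 = ∑ χ ∈ s \ Y, W χ ^ 2 + (Fintype.card Ω : ℤ) * d ^ 2 := by
      rw [show ∑ χ : s, w χ ^ 2 = ∑ χ : s, W χ.1 ^ 2 from Finset.sum_congr rfl fun χ _ => by rw [hW],
        Finset.sum_coe_sort s fun χ => W χ ^ 2, ← Finset.sum_sdiff hYsub,
        Finset.sum_congr (s₁ := Y) rfl (g := fun _ => d ^ 2) fun χ hχ => by
          obtain ⟨C, -, rfl⟩ := Finset.mem_image.1 hχ
          rw [hW (f C), hwf],
        Finset.sum_const, hYcard, nsmul_eq_mul]
    linear_combination hnorm - h1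
  · obtain ⟨C, rfl⟩ := hmemY θ hθ
    rw [hsY, hYcard, Finset.sum_congr rfl fun y hy => hvalY C y (Finset.ne_of_mem_erase hy),
      Finset.sum_sub_distrib, Finset.sum_const, ← Finset.mul_sum, hTtot,
      Finset.card_erase_of_mem (Finset.mem_univ _), Finset.card_univ, ← Nat.card_eq_fintype_card,
      h.card, nsmul_eq_mul, show p - 1 = Fintype.card Ω * e by omega]
    push_cast
    ring
  · obtain ⟨C, rfl⟩ := hmemY θ hθ
    by_contra! hconst
    obtain ⟨μ, hμ⟩ : ∃ μ : L, (Quotient.mk S μ : Ω) ≠ C := by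
      obtain ⟨C', hC'⟩ := exists_ne C
      obtain ⟨μ, rfl⟩ := Quotient.exists_rep C'
      exact ⟨μ, hC'⟩
    set c' : ℂ := ((d : ℂ) - c) / δ₀ with hc'
    have hT : ∀ y : A, y ≠ 1 → T C y = c' := fun y hy => by
      rw [hc', eq_div_iff hδC]
      linear_combination hvalY C y hy - hconst y hy
    have h2 := hTeq C μ
    rw [if_neg hμ, ← Finset.add_sum_erase _ _ (Finset.mem_univ (1 : A)), hT1, linear h.card,
      map_one, Finset.sum_congr rfl fun y hy => by rw [hT y (Finset.ne_of_mem_erase hy)],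
      ← Finset.mul_sum] at h2
    have h3 : ∑ y ∈ Finset.univ.erase (1 : A), conj (μ.1.1 y) = -1 := by
      have h4 := Char.sum_apply_eq_zero μ.2
      rw [← Finset.add_sum_erase _ _ (Finset.mem_univ (1 : A)), linear h.card] at h4
      have h5 := congrArg conj h4
      rw [map_add, map_one, map_zero, map_sum] at h5
      linear_combination h5
    have h6 := hTtot C
    rw [Finset.sum_congr rfl fun y hy => hT y (Finset.ne_of_mem_erase hy), Finset.sum_const,
      Finset.card_erase_of_mem (Finset.mem_univ _), Finset.card_univ, ← Nat.card_eq_fintype_card,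
      h.card, nsmul_eq_mul, Nat.cast_sub hp.out.pos] at h6
    push_cast at h6
    rw [h3] at h2
    have h7 : (p : ℂ) * c' = 0 := by linear_combination h6 - h2
    have hc0 : c' = 0 := (mul_eq_zero.1 h7).resolve_left (Nat.cast_ne_zero.2 hp.out.ne_zero)
    rw [hc0] at h2
    have : e = 0 := by
      rw [← Nat.cast_eq_zero (R := ℂ)]
      linear_combination h2
    exact (Nat.card_pos : 0 < e).ne' this
  · obtain ⟨C, rfl⟩ := hmemY θ hθ
    obtain ⟨C', rfl⟩ := hmemY θ' hθ'
    obtain ⟨μ, rfl⟩ := Quotient.exists_rep C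
    by_contra hne
    have hT : ∀ y : A, T (Quotient.mk S μ) y = T C' y := fun y => by
      by_cases hy : y = 1
      · subst hy; rw [hT1, hT1]
      · have := hD y hy
        rw [hvalY _ y hy, hvalY _ y hy] at this
        exact mul_left_cancel₀ hδC (by linear_combination -this)
    have h2 := hTeq (Quotient.mk S μ) μ
    simp only [hT] at h2
    rw [hTeq C' μ, if_neg fun hh => hne (by rw [hh])] at h2
    simp only [if_true] at h2
    exact hp.out.ne_zero (Nat.cast_eq_zero.1 h2.symm)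
  · obtain ⟨C, rfl⟩ := hmemY θ hθ
    obtain ⟨C', rfl⟩ := hmemY θ' hθ'
    obtain ⟨l, rfl⟩ := Quotient.exists_rep C
    obtain ⟨μ, rfl⟩ := Quotient.exists_rep C'
    obtain ⟨j, hj, hjl⟩ := exists_pow_eq h.card l.2 μ.2
    refine ⟨j, hj, fun y hy => ?_⟩
    have hyj : y ^ j ≠ 1 := fun h0 => by
      rcases (Nat.dvd_prime hp.out).1 (h.card ▸ orderOf_dvd_natCard y : orderOf y ∣ p) with h1 | h1
      · exact hy (orderOf_eq_one_iff.1 h1)
      · exact hj (h1 ▸ orderOf_dvd_of_pow_eq_one h0)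
    rw [hvalY _ y hy, hvalY _ _ hyj]
    congr 2
    haveI := Fintype.ofFinite E
    have hTE : ∀ (a : L) (z : A), T (Quotient.mk S a) z = ∑ φ : E, a.1.1 (φ.1 z) := by
      intro a z
      simp only [T]
      symm
      refine Finset.sum_bij (fun φ _ => (⟨actE a.1 φ.1, fun he1 => a.2 (actE_eq_trivial_iff.1 he1)⟩ : L))
        (fun φ _ => Finset.mem_filter.2 ⟨Finset.mem_univ _, Quotient.sound ⟨φ.1, φ.2, rfl⟩⟩)
        (fun x _ x' _ hx => Subtype.ext (eq_of_actE_eq h.card a.2 (congrArg Subtype.val hx)))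
        (fun b hb => ?_) fun φ _ => rfl
      obtain ⟨φ, hφ, hφb⟩ := (Quotient.exact (Finset.mem_filter.1 hb).2 : Rel E b.1 a.1)
      exact ⟨⟨φ, hφ⟩, Finset.mem_univ _, Subtype.ext hφb⟩
    rw [hTE, hTE]
    exact Finset.sum_congr rfl fun φ _ => by rw [hjl, map_pow]
  · obtain ⟨C, rfl⟩ := hmemY θ hθ
    have h1 := hrel F hF C
    have hag : ∀ C', F (f C').1 = F (f C).1 := fun C' => by
      have h2 := hrel F hF C'
      exact mul_left_cancel₀ hδC (by linear_combination h2 - h1)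
    refine ⟨?_, fun θ' hθ' => ?_⟩
    · rw [← Finset.sum_sdiff hYsub, Finset.sum_image fun a _ b _ hab => hinj (Subtype.ext hab),
        Finset.sum_congr rfl (s₁ := (Finset.univ : Finset Ω))
          (g := fun _ => (d : ℂ) * F (f C).1) fun C' _ => by rw [hW (f C'), hwf, hag],
        Finset.sum_const, Finset.card_univ, nsmul_eq_mul] at h1
      rw [hsY, hYcard]
      push_cast
      linear_combination h1
    · obtain ⟨C', rfl⟩ := hmemY θ' hθ'
      exact hag C'

end Cfsg.Agent.DefectOne.Coord
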