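import Cfsg.Agent.Lib.DefectOne.FullDefect
import Cfsg.Agent.Lib.Char.Ito
import Cfsg.Agent.Lib.CharInt.Kazarin

/-!
# Characters of degree prime to `p` when `|G|_p = p`

Their number is a sum over the characters of `V` that only sees the normalizer.
-/

set_option linter.style.haveILetI false
set_option linter.unusedSectionVars false

namespace Cfsg.Agent.DefectOne.Local

open Cfsg Cfsg.Agent
open scoped Classical

universe u

variable {G : Type u} [Group G] [Fintype G] {p : ℕ} [hp : Fact p.Prime] {P : Sylow p G}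

/-- The weight of an orbit with `k` members, `f = |N : C|`. -/
noncomputable def weight (p f k : ℕ) : ℚ := ((f / k + (p - 1) / (f / k) : ℕ) : ℚ) / k

theorem relIndex_eq_autE_mul (hP : Nat.card P = p) (θ : IrrCharacter (Vsub P)) :
    (Csub P).relIndex (Nsub P) / (orb hP θ).card = Nat.card (autE hP θ) := by
  rw [← card_orb_mul hP θ,
    Nat.mul_div_cancel_left _ (Finset.card_pos.2 ⟨θ, self_mem_orb hP θ⟩)]

theorem not_dvd_degree {M : Ideal AlgInt} [M.IsMaximal] (hP : Nat.card P = p)
    (hpM : (p : AlgInt) ∈ M) {B : Set (IrrCharacter G)} {θ : IrrCharacter (Vsub P)}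
    (hθ : θ ∈ indSet hP M B) {χ : IrrCharacter G} (hχ : χ ∈ B) : ¬ p ∣ Char.degree χ := by
  obtain ⟨S⟩ := fullShape hP hpM hθ
  have hf : ¬ p ∣ (Csub P).relIndex (Nsub P) := fun h => by
    have hp1 := hp.out.one_lt
    have := Nat.le_of_dvd (show 0 < p - 1 by omega) (h.trans (relIndex_dvd hP))
    omega
  have hd : ¬ p ∣ Char.degree θ := fun h =>
    not_dvd_card (P := P) (h.trans (Char.degree_dvd_natCard θ))
  have ho : ¬ p ∣ (orb hP θ).card := fun h => hf (by
    rw [← card_orb_mul hP θ]; exact dvd_mul_of_dvd_left h _)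
  have hsgn : ∀ {s : ℤ} {n : ℕ}, (s = 1 ∨ s = -1) → ¬ p ∣ n →
      (Char.degree χ : ℤ) ≡ s * n [ZMOD p] → ¬ p ∣ Char.degree χ := by
    intro s n hs hn h hdvd
    have h1 : (p : ℤ) ∣ s * n :=
      Int.modEq_zero_iff_dvd.1 (h.symm.trans (Int.modEq_zero_iff_dvd.2 (Int.natCast_dvd_natCast.2 hdvd)))
    rcases hs with rfl | rfl <;> simp [Int.natCast_dvd_natCast] at h1 <;> exact hn h1
  rw [S.union] at hχ
  rcases hχ with h | h
  · exact hsgn (S.signX χ h) (fun hh => (hp.out.dvd_mul.1 hh).elim ho hd) (S.degX χ h)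
  · exact hsgn S.hε (fun hh => (hp.out.dvd_mul.1 hh).elim hf hd) (S.degY χ h)

/-- The count. -/
theorem card_pprime_degree (hP : Nat.card P = p) :
    (Nat.card {χ : IrrCharacter G // ¬ p ∣ charDegree χ.1} : ℚ) =
      ∑ θ : IrrCharacter (Vsub P), weight p ((Csub P).relIndex (Nsub P)) (orb hP θ).card := by
  obtain ⟨M, hM⟩ := CharInt.exists_isPModular_of_prime hp.out
  haveI := hM.2.1
  have hpM := hM.2.2
  rw [Nat.card_eq_fintype_card, Fintype.card_subtype]
  set A := Finset.univ.filter fun χ : IrrCharacter G => ¬ p ∣ charDegree χ.1 with hA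
  have hmem : ∀ {χ}, χ ∈ A ↔ ¬ p ∣ Char.degree χ := fun {χ} => by
    simp [hA, Char.charDegree_eq_degree]
  rw [Finset.card_eq_sum_ones, Nat.cast_sum]
  calc ∑ χ ∈ A, ((1 : ℕ) : ℚ)
      = ∑ χ ∈ A, ∑ θ : IrrCharacter (Vsub P),
          if θ ∈ indSet hP M (blockOf M χ.1) then (1 : ℚ) / (orb hP θ).card else 0 := by
        refine Finset.sum_congr rfl fun χ hχ => ?_
        obtain ⟨θ, hθ⟩ := exists_mem_indSet hP hpM (hmem.1 hχ)
        rw [← Finset.sum_filter]
        have horb : Finset.univ.filter (fun θ' => θ' ∈ indSet hP M (blockOf M χ.1)) = orb hP θ := by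
          ext θ'
          simp [indSet_iff hP hpM hθ]
        rw [horb, Finset.sum_congr rfl fun θ' hθ' => show (1 : ℚ) / (orb hP θ').card =
            1 / (orb hP θ).card by
          obtain ⟨n, rfl⟩ := (mem_orb hP).1 hθ'
          congr 3
          ext η
          rw [mem_orb, mem_orb]
          constructor
          · rintro ⟨k, rfl⟩; exact ⟨n * k, (thetaN_mul hP θ n k).symm⟩
          · rintro ⟨k, rfl⟩; exact ⟨n⁻¹ * k, by rw [thetaN_mul, mul_inv_cancel_left]⟩,
          Finset.sum_const, nsmul_eq_mul, Nat.cast_one, mul_one_div, div_self]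
        exact Nat.cast_ne_zero.2 (Finset.card_pos.2 ⟨θ, self_mem_orb hP θ⟩).ne'
    _ = _ := by
        rw [Finset.sum_comm]
        refine Finset.sum_congr rfl fun θ _ => ?_
        obtain ⟨B, hθ⟩ := exists_induced hP hpM θ
        obtain ⟨S⟩ := fullShape hP hpM hθ
        rw [← Finset.sum_filter, Finset.sum_const, nsmul_eq_mul, weight,
          relIndex_eq_autE_mul hP θ, mul_one_div]
        congr 2
        rw [show A.filter (fun χ => θ ∈ indSet hP M (blockOf M χ.1)) = S.X ∪ S.Y by
          ext χ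
          rw [Finset.mem_filter, hmem, ← Finset.mem_coe, Finset.coe_union, ← S.union]
          refine ⟨fun h => ?_, fun h => ⟨not_dvd_degree hP hpM hθ h, ?_⟩⟩
          · rw [indSet_unique hP hpM hθ h.2]; exact Blocks.mem_blockOf_self χ
          · rw [← Blocks.block_eq hθ.2.1 h]; exact hθ,
          Finset.card_union_of_disjoint S.disj, S.cardX, S.cardY]

/-- The count for the group and for the normalizer agree. -/
theorem card_pprime_degree_eq (hP : Nat.card P = p) :
    Nat.card {χ : IrrCharacter G // ¬ p ∣ charDegree χ.1} = Nat.card (ConjClasses (Nsub P)) := by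
  have hle : (P : Subgroup G) ≤ Nsub P := Subgroup.le_normalizer
  haveI := Fintype.ofFinite (Nsub P)
  let P' : Sylow p (Nsub P) := P.subtype hle
  have hcoe : (P' : Subgroup (Nsub P)) = (P : Subgroup G).subgroupOf (Nsub P) := rfl
  have hP' : Nat.card P' = p :=
    (Nat.card_congr (Subgroup.subgroupOfEquivOfLe hle).toEquiv).trans hP
  haveI : (P' : Subgroup (Nsub P)).Normal := Subgroup.normal_in_normalizer
  have hN : Nsub P' = ⊤ := Subgroup.normalizer_eq_top_iff.2 inferInstance
  have hC : Csub P' = (Csub P).subgroupOf (Nsub P) := by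
    ext x
    rw [Subgroup.mem_subgroupOf, Subgroup.mem_centralizer_iff, Subgroup.mem_centralizer_iff]
    refine ⟨fun h y hy => ?_, fun h y hy => Subtype.ext (h y hy)⟩
    exact congrArg Subtype.val (h ⟨y, hle hy⟩ hy)
  have hf : (Csub P').relIndex (Nsub P') = (Csub P).relIndex (Nsub P) := by
    rw [hN, hC, Subgroup.relIndex_top_right]; rfl
  have hV : (Vsub P').map (Nsub P).subtype = Vsub P := by
    ext x
    rw [Subgroup.mem_map]
    constructor
    · rintro ⟨v, hv, rfl⟩
      refine mem_V hP ?_ ?_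
      · have := V_le hv; rw [hC] at this; exact this
      · rw [Subgroup.coe_subtype, Subgroup.orderOf_coe]; exact regular_of_mem hv
    · intro hx
      refine ⟨⟨x, Subgroup.centralizer_le_normalizer _ (V_le hx)⟩, mem_V hP' ?_ ?_, rfl⟩
      · rw [hC]; exact V_le hx
      · rw [← Subgroup.orderOf_coe]; exact regular_of_mem hx
  let eV : Vsub P' ≃* Vsub P :=
    ((Vsub P').equivMapOfInjective _ (Nsub P).subtype_injective).trans (MulEquiv.subgroupCongr hV)
  have heV : ∀ v : Vsub P', (eV v : G) = ((v : Nsub P) : G) := fun v => rfl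
  let κ := Char.irrCongr eV
  have hnat : ∀ (θ' : IrrCharacter (Vsub P')) (n : Nsub P) (hn : n ∈ Nsub P'),
      κ (thetaN hP' θ' ⟨n, hn⟩) = thetaN hP (κ θ') n := by
    intro θ' n hn
    refine Subtype.ext (funext fun v => ?_)
    show θ'.1 (conjV hP' ⟨n, hn⟩ (eV.symm v)) = θ'.1 (eV.symm (conjV hP n v))
    refine congrArg θ'.1 (eV.injective (Subtype.ext ?_))
    rw [MulEquiv.apply_symm_apply, heV]
    show (n : G) * ((eV.symm v : Nsub P) : G) * (n : G)⁻¹ = (n : G) * v * (n : G)⁻¹
    rw [← heV, MulEquiv.apply_symm_apply]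
  have horb : ∀ θ' : IrrCharacter (Vsub P'), (orb hP (κ θ')).card = (orb hP' θ').card := by
    intro θ'
    rw [← Finset.card_image_of_injective (orb hP' θ') κ.injective]
    congr 1
    ext η
    rw [mem_orb, Finset.mem_image]
    constructor
    · rintro ⟨n, rfl⟩
      exact ⟨_, (mem_orb hP').2 ⟨⟨n, hN ▸ Subgroup.mem_top n⟩, rfl⟩, hnat θ' n _⟩
    · rintro ⟨_, hη, rfl⟩
      obtain ⟨⟨n, hn⟩, rfl⟩ := (mem_orb hP').1 hη
      exact ⟨n, (hnat θ' n hn).symm⟩
  have hH : Nat.card {χ : IrrCharacter (Nsub P) // ¬ p ∣ charDegree χ.1} =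
      Nat.card (ConjClasses (Nsub P)) := by
    rw [← Char.card_irr]
    refine Nat.card_congr (Equiv.subtypeUnivEquiv fun χ h => ?_)
    rw [Char.charDegree_eq_degree] at h
    refine P'.not_dvd_index (h.trans (Char.degree_dvd_index_of_comm (N := (P' : Subgroup (Nsub P)))
      (fun a ha b hb => comm hP' ha hb) χ))
  rw [← hH, ← Nat.cast_inj (R := ℚ), card_pprime_degree hP, card_pprime_degree hP', hf]
  exact (Fintype.sum_equiv κ _ _ fun θ' => by rw [horb]).symm

end Cfsg.Agent.DefectOne.Local
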