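import Cfsg.Agent.Lib.DefectOne.Shape
import Cfsg.Agent.Lib.DefectOne.BrickTrace
import Cfsg.Agent.Lib.DefectOne.PadicRep
import Mathlib.GroupTheory.SpecificGroups.Cyclic

/-!
# Sylow subgroups of order `p`

For a Sylow subgroup `P` of order `p`, sums over Galois conjugates of an irreducible character
that is constant on the `p`-singular sections have total value `±(p - 1)` or `0` on `P - 1`.
-/

set_option linter.style.haveILetI false
set_option linter.unusedSectionVars false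

namespace Cfsg.Agent.DefectOne

open Cfsg Cfsg.Agent
open scoped ComplexConjugate Classical

universe u

variable {G : Type u} [Group G] [Fintype G] {p : ℕ} [hp : Fact p.Prime] {P : Sylow p G}

theorem exists_gen (hP : Nat.card P = p) :
    ∃ y₀ ∈ (P : Subgroup G), Subgroup.zpowers y₀ = (P : Subgroup G) ∧ orderOf y₀ = p := by
  haveI : Fact (Nat.card (P : Subgroup G)).Prime := ⟨by rw [hP]; exact hp.out⟩
  obtain ⟨⟨g, hg⟩, hg1⟩ : ∃ g : (P : Subgroup G), g ≠ 1 := by
    haveI : Nontrivial (P : Subgroup G) := Finite.one_lt_card_iff_nontrivial.1 (hp.out.one_lt.trans_le hP.ge)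
    exact exists_ne 1
  have hord : orderOf g = p := by
    have h1 : orderOf g ∣ p := hP ▸ Subgroup.orderOf_dvd_natCard _ hg
    rcases (Nat.dvd_prime hp.out).1 h1 with h | h
    · exact absurd (Subtype.ext (orderOf_eq_one_iff.1 h)) hg1
    · exact h
  refine ⟨g, hg, Subgroup.eq_of_le_of_card_ge (Subgroup.zpowers_le.2 hg) ?_, hord⟩
  rw [Nat.card_zpowers, hord, hP]

theorem freeData_of_card_eq (hP : Nat.card P = p) : FreeData P := by
  obtain ⟨y₀, -, hy₀, -⟩ := exists_gen hP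
  refine ⟨?_, fun y hy hy1 => ?_⟩
  · rw [← hy₀]; infer_instance
  · have h1 : Subgroup.zpowers y = (P : Subgroup G) := by
      refine Subgroup.eq_of_le_of_card_ge (Subgroup.zpowers_le.2 hy) ?_
      rw [Nat.card_zpowers, hP]
      rcases (Nat.dvd_prime hp.out).1 (hP ▸ Subgroup.orderOf_dvd_natCard _ hy : orderOf y ∣ p) with
        h | h
      · exact absurd (orderOf_eq_one_iff.1 h) hy1
      · exact h.ge
    rw [← Blocks.centralizer_zpowers_eq, h1]
    exact inf_eq_left.2 (Subgroup.centralizer_le_normalizer _)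

/-- The total value of a lattice character on `P - 1`. -/
theorem sum_conjugates_eq (hP : Nat.card P = p) (χ : IrrCharacter G)
    (hsec : ∀ η : IrrCharacter G, (∃ σ : ℂ ≃+* ℂ, η.1 = fun g => σ (χ.1 g)) →
      ∀ y ∈ (P : Subgroup G), y ≠ 1 → ∀ v ∈ Subgroup.centralizer ({y} : Set G), ¬ p ∣ orderOf v →
        η.1 (y * v) = η.1 y) :
    ∃ n : IrrCharacter G → ℕ, (∀ η, n η ≠ 0 → ∃ σ : ℂ ≃+* ℂ, η.1 = fun g => σ (χ.1 g)) ∧
      (∃ η, n η ≠ 0) ∧
      (∑ η, (n η : ℂ) * ∑ y ∈ Finset.univ.erase (1 : (P : Subgroup G)), η.1 y = (p : ℂ) - 1 ∨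
        ∑ η, (n η : ℂ) * ∑ y ∈ Finset.univ.erase (1 : (P : Subgroup G)), η.1 y = -((p : ℂ) - 1) ∨
        ∑ η, (n η : ℂ) * ∑ y ∈ Finset.univ.erase (1 : (P : Subgroup G)), η.1 y = 0) := by
  obtain ⟨Φ, d, ρ, n, hbrick, hconj, hne, htrace⟩ := exists_brick p χ
  refine ⟨n, hconj, hne, ?_⟩
  obtain ⟨y₀, hy₀P, hy₀, hord⟩ := exists_gen hP
  have hD := freeData_of_card_eq hP
  set Θ : G → ℂ := fun g => ∑ η, (n η : ℂ) * η.1 g with hΘ
  have hsum : ∑ η, (n η : ℂ) * ∑ y ∈ Finset.univ.erase (1 : (P : Subgroup G)), η.1 y =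
      ∑ y ∈ Finset.univ.erase (1 : (P : Subgroup G)), Θ y := by
    simp only [hΘ, Finset.mul_sum]; exact Finset.sum_comm
  rw [hsum]
  have hpR : Irreducible ((p : ℕ) : ℤ_[p]) := PadicInt.irreducible_p
  haveI : Finite (ℤ_[p] ⧸ Ideal.span {((p : ℕ) : ℤ_[p])}) := by
    rw [← PadicInt.maximalIdeal_eq_span_p]
    exact Finite.of_equiv _ (PadicInt.residueField).toEquiv.symm
  have hΦi : Function.Injective Φ := by
    intro a b hab
    by_contra hne'
    have h0 : Φ (a - b) = 0 := by rw [map_sub, hab, sub_self]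
    obtain ⟨m, hm⟩ : ∃ m : ℕ, ((p : ℕ) : ℤ_[p]) ^ m * (PadicInt.unitCoeff (sub_ne_zero.2 hne') : ℤ_[p]) =
        a - b := ⟨_, by rw [mul_comm]; exact (PadicInt.unitCoeff_spec (sub_ne_zero.2 hne')).symm⟩
    rw [← hm, map_mul, map_pow, map_natCast, mul_eq_zero] at h0
    rcases h0 with h0 | h0
    · exact hp.out.ne_zero (Nat.cast_eq_zero.1 (pow_eq_zero_iff'.1 h0).1)
    · exact ((PadicInt.unitCoeff (sub_ne_zero.2 hne')).isUnit.map Φ).ne_zero h0
  set r₀ := Module.finrank ℤ_[p] (Herbrand.fixS (ρ y₀)) with hr₀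
  -- `p r₀ = d + ∑ Θ`
  have hkey : (p : ℂ) * (r₀ : ℂ) = (d : ℂ) + ∑ y ∈ Finset.univ.erase (1 : (P : Subgroup G)), Θ y := by
    have h1 := congrArg Φ (Herbrand.trace_trOp (ρ := ρ) hy₀ hord hpR)
    rw [Herbrand.trOp_eq_sum ρ hy₀ hord, map_sum, map_sum, map_mul, map_natCast, map_natCast,
      ← Finset.add_sum_erase _ _ (Finset.mem_univ (1 : (P : Subgroup G))), OneMemClass.coe_one, map_one,
      LinearMap.trace_one, map_natCast, Module.finrank_fin_fun] at h1
    rw [← h1]
    congr 1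
    exact Finset.sum_congr rfl fun y _ => htrace (y : G)
  by_cases hzero : p * r₀ = d
  · right; right
    rw [← hzero] at hkey
    push_cast at hkey
    linear_combination -hkey
  set C := Subgroup.centralizer ({y₀} : Set G) with hC
  have hCP : Subgroup.centralizer ((P : Subgroup G) : Set G) = C := by
    rw [← hy₀, Blocks.centralizer_zpowers_eq]
  obtain ⟨hKidx, hKreg⟩ := index_pPrimeCore_of_hasNormalPComplement
    (hD.hasNormalPComplement hy₀P (fun h1 => by
      rw [h1, orderOf_one] at hord; exact hp.out.ne_one hord.symm))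
  set V := (pPrimeCore p C).map C.subtype with hV
  have hVC : ∀ v ∈ V, v ∈ C := by rintro _ ⟨w, -, rfl⟩; exact w.2
  have hVreg : ∀ v ∈ V, ¬ p ∣ orderOf v := by
    rintro _ ⟨w, hw, rfl⟩ hd
    rw [Subgroup.subtype_apply, Subgroup.orderOf_coe] at hd
    exact PCore.not_dvd_card_pPrimeCore (hd.trans (Subgroup.orderOf_dvd_natCard _ hw))
  have hregV : ∀ v ∈ C, ¬ p ∣ orderOf v → v ∈ V := fun v hv hd =>
    ⟨⟨v, hv⟩, hKreg ⟨v, hv⟩ (by rwa [Subgroup.orderOf_mk]), rfl⟩
  have hidx : ¬ p ∣ (P : Subgroup G).index := P.not_dvd_index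
  set ψ := (P : Subgroup G).normalizerMonoidHom with hψ
  haveI : IsCyclic (P : Subgroup G) := isCyclic_of_prime_card hP
  haveI : IsCyclic (MulAut (P : Subgroup G)) := by
    haveI : Fact (Nat.card (P : Subgroup G)).Prime := ⟨by rw [hP]; exact hp.out⟩
    exact isCyclic_of_surjective (IsCyclic.mulAutMulEquiv (P : Subgroup G)).symm.toMonoidHom
      (IsCyclic.mulAutMulEquiv (P : Subgroup G)).symm.surjective
  obtain ⟨⟨_, h, rfl⟩, hgen⟩ := IsCyclic.exists_generator (α := ψ.range)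
  have hker : ∀ m : Subgroup.normalizer ((P : Subgroup G) : Set G),
      ψ m = 1 ↔ (m : G) ∈ Subgroup.centralizer ((P : Subgroup G) : Set G) := fun m => by
    rw [← MonoidHom.mem_ker, hψ, Subgroup.normalizerMonoidHom_ker, Subgroup.mem_subgroupOf]
  have hres := Herbrand.rank_defect_eq (R := ℤ_[p]) (ρ := ρ) (P := (P : Subgroup G)) (y₀ := y₀)
    (V := V) (h := (h : G)) hy₀ hord hpR hidx hbrick
    (fun v hv y hy => by
      have := (Subgroup.mem_centralizer_iff.1 (hCP.ge (hVC v hv))) y hy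
      exact this.symm)
    (by
      rw [hV, Subgroup.card_subtype]
      exact PCore.not_dvd_card_pPrimeCore)
    (fun m hm v hv => by
      refine hregV _ (hCP.le (Subgroup.mem_centralizer_iff.2 fun y hy => ?_)) ?_
      · have hy' : m⁻¹ * y * m ∈ (P : Subgroup G) :=
          (Subgroup.mem_normalizer_iff.1 hm _).2 (show m * (m⁻¹ * y * m) * m⁻¹ ∈ (P : Subgroup G) by
            rw [show m * (m⁻¹ * y * m) * m⁻¹ = y by group]; exact hy)
        have h2 := Subgroup.mem_centralizer_iff.1 (hCP.ge (hVC v hv)) _ hy'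
        calc y * (m * v * m⁻¹) = m * ((m⁻¹ * y * m) * v) * m⁻¹ := by group
          _ = m * (v * (m⁻¹ * y * m)) * m⁻¹ := by rw [h2]
          _ = m * v * m⁻¹ * y := by group
      · rw [show orderOf (m * v * m⁻¹) = orderOf v from (MulAut.conj m).orderOf_eq v]
        exact hVreg v hv)
    (fun c hc => by
      have hPC : (P : Subgroup G) ≤ C := fun x hx =>
        Subgroup.mem_centralizer_singleton_iff.2 (hD.mul_comm hx hy₀P)
      have hcompl : Subgroup.IsComplement' (pPrimeCore p C) ((P.subtype hPC : Sylow p C) : Subgroup C) := by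
        refine Subgroup.isComplement'_of_coprime ?_ ?_
        · rw [(P.subtype hPC).card_eq_multiplicity, ← hKidx, Subgroup.card_mul_index]
        · rw [(P.subtype hPC).card_eq_multiplicity]
          exact Nat.Coprime.pow_right _ PCore.coprime_card_pPrimeCore
      obtain ⟨⟨⟨w, hw⟩, ⟨y, hy⟩⟩, hwy⟩ := hcompl.2 ⟨c, hCP.le hc⟩
      refine ⟨w, ⟨w, hw, rfl⟩, y, ?_, congrArg Subtype.val hwy⟩
      exact hy)
    h.2
    (by
      rw [show (h : G) ^ (p - 1) = ((h ^ (p - 1) : Subgroup.normalizer ((P : Subgroup G) : Set G)) : G)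
        from (SubmonoidClass.coe_pow _ _).symm]
      refine (hker _).1 ?_
      have hcard : Nat.card (MulAut (P : Subgroup G)) = p - 1 := by
        rw [IsCyclic.card_mulAut, hP, Nat.totient_prime hp.out]
      rw [map_pow, ← hcard, pow_card_eq_one'])
    (fun m hm => by
      obtain ⟨k, hk⟩ := mem_powers_iff_mem_zpowers.2 (hgen ⟨ψ ⟨m, hm⟩, ⟨⟨m, hm⟩, rfl⟩⟩)
      refine ⟨m * ((h : G) ^ k)⁻¹, ?_, k, (inv_mul_cancel_right m _).symm⟩
      have h2 : ψ h ^ k = ψ ⟨m, hm⟩ := congrArg Subtype.val hk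
      have h3 : ψ (⟨m, hm⟩ * (h ^ k)⁻¹) = 1 := by rw [map_mul, map_inv, map_pow, h2, mul_inv_cancel]
      exact (hker _).1 h3)
    (fun y hy hy1 v hv => hΦi (by
      rw [htrace, htrace]
      refine Finset.sum_congr rfl fun η _ => ?_
      by_cases hn : n η = 0
      · simp [hn]
      have hvC : v ∈ Subgroup.centralizer ({y} : Set G) := by
        refine Subgroup.mem_centralizer_singleton_iff.2 ?_
        exact (Subgroup.mem_centralizer_iff.1 (hCP.ge (hVC v hv)) y hy).symm
      rw [hsec η (hconj η hn) y hy hy1 v hvC (hVreg v hv)]))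
    hzero
  rcases hres with h1 | h1
  · left
    have h2 : (p : ℂ) * (r₀ : ℂ) - (d : ℂ) = (p : ℂ) - 1 := by exact_mod_cast congrArg (Int.cast (R := ℂ)) h1
    linear_combination h2 - hkey
  · right; left
    have h2 : (p : ℂ) * (r₀ : ℂ) - (d : ℂ) = -((p : ℂ) - 1) := by
      exact_mod_cast congrArg (Int.cast (R := ℂ)) h1
    linear_combination h2 - hkey

end Cfsg.Agent.DefectOne
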