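import Cfsg.Agent.Lib.DefectOne.PrincipalOne
import Cfsg.Agent.Lib.Char.Descend
import Cfsg.Agent.Lib.Char.Linear
import Cfsg.Agent.Lib.Char.Generalized

/-!
# A self-centralising Sylow subgroup of order `p`

Characters outside the principal block vanish on `P - 1`; column relations inside the block; the
tensor square of an exceptional character of degree `e = |N(P) : P|` shows that `(p - 1) / e ≤ 2`,
and produces a character of degree `p + 1` when equality holds.
-/

set_option linter.style.haveILetI false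
set_option linter.unusedSectionVars false

namespace Cfsg.Agent.DefectOne

open Cfsg Cfsg.Agent
open scoped ComplexConjugate Classical

universe u

variable {G : Type u} [Group G] [Fintype G] {p : ℕ} [hp : Fact p.Prime] {P : Sylow p G}
  {M : Ideal AlgInt} [M.IsMaximal]

/-- The hypothesis `|P| = p`, `C_G(P) = P`. -/
structure SelfCent (P : Sylow p G) : Prop where
  card : Nat.card P = p
  cent : Subgroup.centralizer ((P : Subgroup G) : Set G) = (P : Subgroup G)

theorem SelfCent.centralizer_singleton (h : SelfCent P) {y : G} (hy : y ∈ (P : Subgroup G))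
    (hy1 : y ≠ 1) : Subgroup.centralizer ({y} : Set G) = (P : Subgroup G) := by
  have hz : Subgroup.zpowers y = (P : Subgroup G) := by
    refine Subgroup.eq_of_le_of_card_ge (Subgroup.zpowers_le.2 hy) ?_
    rw [Nat.card_zpowers, h.card]
    rcases (Nat.dvd_prime hp.out).1 (h.card ▸ Subgroup.orderOf_dvd_natCard _ hy : orderOf y ∣ p) with
      h1 | h1
    · exact absurd (orderOf_eq_one_iff.1 h1) hy1
    · exact h1.ge
  rw [← Blocks.centralizer_zpowers_eq, hz, h.cent]

theorem SelfCent.card_centralizer (h : SelfCent P) {y : G} (hy : y ∈ (P : Subgroup G))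
    (hy1 : y ≠ 1) : Nat.card (Subgroup.centralizer ({y} : Set G)) = p := by
  rw [h.centralizer_singleton hy hy1]
  exact h.card

/-- Characters outside the principal block vanish on `P - 1`. -/
theorem SelfCent.vanish (h : SelfCent P) (hpM : (p : AlgInt) ∈ M) {χ : IrrCharacter G}
    (hχ : χ ∉ principalBlock M G) {y : G} (hy : y ∈ (P : Subgroup G)) (hy1 : y ≠ 1) :
    χ.1 y = 0 := by
  have h1 := Char.sum_irr_mul_conj y y
  rw [if_pos (IsConj.refl y), h.card_centralizer hy hy1] at h1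
  have h2 := (freeData_of_card_eq h.card).sum_principal_sq hpM hy hy1
  rw [show Nat.card P = p from h.card] at h2
  rw [← Finset.sum_filter_add_sum_filter_not _ (· ∈ principalBlock M G), h2] at h1
  have h3 : ∑ x ∈ Finset.univ.filter (fun x : IrrCharacter G => x ∉ principalBlock M G),
      x.1 y * conj (x.1 y) = 0 := by
    linear_combination h1
  simp only [Complex.mul_conj] at h3
  rw [← Complex.ofReal_sum, Complex.ofReal_eq_zero,
    Finset.sum_eq_zero_iff_of_nonneg (fun x _ => Complex.normSq_nonneg _)] at h3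
  exact Complex.normSq_eq_zero.1 (h3 χ (Finset.mem_filter.2 ⟨Finset.mem_univ _, hχ⟩))

theorem sum_split (χ : IrrCharacter G) :
    ∑ y : (P : Subgroup G), χ.1 y =
      (Char.degree χ : ℂ) + ∑ y ∈ Finset.univ.erase (1 : (P : Subgroup G)), χ.1 y := by
  rw [← Finset.add_sum_erase _ _ (Finset.mem_univ (1 : (P : Subgroup G))),
    Subgroup.coe_one, Char.apply_one_eq_degree]

theorem card_erase (hP : Nat.card P = p) :
    (Finset.univ.erase (1 : (P : Subgroup G))).card = p - 1 := by
  rw [Finset.card_erase_of_mem (Finset.mem_univ _), Finset.card_univ, ← Nat.card_eq_fintype_card]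
  exact congrArg (· - 1) hP

/-- Characters outside the principal block have degree divisible by `p`. -/
theorem SelfCent.dvd_degree (h : SelfCent P) (hpM : (p : AlgInt) ∈ M) {χ : IrrCharacter G}
    (hχ : χ ∉ principalBlock M G) : p ∣ Char.degree χ := by
  obtain ⟨n, hn⟩ := exists_sum_eq_mul h.card χ
  rw [sum_split, Finset.sum_eq_zero fun y hy => h.vanish hpM hχ y.2
    (fun e => (Finset.mem_erase.1 hy).1 (Subtype.ext e)), add_zero] at hn
  exact ⟨n, by exact_mod_cast hn⟩

theorem SelfCent.mem_block (h : SelfCent P) (hpM : (p : AlgInt) ∈ M) {χ : IrrCharacter G}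
    (hχ : ¬ p ∣ Char.degree χ) : χ ∈ principalBlock M G := by
  by_contra hn
  exact hχ (h.dvd_degree hpM hn)

theorem PrimeShape.mem_XY {m : ℕ} (S : PrimeShape P M m) {χ : IrrCharacter G}
    (hχ : χ ∈ principalBlock M G) : χ ∈ S.X ∨ χ ∈ S.Y := by
  rw [S.union] at hχ
  exact hχ

theorem PrimeShape.X_deg' {m : ℕ} (S : PrimeShape P M m) {χ : IrrCharacter G} (hχ : χ ∈ S.X) :
    (Char.degree χ : ℤ) ≡ S.εX χ [ZMOD p] := by
  rw [← Char.charDegree_eq_degree]
  exact S.X_deg χ hχ

theorem PrimeShape.Y_deg' {m : ℕ} (S : PrimeShape P M m) {θ : IrrCharacter G} (hθ : θ ∈ S.Y) :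
    (Char.degree θ : ℤ) ≡ S.ε * m [ZMOD p] := by
  rw [← Char.charDegree_eq_degree]
  exact S.Y_deg θ hθ

theorem PrimeShape.degree_eq {m : ℕ} (S : PrimeShape P M m) {θ θ' : IrrCharacter G}
    (hθ : θ ∈ S.Y) (hθ' : θ' ∈ S.Y) : Char.degree θ = Char.degree θ' := by
  have := S.agree θ hθ θ' hθ' 1 (by simp [IsPRegular, hp.out.ne_one])
  rw [Char.apply_one_eq_degree, Char.apply_one_eq_degree] at this
  exact_mod_cast this

/-- The degree relation. -/
theorem PrimeShape.degree_relation {m : ℕ} (S : PrimeShape P M m) {θ : IrrCharacter G}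
    (hθ : θ ∈ S.Y) :
    S.ε * (Char.degree θ : ℤ) = ∑ χ ∈ S.X, S.εX χ * (Char.degree χ : ℤ) := by
  have := S.relation θ hθ 1 (by simp [IsPRegular, hp.out.ne_one])
  simp only [Char.apply_one_eq_degree] at this
  exact_mod_cast this

theorem SelfCent.sum_Y_sq (h : SelfCent P) (hpM : (p : AlgInt) ∈ M) {m : ℕ}
    (S : PrimeShape P M m) {y : G} (hy : y ∈ (P : Subgroup G)) (hy1 : y ≠ 1) :
    (m : ℂ) + ∑ θ ∈ S.Y, θ.1 y * conj (θ.1 y) = p := by
  have h2 := (freeData_of_card_eq h.card).sum_principal_sq hpM hy hy1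
  rw [show Nat.card P = p from h.card,
    show Finset.univ.filter (· ∈ principalBlock M G) = S.X ∪ S.Y by ext x; simp [S.union],
    Finset.sum_union S.disj] at h2
  rw [← h2]
  congr 1
  rw [Finset.sum_congr rfl fun χ hχ => ?_, Finset.sum_const, nsmul_eq_mul, mul_one]
  · exact congrArg (fun k : ℕ => (k : ℂ)) S.cardX.symm
  rw [show χ.1 y = S.εX χ from S.X_val χ hχ ⟨y, hy⟩ (fun e => hy1 (congrArg Subtype.val e))]
  rcases S.hεX χ hχ with e | e <;> simp [e]

/-- The exceptional characters add up to `-ε` on `P - 1`. -/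
theorem SelfCent.sum_Y (h : SelfCent P) (hpM : (p : AlgInt) ∈ M) {m : ℕ}
    (S : PrimeShape P M m) (hY : S.Y.Nonempty) {y : G} (hy : y ∈ (P : Subgroup G)) (hy1 : y ≠ 1) :
    ∑ θ ∈ S.Y, θ.1 y = -(S.ε : ℂ) := by
  obtain ⟨θ₀, hθ₀⟩ := hY
  have h1 := Char.sum_irr_degree_mul y
  rw [if_neg hy1, ← Finset.sum_subset (Finset.subset_univ (S.X ∪ S.Y)) fun χ _ hχ => by
    rw [h.vanish hpM (fun hm => hχ (Finset.mem_union.2 (S.mem_XY hm))) hy hy1, mul_zero],
    Finset.sum_union S.disj] at h1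
  have hX : ∑ χ ∈ S.X, χ.1 1 * χ.1 y = ((∑ χ ∈ S.X, S.εX χ * (Char.degree χ : ℤ) : ℤ) : ℂ) := by
    push_cast
    refine Finset.sum_congr rfl fun χ hχ => ?_
    rw [show χ.1 y = S.εX χ from S.X_val χ hχ ⟨y, hy⟩ (fun e => hy1 (congrArg Subtype.val e)),
      Char.apply_one_eq_degree]
    ring
  have hY' : ∑ θ ∈ S.Y, θ.1 1 * θ.1 y = (Char.degree θ₀ : ℂ) * ∑ θ ∈ S.Y, θ.1 y := by
    rw [Finset.mul_sum]
    refine Finset.sum_congr rfl fun θ hθ => ?_
    rw [Char.apply_one_eq_degree, S.degree_eq hθ hθ₀]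
  rw [hX, hY', ← S.degree_relation hθ₀] at h1
  push_cast at h1
  have hd : (Char.degree θ₀ : ℂ) ≠ 0 := Nat.cast_ne_zero.2 (Char.degree_pos θ₀).ne'
  refine mul_left_cancel₀ hd ?_
  linear_combination h1

/-- An exceptional character of degree `m` has no fixed vector of `P` when `ε = 1`. -/
theorem SelfCent.fixed_Y_eq_zero (h : SelfCent P) (hpM : (p : AlgInt) ∈ M) {m t : ℕ}
    (S : PrimeShape P M m) (hε : S.ε = 1) (hdeg : ∀ θ ∈ S.Y, Char.degree θ = m)
    (ht : t * m = p - 1) (hcard : S.Y.card = t) (hY : S.Y.Nonempty) {θ : IrrCharacter G}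
    (hθ : θ ∈ S.Y) : ∑ y : (P : Subgroup G), θ.1 y = 0 := by
  choose N hN using fun χ : IrrCharacter G => exists_sum_eq_mul h.card χ
  have h1 : ∑ θ ∈ S.Y, ∑ y : (P : Subgroup G), θ.1 y = 0 := by
    rw [Finset.sum_congr rfl fun θ hθ => by rw [sum_split, hdeg θ hθ], Finset.sum_add_distrib,
      Finset.sum_comm, Finset.sum_congr rfl fun (y : (P : Subgroup G)) hy =>
        h.sum_Y hpM S hY y.2 fun e => (Finset.mem_erase.1 hy).1 (Subtype.ext e),
      Finset.sum_const, Finset.sum_const, card_erase h.card, hcard, hε, ← ht]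
    push_cast [nsmul_eq_mul]
    ring
  rw [Finset.sum_congr rfl fun θ _ => hN θ, ← Finset.mul_sum, mul_eq_zero,
    or_iff_right (Nat.cast_ne_zero.2 hp.out.ne_zero)] at h1
  have h2 : ∑ θ ∈ S.Y, N θ = 0 := by exact_mod_cast h1
  rw [hN, (Finset.sum_eq_zero_iff.1 h2) θ hθ]
  simp

/-- For `|χ|²` on `P`: an integer, at least the degree. -/
theorem exists_sum_sq_ge (hP : Nat.card P = p) (χ : IrrCharacter G) :
    ∃ N : ℕ, Char.degree χ ≤ N ∧
      ∑ y : (P : Subgroup G), χ.1 y * conj (χ.1 y) = (p : ℂ) * N := by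
  have hcomm : ∀ a b : (P : Subgroup G), a * b = b * a := fun a b =>
    Subtype.ext ((freeData_of_card_eq hP).mul_comm a.2 b.2)
  have hres := Char.IsCharacter.restrict (Char.irr_isCharacter χ) (P : Subgroup G)
  obtain ⟨n, hn, -⟩ := Char.IsCharacter.exists_decomp hres
  have h1 := Char.IsGeneralizedCharacter.classInner_self_eq_sum
    (m := fun l => (n l : ℤ)) (θ := fun y : (P : Subgroup G) => χ.1 y) (by simpa using hn)
  refine ⟨∑ l, n l ^ 2, ?_, ?_⟩
  · have h2 := congrFun hn 1
    simp only [Finset.sum_apply, Pi.smul_apply, smul_eq_mul, Subgroup.coe_one,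
      Char.apply_one_of_comm hcomm, mul_one, Char.apply_one_eq_degree] at h2
    have h3 : Char.degree χ = ∑ l, n l := by exact_mod_cast h2
    exact h3.le.trans (Finset.sum_le_sum fun l _ => Nat.le_self_pow two_ne_zero _)
  · rw [classInner, show Nat.card (P : Subgroup G) = p from hP] at h1
    push_cast at h1 ⊢
    rw [← h1]
    field_simp [Nat.cast_ne_zero.2 hp.out.ne_zero]

/-- The restriction to `P` of an exceptional character of degree `m` or `p - m` is multiplicity
free. -/
theorem SelfCent.sum_sq_Y (h : SelfCent P) (hpM : (p : AlgInt) ∈ M) {m t d : ℕ}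
    (S : PrimeShape P M m) (hdeg : ∀ θ ∈ S.Y, Char.degree θ = d) (hd : d = m ∨ d + m = p)
    (ht : t * m = p - 1) (hcard : S.Y.card = t) {θ : IrrCharacter G}
    (hθ : θ ∈ S.Y) : ∑ y : (P : Subgroup G), θ.1 y * conj (θ.1 y) = (p : ℂ) * d := by
  choose N hN hN' using fun χ : IrrCharacter G => exists_sum_sq_ge h.card χ
  have h1 : ∑ θ ∈ S.Y, ∑ y : (P : Subgroup G), θ.1 y * conj (θ.1 y) = (p : ℂ) * (t * d : ℕ) := by
    rw [Finset.sum_comm, ← Finset.add_sum_erase _ _ (Finset.mem_univ (1 : (P : Subgroup G))),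
      Finset.sum_congr rfl fun θ hθ => by
        rw [Subgroup.coe_one, Char.apply_one_eq_degree, hdeg θ hθ, Complex.conj_natCast],
      Finset.sum_congr rfl fun (y : (P : Subgroup G)) hy => eq_sub_of_add_eq'
        (h.sum_Y_sq hpM S y.2 fun e => (Finset.mem_erase.1 hy).1 (Subtype.ext e)),
      Finset.sum_const, Finset.sum_const, card_erase h.card, hcard]
    have hpt : (p : ℂ) = t * m + 1 := by
      have : p = t * m + 1 := by have := hp.out.one_lt; omega
      exact_mod_cast this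
    rw [← ht]
    push_cast [nsmul_eq_mul]
    rcases hd with rfl | hd
    · rw [hpt]; ring
    · have hdm : (p : ℂ) = d + m := by exact_mod_cast hd.symm
      linear_combination (t : ℂ) * (m - d) * hdm
  rw [Finset.sum_congr rfl fun θ _ => hN' θ, ← Finset.mul_sum] at h1
  have h2 : ∑ θ ∈ S.Y, N θ = t * d := by
    exact_mod_cast mul_left_cancel₀ (Nat.cast_ne_zero.2 hp.out.ne_zero) h1
  have h3 : ∑ _θ ∈ S.Y, d = ∑ θ ∈ S.Y, N θ := by simp [h2, hcard]
  have h4 := (Finset.sum_eq_sum_iff_of_le fun θ hθ => (hdeg θ hθ) ▸ hN θ).1 h3 θ hθ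
  rw [hN', ← h4]

/-- A character which is multiplicity free on `P` has at most one fixed vector. -/
theorem fixed_le_one (hP : Nat.card P = p) (χ : IrrCharacter G)
    (hsq : ∑ y : (P : Subgroup G), χ.1 y * conj (χ.1 y) = (p : ℂ) * (Char.degree χ : ℂ))
    {N : ℕ} (hN : ∑ y : (P : Subgroup G), χ.1 y = (p : ℂ) * N) : N ≤ 1 := by
  have hcomm : ∀ a b : (P : Subgroup G), a * b = b * a := fun a b =>
    Subtype.ext ((freeData_of_card_eq hP).mul_comm a.2 b.2)
  have hres := Char.IsCharacter.restrict (Char.irr_isCharacter χ) (P : Subgroup G)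
  obtain ⟨n, hn, hni⟩ := Char.IsCharacter.exists_decomp hres
  have h1 := Char.IsGeneralizedCharacter.classInner_self_eq_sum
    (m := fun l => (n l : ℤ)) (θ := fun y : (P : Subgroup G) => χ.1 y) (by simpa using hn)
  have hp0 : (p : ℂ) ≠ 0 := Nat.cast_ne_zero.2 hp.out.ne_zero
  rw [classInner, show Nat.card (P : Subgroup G) = p from hP, hsq, ← mul_assoc,
    inv_mul_cancel₀ hp0, one_mul] at h1
  have h2 := congrFun hn 1
  simp only [Finset.sum_apply, Pi.smul_apply, smul_eq_mul, Subgroup.coe_one,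
    Char.apply_one_of_comm hcomm, mul_one, Char.apply_one_eq_degree] at h2
  have h3 : Char.degree χ = ∑ l, n l := by exact_mod_cast h2
  have h4 : ∑ l, n l = ∑ l, n l ^ 2 := by
    rw [← h3]
    have : ((Char.degree χ : ℤ) : ℂ) = ((∑ l, (n l : ℤ) ^ 2 : ℤ) : ℂ) := by push_cast at h1 ⊢; exact h1
    have h5 : (Char.degree χ : ℤ) = ∑ l, (n l : ℤ) ^ 2 := by exact_mod_cast this
    exact_mod_cast h5
  have h5 := (Finset.sum_eq_sum_iff_of_le fun l _ => Nat.le_self_pow two_ne_zero (n l)).1 h4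
    (Char.trivialChar (P : Subgroup G)) (Finset.mem_univ _)
  have h6 : n (Char.trivialChar (P : Subgroup G)) = N := by
    have := hni (Char.trivialChar (P : Subgroup G))
    rw [classInner, show Nat.card (P : Subgroup G) = p from hP] at this
    simp only [Char.trivialChar_apply, map_one, mul_one] at this
    rw [hN, ← mul_assoc, inv_mul_cancel₀ hp0, one_mul] at this
    exact_mod_cast this.symm
  rw [h6] at h5
  by_contra hlt
  have : N * 2 ≤ N * N := Nat.mul_le_mul_left N (by omega)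
  nlinarith [h5]

/-- An exceptional character of degree `m` or `p - m` adds up to `-ε m` on `P - 1`. -/
theorem SelfCent.sum_erase_Y (h : SelfCent P) (hpM : (p : AlgInt) ∈ M) {m t d : ℕ}
    (S : PrimeShape P M m) (hdeg : ∀ θ ∈ S.Y, Char.degree θ = d)
    (hd : (S.ε = 1 ∧ d = m) ∨ (S.ε = -1 ∧ d + m = p))
    (ht : t * m = p - 1) (hcard : S.Y.card = t) {θ : IrrCharacter G} (hθ : θ ∈ S.Y) :
    ∑ y ∈ Finset.univ.erase (1 : (P : Subgroup G)), θ.1 y = -(S.ε : ℂ) * m := by
  have hY : S.Y.Nonempty := ⟨θ, hθ⟩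
  rcases hd with ⟨hε, rfl⟩ | ⟨hε, hdm⟩
  · have := h.fixed_Y_eq_zero hpM S hε hdeg ht hcard hY hθ
    rw [sum_split, hdeg θ hθ] at this
    rw [hε]; push_cast
    linear_combination this
  · choose N hN using fun χ : IrrCharacter G => exists_sum_eq_mul h.card χ
    have hle : ∀ θ ∈ S.Y, N θ ≤ 1 := fun θ hθ =>
      fixed_le_one h.card θ (by rw [hdeg θ hθ]; exact h.sum_sq_Y hpM S hdeg (Or.inr hdm) ht hcard hθ)
        (hN θ)
    have h1 : ∑ θ ∈ S.Y, ∑ y : (P : Subgroup G), θ.1 y = (p : ℂ) * t := by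
      rw [Finset.sum_congr rfl fun θ hθ => by rw [sum_split, hdeg θ hθ], Finset.sum_add_distrib,
        Finset.sum_comm, Finset.sum_congr rfl fun (y : (P : Subgroup G)) hy =>
          h.sum_Y hpM S hY y.2 fun e => (Finset.mem_erase.1 hy).1 (Subtype.ext e),
        Finset.sum_const, Finset.sum_const, card_erase h.card, hcard, hε, ← ht]
      push_cast [nsmul_eq_mul]
      rw [show (p : ℂ) = d + m by exact_mod_cast hdm.symm]
      ring
    rw [Finset.sum_congr rfl fun θ _ => hN θ, ← Finset.mul_sum] at h1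
    have h2 : ∑ θ ∈ S.Y, N θ = t := by
      exact_mod_cast mul_left_cancel₀ (Nat.cast_ne_zero.2 hp.out.ne_zero) h1
    have h3 : ∑ θ ∈ S.Y, N θ = ∑ _θ ∈ S.Y, 1 := by simp [h2, hcard]
    have h4 := (Finset.sum_eq_sum_iff_of_le hle).1 h3 θ hθ
    have h5 := hN θ
    rw [sum_split, hdeg θ hθ, h4] at h5
    rw [hε, show (p : ℂ) = d + m by exact_mod_cast hdm.symm] at *
    push_cast at h5 ⊢
    linear_combination h5

/-- The main consequence of the decomposition of `θ θ̄`. -/
theorem SelfCent.exceptional_small (h : SelfCent P) (hpM : (p : AlgInt) ∈ M) {m t : ℕ}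
    (hlin : ∀ χ : IrrCharacter G, Char.degree χ = 1 → χ = Char.trivialChar G)
    (S : PrimeShape P M m) (hε : S.ε = 1) (hdeg : ∀ θ ∈ S.Y, Char.degree θ = m)
    (hm : 2 ≤ m) (ht : t * m = p - 1) (hcard : S.Y.card = t) (ht2 : 2 ≤ t) :
    t = 2 ∧ m % 2 = 1 ∧ ∃ χ ∈ S.X, Char.degree χ = p + 1 := by
  have hYne : S.Y.Nonempty := Finset.card_pos.1 (by omega)
  obtain ⟨θ, hθ⟩ := id hYne
  have hJ : IsCharacter G (fun g => θ.1 g * conj (θ.1 g)) :=
    Char.IsCharacter.mul (Char.irr_isCharacter θ) (Char.IsCharacter.conj (Char.irr_isCharacter θ))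
  obtain ⟨c, hc, hci⟩ := Char.IsCharacter.exists_decomp hJ
  choose N hN using fun χ : IrrCharacter G => exists_sum_eq_mul h.card χ
  set T := Char.trivialChar G with hT
  -- multiplicity of the trivial character
  have hc1 : c T = 1 := by
    have h1 := hci T
    have h2 : classInner (fun g => θ.1 g * conj (θ.1 g)) T.1 = classInner θ.1 θ.1 := by
      simp only [classInner, hT, Char.trivialChar_apply, map_one, mul_one]
    rw [h2, Char.classInner_irr_self θ.2] at h1
    exact_mod_cast h1.symm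
  have hT1 : Char.degree T = 1 := by
    have := Char.apply_one_eq_degree T
    rw [hT, Char.trivialChar_apply] at this
    exact_mod_cast this.symm
  have hNT : N T = 1 := by
    have h1 := hN T
    simp only [hT, Char.trivialChar_apply, Finset.sum_const, Finset.card_univ] at h1
    rw [← Nat.card_eq_fintype_card, show Nat.card (P : Subgroup G) = p from h.card, nsmul_eq_mul,
      mul_one] at h1
    have : (p : ℂ) * (N (Char.trivialChar G) : ℂ) = (p : ℂ) * 1 := by rw [← h1, mul_one]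
    exact_mod_cast mul_left_cancel₀ (Nat.cast_ne_zero.2 hp.out.ne_zero) this
  -- degree and fixed-point sums
  have hdegJ : ∑ χ, c χ * Char.degree χ = m * m := by
    have h1 := congrFun hc 1
    simp only [Finset.sum_apply, Pi.smul_apply, smul_eq_mul, Char.apply_one_eq_degree,
      Complex.conj_natCast, hdeg θ hθ] at h1
    exact_mod_cast h1.symm
  have hfixJ : ∑ χ, c χ * N χ = m := by
    have h1 := h.sum_sq_Y hpM S hdeg (Or.inl rfl) ht hcard hθ
    rw [Finset.sum_congr rfl fun (y : (P : Subgroup G)) _ => congrFun hc (y : G)] at h1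
    simp only [Finset.sum_apply, Pi.smul_apply, smul_eq_mul] at h1
    rw [Finset.sum_comm] at h1
    simp only [← Finset.mul_sum, hN, mul_left_comm _ (p : ℂ)] at h1
    exact_mod_cast mul_left_cancel₀ (Nat.cast_ne_zero.2 hp.out.ne_zero) h1
  -- the indicator of the positive non-exceptional characters
  let a : IrrCharacter G → ℕ := fun χ => if χ ∈ S.X ∧ S.εX χ = 1 then 1 else 0
  have hval : ∀ χ ∈ S.X, ∀ y : (P : Subgroup G), y ≠ 1 → χ.1 y = S.εX χ := S.X_val
  have hX : ∀ χ ∈ S.X, (p : ℤ) * N χ = Char.degree χ + ((p : ℤ) - 1) * S.εX χ := by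
    intro χ hχ
    have h1 := hN χ
    rw [sum_split, Finset.sum_congr rfl fun y hy => hval χ hχ y (Finset.mem_erase.1 hy).1,
      Finset.sum_const, card_erase h.card, nsmul_eq_mul, Nat.cast_sub hp.out.one_le] at h1
    push_cast at h1
    have : ((p : ℤ) * N χ : ℂ) = ((Char.degree χ + ((p : ℤ) - 1) * S.εX χ : ℤ) : ℂ) := by
      push_cast
      exact h1.symm
    exact_mod_cast this
  have key : ∀ χ ∈ Finset.univ.erase T, 2 * a χ ≤ N χ ∧
      ((p : ℤ) - 1) * ((N χ : ℤ) - a χ) ≤ (Char.degree χ : ℤ) - N χ := by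
    intro χ hχ
    have hχT : χ ≠ T := (Finset.mem_erase.1 hχ).1
    have hd1 : 2 ≤ Char.degree χ := by
      have := Char.degree_pos χ
      by_contra hcon
      exact hχT (hlin χ (by omega))
    have hp2 : (2 : ℤ) ≤ p := by exact_mod_cast hp.out.two_le
    by_cases hb : χ ∈ principalBlock M G
    · rcases S.mem_XY hb with hX' | hY'
      · have hp' := hX χ hX'
        rcases S.hεX χ hX' with e | e
        · have ha : a χ = 1 := if_pos ⟨hX', e⟩
          rw [e] at hp'
          rw [ha]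
          have : 2 ≤ N χ := by
            by_contra hcon
            have : (N χ : ℤ) ≤ 1 := by omega
            nlinarith
          exact ⟨by omega, by push_cast; nlinarith⟩
        · have ha : a χ = 0 := if_neg fun hh => by rw [hh.2] at e; norm_num at e
          rw [e] at hp'
          rw [ha]
          exact ⟨by omega, by push_cast; nlinarith⟩
      · have ha : a χ = 0 := if_neg fun hh => Finset.disjoint_left.1 S.disj hh.1 hY'
        have h0 : N χ = 0 := by
          have h1 := hN χ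
          rw [h.fixed_Y_eq_zero hpM S hε hdeg ht hcard hYne hY'] at h1
          exact_mod_cast (mul_eq_zero.1 h1.symm).resolve_left (Nat.cast_ne_zero.2 hp.out.ne_zero)
        rw [ha, h0]
        exact ⟨le_rfl, by simp⟩
    · have ha : a χ = 0 := if_neg fun hh => hb (by rw [S.union]; exact Or.inl hh.1)
      have h1 := hN χ
      rw [sum_split, Finset.sum_eq_zero fun y hy => h.vanish hpM hb y.2
        (fun e => (Finset.mem_erase.1 hy).1 (Subtype.ext e)), add_zero] at h1
      have h2 : Char.degree χ = p * N χ := by exact_mod_cast h1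
      rw [ha, h2]
      exact ⟨by omega, by push_cast; ring_nf; rfl⟩
  -- split off the trivial character
  rw [← Finset.add_sum_erase _ _ (Finset.mem_univ T), hc1, hT1] at hdegJ
  rw [← Finset.add_sum_erase _ _ (Finset.mem_univ T), hc1, hNT] at hfixJ
  set E := Finset.univ.erase T with hE
  have hA : 2 * ∑ χ ∈ E, c χ * a χ ≤ ∑ χ ∈ E, c χ * N χ := by
    rw [Finset.mul_sum]
    exact Finset.sum_le_sum fun χ hχ => by nlinarith [(key χ hχ).1]
  have hB : ((p : ℤ) - 1) * (∑ χ ∈ E, (c χ * N χ : ℤ) - ∑ χ ∈ E, (c χ * a χ : ℤ)) ≤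
      ∑ χ ∈ E, (c χ * Char.degree χ : ℤ) - ∑ χ ∈ E, (c χ * N χ : ℤ) := by
    rw [← Finset.sum_sub_distrib, ← Finset.sum_sub_distrib, Finset.mul_sum]
    refine Finset.sum_le_sum fun χ hχ => ?_
    have := mul_le_mul_of_nonneg_left (key χ hχ).2 (Int.natCast_nonneg (c χ))
    linear_combination this
  have hd' : (∑ χ ∈ E, (c χ * Char.degree χ : ℤ)) = m * m - 1 := by
    have h' : ((1 * 1 + ∑ χ ∈ E, c χ * Char.degree χ : ℕ) : ℤ) = ((m * m : ℕ) : ℤ) := by
      rw [hdegJ]
    push_cast at h'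
    linear_combination h'
  have hf' : (∑ χ ∈ E, (c χ * N χ : ℤ)) = m - 1 := by
    have h' : ((1 * 1 + ∑ χ ∈ E, c χ * N χ : ℕ) : ℤ) = ((m : ℕ) : ℤ) := by
      rw [hfixJ]
    push_cast at h'
    linear_combination h'
  have hpt : (p : ℤ) - 1 = t * m := by
    have : p = t * m + 1 := by have := hp.out.one_lt; omega
    rw [this]; push_cast; ring
  obtain ⟨A, hAdef⟩ : ∃ A : ℕ, A = ∑ χ ∈ E, c χ * a χ := ⟨_, rfl⟩
  have hA' : (∑ χ ∈ E, (c χ * a χ : ℤ)) = A := by rw [hAdef]; push_cast; rfl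
  rw [hd', hf', hA', hpt] at hB
  have hA2 : 2 * (A : ℤ) ≤ (m : ℤ) - 1 := by
    rw [← hf', hAdef]; exact_mod_cast hA
  have hm0 : (0 : ℤ) < m := by exact_mod_cast (show 0 < m by omega)
  have hB' : (t : ℤ) * ((m : ℤ) - 1 - A) ≤ (m : ℤ) - 1 := by
    refine le_of_mul_le_mul_left ?_ hm0
    nlinarith [hB]
  have ht' : t = 2 := by
    by_contra hne
    have : (3 : ℤ) ≤ t := by exact_mod_cast (show 3 ≤ t by omega)
    nlinarith [mul_le_mul_of_nonneg_right this (show (0 : ℤ) ≤ (m : ℤ) - 1 - A by linarith)]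
  refine ⟨ht', ?_⟩
  subst ht'
  have hA3 : 2 * (A : ℤ) = (m : ℤ) - 1 := by push_cast at hB'; linarith
  have hApos : 0 < A := by
    by_contra h0
    have : A = 0 := by omega
    rw [this] at hA3
    push_cast at hA3
    linarith [show (2 : ℤ) ≤ m by exact_mod_cast hm]
  have hAN : ∑ χ ∈ E, c χ * (2 * a χ) = ∑ χ ∈ E, c χ * N χ := by
    have h1 : ((∑ χ ∈ E, c χ * (2 * a χ) : ℕ) : ℤ) = ((∑ χ ∈ E, c χ * N χ : ℕ) : ℤ) := by
      have h2 : ∑ χ ∈ E, c χ * (2 * a χ) = 2 * A := by
        rw [hAdef, Finset.mul_sum]; exact Finset.sum_congr rfl fun χ _ => by ring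
      rw [h2]; push_cast; rw [hA3, ← hf']
    exact_mod_cast h1
  rw [hAdef] at hApos
  obtain ⟨χ, hχE, hχne⟩ := Finset.exists_ne_zero_of_sum_ne_zero hApos.ne'
  have heq := (Finset.sum_eq_sum_iff_of_le fun ψ hψ => Nat.mul_le_mul_left _ (key ψ hψ).1).1 hAN χ hχE
  have hc0 : c χ ≠ 0 := left_ne_zero_of_mul hχne
  have hax : χ ∈ S.X ∧ S.εX χ = 1 := by
    by_contra hcon
    exact right_ne_zero_of_mul hχne (if_neg hcon)
  have hN2 : N χ = 2 := by
    have := Nat.eq_of_mul_eq_mul_left (Nat.pos_of_ne_zero hc0) heq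
    rw [show a χ = 1 from if_pos hax] at this
    omega
  refine ⟨by omega, χ, hax.1, ?_⟩
  have := hX χ hax.1
  rw [hax.2, hN2] at this
  push_cast at this
  omega

end Cfsg.Agent.DefectOne
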