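import Cfsg.Agent.Lib.DefectOne.Shape
import Cfsg.Agent.Lib.Char.ClassSum
import Cfsg.Agent.Lib.CharInt.Basic
import Cfsg.Agent.Lib.PCore.HallHigman

/-!
# The principal block for abelian Sylow `P`, free action of order three

* `shape_three`: three non-exceptional characters with signs, exceptional values `δ θ`;
* `exists_good`: a section of `P` meeting no product of two conjugates of an involution;
* `core_relation`: `∑_{χ ∈ B₀} χ(t)² χ(y) / χ(1) = 0` there;
* `signs_of_relations`: the sign pattern and the square.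
-/

set_option linter.style.haveILetI false
set_option linter.unusedSectionVars false

namespace Cfsg.Agent.DefectOne

open Cfsg Cfsg.Agent
open scoped ComplexConjugate Classical

universe u

variable {G : Type u} [Group G] [Fintype G] {p : ℕ} [hp : Fact p.Prime] {P : Sylow p G}
  {M : Ideal AlgInt} [M.IsMaximal]

/-- The refined shape for an action of order three. -/
theorem FreeData.shape_three (h : FreeData P) (hpM : (p : AlgInt) ∈ M)
    (hm : (Subgroup.centralizer ((P : Subgroup G) : Set G)).relIndex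
      (Subgroup.normalizer ((P : Subgroup G) : Set G)) = 3) (hr : 3 + 1 < Nat.card P) :
    ∃ (X : Finset (IrrCharacter G)) (a : IrrCharacter G → ℤ) (δ : ℤ)
      (f : IrrCharacter (P : Subgroup G) → IrrCharacter G),
      (δ = 1 ∨ δ = -1) ∧ X.card = 3 ∧ Char.trivialChar G ∈ X ∧ a (Char.trivialChar G) = 1 ∧
      (∀ χ ∈ X, χ ∈ principalBlock M G) ∧
      (∀ χ ∈ X, (a χ = 1 ∨ a χ = -1) ∧ ∀ y : (P : Subgroup G), y ≠ 1 → χ.1 y = a χ) ∧
      (∀ l, l ≠ Char.trivialChar _ → f l ∈ principalBlock M G ∧ f l ∉ X) ∧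
      (∀ χ ∈ principalBlock M G, χ ∉ X → ∃ l, l ≠ Char.trivialChar _ ∧ f l = χ) ∧
      (∀ l μ, l ≠ Char.trivialChar _ → μ ≠ Char.trivialChar _ → (f l = f μ ↔ NConj P l μ)) ∧
      (∀ l, l ≠ Char.trivialChar _ → ∀ y : (P : Subgroup G), y ≠ 1 → (f l).1 y =
        δ * ∑ μ ∈ Finset.univ.filter (fun μ => NConj P μ l), μ.1 y) ∧
      ((principalBlock M G).toFinset \ X).card * 3 + 1 = Nat.card P ∧
      (∀ χ ∈ principalBlock M G, χ ∉ X → ∀ χ' ∈ principalBlock M G, χ' ∉ X → ∀ g,
        IsPRegular p g → χ.1 g = χ'.1 g) ∧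
      (∀ χ₀ ∈ principalBlock M G, χ₀ ∉ X → ∀ g, IsPRegular p g →
        ∑ χ ∈ X, (a χ : ℂ) * χ.1 g = (δ : ℂ) * χ₀.1 g) := by
  obtain ⟨S⟩ := h.shape hpM hm hr
  set B := (principalBlock M G).toFinset with hB
  set r := (B \ S.X).card with hrdef
  have hcm : r * 3 + 1 = Nat.card P := S.card_mul
  have hnorm := S.norm_eq
  rw [← hB, ← hrdef] at hnorm
  push_cast at hnorm
  obtain ⟨y₀, hy₀⟩ : ∃ y : (P : Subgroup G), y ≠ 1 := by
    have hne : (P : Subgroup G) ≠ ⊥ := fun hb => by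
      rw [show Nat.card P = Nat.card (P : Subgroup G) from rfl, hb, Subgroup.card_bot] at hr
      omega
    obtain ⟨y, hy⟩ := (Subgroup.ne_bot_iff_exists_ne_one).1 hne
    exact ⟨y, hy⟩
  have ha1 : S.a (Char.trivialChar G) = 1 := by
    have h1 := (S.X_val _ S.trivial_mem).2 y₀ hy₀
    rw [show (Char.trivialChar G).1 (y₀ : G) = 1 from rfl] at h1
    exact_mod_cast h1.symm
  have hge : ∀ χ ∈ S.X, (1 : ℤ) ≤ S.a χ ^ 2 := fun χ hχ =>
    Int.add_one_le_iff.2 (lt_of_le_of_ne (sq_nonneg _) (Ne.symm (pow_ne_zero 2 (S.X_val χ hχ).1)))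
  have hsum1 : (1 : ℤ) ≤ ∑ χ ∈ S.X, S.a χ ^ 2 :=
    (hge _ S.trivial_mem).trans
      (Finset.single_le_sum (fun χ _ => sq_nonneg (S.a χ)) S.trivial_mem)
  have hr2 : 2 ≤ r := by omega
  -- the exceptional set is non-empty
  obtain ⟨η₀, hη₀⟩ : ∃ η, η ∈ B \ S.X := Finset.card_pos.1 (by omega : 0 < r) |>.imp fun _ h => h
  obtain ⟨hη₀B, hη₀X⟩ := Finset.mem_sdiff.1 hη₀
  rw [hB, Set.mem_toFinset] at hη₀B
  have hrel1 := S.relation η₀ hη₀B hη₀X 1 (by simp [IsPRegular, hp.out.ne_one])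
  rw [← hB, ← hrdef] at hrel1
  have hcases : (∑ χ ∈ S.X, S.a χ ^ 2 = 3) ∧ (S.d = 0 ∨ (S.d = S.δ ∧ r = 2)) := by
    have hd1 : -1 ≤ S.d ∧ S.d ≤ 1 := by
      by_contra hcon
      have h4 : 4 ≤ S.d ^ 2 := by
        rcases not_and_or.1 hcon with h' | h' <;> nlinarith
      have h5 : 1 ≤ (S.d - S.δ) ^ 2 := by
        rcases not_and_or.1 hcon with h' | h' <;> rcases S.hδ with e | e <;> rw [e] <;> nlinarith
      have hr1 : (1 : ℤ) ≤ (r : ℤ) - 1 := by omega
      nlinarith [mul_le_mul_of_nonneg_right hr1 (sq_nonneg S.d)]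
    obtain hd0 | hd0 : S.d = 0 ∨ S.d ≠ 0 := em _
    · refine ⟨?_, Or.inl hd0⟩
      rcases S.hδ with e | e <;> rw [hd0, e] at hnorm <;> push_cast at hnorm <;> linarith
    have hsq : S.d ^ 2 = 1 := by
      have : S.d = 1 ∨ S.d = -1 := by omega
      rcases this with e | e <;> rw [e] <;> norm_num
    have hdd : S.d = S.δ := by
      by_contra hne
      have : S.d = 1 ∧ S.δ = -1 ∨ S.d = -1 ∧ S.δ = 1 := by rcases S.hδ with e | e <;> omega
      have hr1 : (1 : ℤ) ≤ (r : ℤ) - 1 := by omega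
      rcases this with ⟨e1, e2⟩ | ⟨e1, e2⟩ <;> rw [e1, e2] at hnorm <;> nlinarith
    rw [hdd, sub_self] at hnorm
    rw [hdd] at hsq
    rw [hsq] at hnorm
    have hr4 : r ≤ 4 := by omega
    have hr3 : r ≠ 3 := fun e => by
      have h10 : Nat.card P = 10 := by omega
      obtain ⟨k, hk⟩ := P.isPGroup'.exists_card_eq
      rw [show Nat.card P = Nat.card (P : Subgroup G) from rfl, hk] at h10
      have h2 : Nat.Prime 2 := Nat.prime_two
      have e2 : 2 = p := (Nat.prime_dvd_prime_iff_eq h2 hp.out).1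
        (h2.dvd_of_dvd_pow (h10 ▸ (by norm_num : 2 ∣ 10)))
      have e5 : 5 = p := (Nat.prime_dvd_prime_iff_eq Nat.prime_five hp.out).1
        (Nat.prime_five.dvd_of_dvd_pow (h10 ▸ (by norm_num : 5 ∣ 10)))
      omega
    have hr4' : r ≠ 4 := fun e => by
      have hs : ∑ χ ∈ S.X, S.a χ ^ 2 = 1 := by rw [e] at hnorm; push_cast at hnorm; linarith
      have hX : S.X = {Char.trivialChar G} := Finset.eq_singleton_iff_unique_mem.2
        ⟨S.trivial_mem, fun χ hχ => by
          by_contra hne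
          have h2 : S.a χ ^ 2 + S.a (Char.trivialChar G) ^ 2 ≤ ∑ ψ ∈ S.X, S.a ψ ^ 2 := by
            rw [← Finset.sum_pair (f := fun ψ => S.a ψ ^ 2) hne]
            exact Finset.sum_le_sum_of_subset_of_nonneg (by
              intro ψ hψ; rcases Finset.mem_insert.1 hψ with rfl | hψ
              · exact hχ
              · exact Finset.mem_singleton.1 hψ ▸ S.trivial_mem) fun ψ _ _ => sq_nonneg _
          have := hge χ hχ
          rw [hs, ha1] at h2
          omega⟩
      rw [hX, Finset.sum_singleton, ha1, e, hdd, Char.apply_one_eq_degree,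
        Char.apply_one_eq_degree] at hrel1
      have h1 : Char.degree (Char.trivialChar G) = 1 := by
        have := Char.apply_one_eq_degree (Char.trivialChar G)
        rw [show (Char.trivialChar G).1 (1 : G) = 1 from rfl] at this
        exact_mod_cast this.symm
      rw [h1] at hrel1
      have h3 : (3 : ℤ) * S.δ * (Char.degree η₀ : ℤ) + 1 = 0 := by
        have : (((3 : ℤ) * S.δ * (Char.degree η₀ : ℤ) + 1 : ℤ) : ℂ) = ((0 : ℤ) : ℂ) := by
          push_cast at hrel1 ⊢
          linear_combination hrel1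
        exact_mod_cast this
      have : (3 : ℤ) ∣ 1 := ⟨-(S.δ * (Char.degree η₀ : ℤ)), by linarith⟩
      omega
    have hr2' : r = 2 := by omega
    rw [hr2'] at hnorm
    exact ⟨by push_cast at hnorm; linarith, Or.inr ⟨hdd, hr2'⟩⟩
  obtain ⟨hs3, hd⟩ := hcases
  have hpm : ∀ χ ∈ S.X, S.a χ = 1 ∨ S.a χ = -1 := fun χ hχ => by
    have h1 := Finset.single_le_sum (fun ψ _ => sq_nonneg (S.a ψ)) hχ
    rw [hs3] at h1
    have h2 := (S.X_val χ hχ).1
    have : -1 ≤ S.a χ ∧ S.a χ ≤ 1 := by constructor <;> nlinarith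
    omega
  have hX3 : S.X.card = 3 := by
    have : ∑ χ ∈ S.X, S.a χ ^ 2 = ∑ χ ∈ S.X, 1 := Finset.sum_congr rfl fun χ hχ => by
      rcases hpm χ hχ with e | e <;> rw [e] <;> norm_num
    rw [hs3, Finset.sum_const, nsmul_one] at this
    exact_mod_cast this.symm
  rcases hd with hd | ⟨hd, hr2'⟩
  · refine ⟨S.X, S.a, S.δ, S.f, S.hδ, hX3, S.trivial_mem, ha1, S.X_sub,
      fun χ hχ => ⟨hpm χ hχ, (S.X_val χ hχ).2⟩, S.f_mem, S.f_surj, S.f_eq,
      fun l hl y hy => ?_, S.card_mul, S.agree, fun χ₀ h₁ h₂ g hg => ?_⟩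
    · rw [S.f_val l hl y hy, hd, Int.cast_zero, zero_add]
    · have := S.relation χ₀ h₁ h₂ g hg
      rw [hd] at this
      push_cast at this
      linear_combination this
  -- two exceptional characters: exchange them
  obtain ⟨η₁, η₂, hne, hE⟩ := Finset.card_eq_two.1 (hrdef ▸ hr2' : (B \ S.X).card = 2)
  have hmem : ∀ l, l ≠ Char.trivialChar _ → S.f l = η₁ ∨ S.f l = η₂ := fun l hl => by
    have : S.f l ∈ B \ S.X :=
      Finset.mem_sdiff.2 ⟨Set.mem_toFinset.2 (S.f_mem l hl).1, (S.f_mem l hl).2⟩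
    simpa [hE] using this
  have hη : ∀ η, η = η₁ ∨ η = η₂ → η ∈ principalBlock M G ∧ η ∉ S.X := fun η h' => by
    have : η ∈ B \ S.X := by rw [hE]; rcases h' with rfl | rfl <;> simp
    exact ⟨Set.mem_toFinset.1 (Finset.mem_sdiff.1 this).1, (Finset.mem_sdiff.1 this).2⟩
  set sw : IrrCharacter G → IrrCharacter G := fun η => if η = η₁ then η₂ else η₁ with hsw
  have hsw1 : sw η₁ = η₂ := if_pos rfl
  have hsw2 : sw η₂ = η₁ := if_neg hne.symm
  refine ⟨S.X, S.a, -S.δ, fun l => sw (S.f l), by rcases S.hδ with e | e <;> omega, hX3,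
    S.trivial_mem, ha1, S.X_sub, fun χ hχ => ⟨hpm χ hχ, (S.X_val χ hχ).2⟩, fun l hl => ?_,
    fun χ h₁ h₂ => ?_, fun l μ hl hμ => ?_, fun l hl y hy => ?_, S.card_mul, S.agree,
    fun χ₀ h₁ h₂ g hg => ?_⟩
  · rcases hmem l hl with e | e <;> simp only [e, hsw1, hsw2]
    · exact hη η₂ (Or.inr rfl)
    · exact hη η₁ (Or.inl rfl)
  · have : χ ∈ B \ S.X := Finset.mem_sdiff.2 ⟨Set.mem_toFinset.2 h₁, h₂⟩
    rw [hE] at this
    simp only [Finset.mem_insert, Finset.mem_singleton] at this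
    rcases this with rfl | rfl
    · obtain ⟨l, hl, he⟩ := S.f_surj η₂ (hη _ (Or.inr rfl)).1 (hη _ (Or.inr rfl)).2
      exact ⟨l, hl, by simp only [he, hsw2]⟩
    · obtain ⟨l, hl, he⟩ := S.f_surj η₁ (hη _ (Or.inl rfl)).1 (hη _ (Or.inl rfl)).2
      exact ⟨l, hl, by simp only [he, hsw1]⟩
  · rw [← S.f_eq l μ hl hμ]
    rcases hmem l hl with e | e <;> rcases hmem μ hμ with e' | e' <;>
      simp [e, e', hsw1, hsw2, hne, hne.symm]
  · obtain ⟨μ, hμ, hfμ⟩ := S.f_surj (sw (S.f l))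
      (by rcases hmem l hl with e | e <;> simp only [e, hsw1, hsw2] <;>
        first | exact (hη η₂ (Or.inr rfl)).1 | exact (hη η₁ (Or.inl rfl)).1)
      (by rcases hmem l hl with e | e <;> simp only [e, hsw1, hsw2] <;>
        first | exact (hη η₂ (Or.inr rfl)).2 | exact (hη η₁ (Or.inl rfl)).2)
    have hne' : S.f μ ≠ S.f l := by
      rw [hfμ]
      rcases hmem l hl with e | e <;> simp only [e, hsw1, hsw2]
      · exact hne.symm
      · exact hne
    show (sw (S.f l)).1 y = _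
    rw [← hfμ, S.f_val μ hμ y hy, hd]
    have hset : Finset.univ.filter (fun ν => NConj P ν μ) =
        (Finset.univ.filter fun ν => ν ≠ Char.trivialChar (P : Subgroup G)).filter
          (fun ν => ¬ NConj P ν l) := by
      ext ν
      simp only [Finset.mem_filter, Finset.mem_univ, true_and]
      constructor
      · intro hν
        have hν1 : ν ≠ Char.trivialChar _ := fun e => by
          obtain ⟨n, hn⟩ := nConj_iff.1 hν
          subst e
          exact hμ (nChar_eq_trivial_iff.1 hn)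
        exact ⟨hν1, fun hνl => hne' (((S.f_eq ν μ hν1 hμ).2 hν).symm.trans ((S.f_eq ν l hν1 hl).2 hνl))⟩
      · rintro ⟨hν1, hνl⟩
        have h1 : S.f ν ≠ S.f l := fun e => hνl ((S.f_eq ν l hν1 hl).1 e)
        refine (S.f_eq ν μ hν1 hμ).1 ?_
        rcases hmem ν hν1 with e1 | e1 <;> rcases hmem l hl with e2 | e2 <;>
          rcases hmem μ hμ with e3 | e3 <;> simp_all
    have hfull := h.sum_nontrivial hy
    rw [← Finset.sum_filter_add_sum_filter_not _ (fun ν => NConj P ν l), ← hset,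
      Finset.filter_filter, Finset.filter_congr (q := fun ν => NConj P ν l) fun ν _ =>
        and_iff_right_of_imp fun hν e => by
          obtain ⟨n, hn⟩ := nConj_iff.1 hν
          subst e
          exact hl (nChar_eq_trivial_iff.1 hn)] at hfull
    push_cast
    linear_combination (S.δ : ℂ) * hfull
  · have := S.relation χ₀ h₁ h₂ g hg
    rw [← hB, ← hrdef, hr2', hd] at this
    push_cast at this ⊢
    linear_combination this

/-! ### Involutions -/

theorem exists_int_apply {t : G} (ht : orderOf t = 2) (χ : IrrCharacter G) :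
    ∃ z : ℤ, χ.1 t = (z : ℂ) := by
  obtain ⟨n, ρ, hρ, hχ⟩ := χ.2
  have htt : t * t = 1 := by rw [← pow_two, ← ht, pow_orderOf_eq_one]
  set e : Module.End ℂ (Fin n → ℂ) := (2 : ℂ)⁻¹ • (1 + ρ t) with he
  have hsq : ρ t * ρ t = 1 := by rw [← map_mul, htt, map_one]
  have hidem : IsIdempotentElem e := by
    show e * e = e
    rw [he, smul_mul_smul_comm, mul_add, add_mul, add_mul, one_mul, one_mul, mul_one, hsq,
      show 1 + ρ t + (ρ t + 1) = (2 : ℂ) • (1 + ρ t) by rw [two_smul]; abel, smul_smul]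
    norm_num
  have htr := LinearMap.IsProj.trace (R := ℂ) (LinearMap.isProj_range_iff_isIdempotentElem e |>.2 hidem)
  refine ⟨2 * (Module.finrank ℂ (LinearMap.range e) : ℤ) - n, ?_⟩
  rw [← hχ]
  show LinearMap.trace ℂ _ (ρ t) = _
  rw [he, map_smul, map_add, LinearMap.trace_one, Module.finrank_fintype_fun_eq_card,
    Fintype.card_fin] at htr
  push_cast
  rw [← htr, smul_eq_mul]
  ring

theorem eq_trivial_of_kernel {t : G} (hgen : ∀ K : Subgroup G, K.Normal → t ∈ K → K = ⊤)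
    (χ : IrrCharacter G) (h : χ.1 t = χ.1 1) : χ = Char.trivialChar G := by
  have hc := Char.irr_isCharacter χ
  have hK := hgen _ (CharInt.charKernel_normal hc) ((CharInt.mem_charKernel hc).2 h)
  have hconst : ∀ g, χ.1 g = χ.1 1 := fun g => (CharInt.mem_charKernel hc).1 (hK ▸ Subgroup.mem_top g)
  have h1 := Char.classInner_irr_self χ.2
  rw [classInner, Finset.sum_congr rfl fun g _ => show χ.1 g * conj (χ.1 g) =
      (Char.degree χ : ℂ) * (Char.degree χ : ℂ) by
    rw [hconst, Char.apply_one_eq_degree, Complex.conj_natCast], Finset.sum_const, Finset.card_univ,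
    ← Nat.card_eq_fintype_card, nsmul_eq_mul, ← mul_assoc, inv_mul_cancel₀ Char.card_ne_zero,
    one_mul] at h1
  have h2 : Char.degree χ = 1 := by
    have : Char.degree χ * Char.degree χ = 1 := by exact_mod_cast h1
    exact Nat.eq_one_of_mul_eq_one_right this
  refine Subtype.ext (funext fun g => ?_)
  rw [hconst, Char.apply_one_eq_degree, h2, Nat.cast_one]
  rfl

/-- The class function counting products of two conjugates of `t`. -/
noncomputable def twoProd (t : G) : G → ℂ := ∑ χ : IrrCharacter G, (χ.1 t * χ.1 t / χ.1 1) • χ.1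

theorem twoProd_eq_zero {t v : G} (ht : orderOf t = 2)
    (h : ∀ t₁ t₂, IsConj t t₁ → IsConj t t₂ → t₁ * t₂ ≠ v) : twoProd t v = 0 := by
  have htt : t⁻¹ = t := inv_eq_of_mul_eq_one_right (by rw [← pow_two, ← ht, pow_orderOf_eq_one])
  have key : ∀ b : G, ∑ χ : IrrCharacter G, χ.1 t * χ.1 (b * t * b⁻¹ * v) = 0 := by
    intro b
    have h0 := Char.sum_irr_mul_conj t (b * t * b⁻¹ * v)⁻¹
    rw [if_neg] at h0
    · rw [← h0]
      refine Finset.sum_congr rfl fun χ _ => ?_
      rw [Char.IsCharacter.conj_apply (Char.irr_isCharacter χ), inv_inv]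
    · intro hc
      have h2 : IsConj t (b * t * b⁻¹ * v) := by
        obtain ⟨c, hc⟩ := isConj_iff.1 hc
        refine isConj_iff.2 ⟨c, ?_⟩
        rw [← inv_inv (b * t * b⁻¹ * v), ← hc]
        conv_lhs => rw [← htt]
        group
      refine h (b * t * b⁻¹) (b * t * b⁻¹ * v) (isConj_iff.2 ⟨b, rfl⟩) h2 ?_
      rw [← mul_assoc, show b * t * b⁻¹ * (b * t * b⁻¹) = b * (t * t) * b⁻¹ by group]
      rw [← pow_two, ← ht, pow_orderOf_eq_one, mul_one, mul_inv_cancel, one_mul]
  have hsum : (Nat.card G : ℂ) * twoProd t v = 0 := by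
    calc (Nat.card G : ℂ) * twoProd t v
        = ∑ χ : IrrCharacter G, ∑ b, χ.1 t * χ.1 (b * t * b⁻¹ * v) := by
          rw [twoProd, Finset.sum_apply, Finset.mul_sum]
          refine Finset.sum_congr rfl fun χ _ => ?_
          have h1 := Char.sum_irr_conj_mul χ.2 t v
          have h2 := Char.IsIrrCharacter.apply_one_ne_zero χ.2
          rw [Pi.smul_apply, smul_eq_mul, ← Finset.mul_sum]
          field_simp
          linear_combination -(χ.1 t) * h1
      _ = 0 := by rw [Finset.sum_comm]; exact Finset.sum_eq_zero fun b _ => key b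
  exact (mul_eq_zero.1 hsum).resolve_left Char.card_ne_zero

/-- The principal block part of the vanishing on a good section. -/
theorem core_relation (hpM : (p : AlgInt) ∈ M) {t y : G} (ht : orderOf t = 2)
    (hy : ∃ k, orderOf y = p ^ k)
    (hgood : ∀ t₁ t₂ u, IsConj t t₁ → IsConj t t₂ → IsPPart p u y → t₁ * t₂ ≠ u) :
    ∑ χ ∈ (principalBlock M G).toFinset, χ.1 t * χ.1 t / χ.1 1 * χ.1 y = 0 := by
  have hsec : ∀ u z : G, IsPPart p u z → IsConj y z → twoProd t u = 0 := by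
    intro u z hu hyz
    obtain ⟨c, rfl⟩ := isConj_iff.1 hyz
    refine twoProd_eq_zero ht fun t₁ t₂ h₁ h₂ he => ?_
    refine hgood (c⁻¹ * t₁ * c) (c⁻¹ * t₂ * c) (c⁻¹ * u * c) (h₁.trans (isConj_iff.2 ⟨c⁻¹, by group⟩))
      (h₂.trans (isConj_iff.2 ⟨c⁻¹, by group⟩)) ?_ (by rw [← he]; group)
    have := Blocks.IsPPart.conj hu c⁻¹
    rwa [inv_inv, show c⁻¹ * (c * y * c⁻¹) * c = y by group] at this
  have hyy : IsPPart p y y := ⟨1, mul_one y, Commute.one_right y, hy, by simp [hp.out.ne_one]⟩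
  have := Blocks.blockPart_eq_zero_of_section hpM hsec (Blocks.isPBlock_principalBlock hpM (G := G))
    hyy (IsConj.refl y)
  rw [← this, blockPart, finsum_mem_eq_sum_of_inter_support_eq _
    (t := (principalBlock M G).toFinset) (by simp)]
  refine Finset.sum_congr rfl fun χ _ => ?_
  congr 1
  rw [twoProd, show Fintype.ofFinite G = ‹Fintype G› from Subsingleton.elim _ _,
    Char.classInner_sum_irr_left]

/-- For an action of order three some section of `P` meets no product of two conjugates of `t`;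
its representative `y` is moreover no product of two conjugates of `t` in `P`. -/
theorem FreeData.exists_good (h : FreeData P)
    (hm : (Subgroup.centralizer ((P : Subgroup G) : Set G)).relIndex
      (Subgroup.normalizer ((P : Subgroup G) : Set G)) = 3)
    (hr : 3 + 1 < Nat.card P) {r : ℕ} (hr3 : r * 3 + 1 = Nat.card P) {t : G} (ht : orderOf t = 2) :
    ∃ y ∈ (P : Subgroup G), y ≠ 1 ∧
      (∀ t₁ t₂ u, IsConj t t₁ → IsConj t t₂ → IsPPart p u y → t₁ * t₂ ≠ u) ∧
      ∀ b b', IsConj t b → IsConj t b' → b ∈ (P : Subgroup G) → b' ∈ (P : Subgroup G) → b * b' ≠ y := by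
  set N := Subgroup.normalizer ((P : Subgroup G) : Set G) with hN
  set C := Subgroup.centralizer ((P : Subgroup G) : Set G) with hC
  haveI := h.comm
  have htt : t * t = 1 := by rw [← pow_two, ← ht, pow_orderOf_eq_one]
  have hinv : ∀ t₁, IsConj t t₁ → t₁ * t₁ = 1 := by
    intro t₁ h₁
    obtain ⟨c, rfl⟩ := isConj_iff.1 h₁
    rw [show c * t * c⁻¹ * (c * t * c⁻¹) = c * (t * t) * c⁻¹ by group, htt, mul_one, mul_inv_cancel]
  -- a product inverts `y`
  have hinvy : ∀ t₁ t₂ u y, IsConj t t₁ → IsConj t t₂ → IsPPart p u y → t₁ * t₂ = u →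
      t₁ * y * t₁⁻¹ = y⁻¹ := by
    intro t₁ t₂ u y h₁ h₂ hu he
    have hu1 : t₁ * u * t₁⁻¹ = u⁻¹ := by
      rw [← he, inv_eq_of_mul_eq_one_right (hinv t₁ h₁), ← mul_assoc, hinv t₁ h₁, one_mul,
        mul_inv_rev, inv_eq_of_mul_eq_one_right (hinv t₁ h₁),
        inv_eq_of_mul_eq_one_right (hinv t₂ h₂)]
    have h3 := Blocks.IsPPart.conj hu t₁
    rw [hu1] at h3
    refine Blocks.IsPPart.unique h3 ?_
    obtain ⟨s, rfl, hc, ⟨k, hk⟩, hs⟩ := hu
    exact ⟨s⁻¹, by rw [← mul_inv_rev, hc.eq], hc.inv_inv, ⟨k, by rwa [orderOf_inv]⟩,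
      by rwa [orderOf_inv]⟩
  by_cases hex : ∃ y ∈ (P : Subgroup G), y * y ≠ 1
  · obtain ⟨y, hy, hy2⟩ := hex
    refine ⟨y, hy, fun e => hy2 (by rw [e, mul_one]), fun t₁ t₂ u h₁ h₂ hu he => ?_,
      fun b b' h₁ h₂ hb hb' he => hy2 ?_⟩
    · have hty := hinvy t₁ t₂ u y h₁ h₂ hu he
      obtain ⟨n, hn, hne⟩ := Sylow.conj_eq_normalizer_conj_of_mem P y t₁⁻¹ hy
        (by rw [inv_inv, hty]; exact inv_mem hy)
      rw [inv_inv, hty] at hne
      have hy1 : y ≠ 1 := fun e => hy2 (by rw [e, mul_one])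
      have hnn : n⁻¹ * y * n = y⁻¹ := hne.symm
      have hn2 : n * n ∈ C := by
        rw [hC, ← h.free y hy hy1]
        refine Subgroup.mem_inf.2 ⟨Subgroup.mem_centralizer_singleton_iff.2 ?_, mul_mem hn hn⟩
        have h4 : (n * n)⁻¹ * y * (n * n) = y := by
          rw [show (n * n)⁻¹ * y * (n * n) = n⁻¹ * (n⁻¹ * y * n) * n by group, hnn,
            show n⁻¹ * y⁻¹ * n = (n⁻¹ * y * n)⁻¹ by group, hnn, inv_inv]
        exact (inv_mul_eq_iff_eq_mul.1 (mul_assoc (n * n)⁻¹ y (n * n) ▸ h4)).symm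
      haveI : (C.subgroupOf N).Normal := Subgroup.normal_subgroupOf_iff
        (Subgroup.centralizer_le_normalizer _) |>.2 fun c g hc hg => by
          refine Subgroup.mem_centralizer_iff.2 fun x hx => ?_
          have hx' : g⁻¹ * x * g ∈ (P : Subgroup G) :=
            (Subgroup.mem_normalizer_iff''.1 hg x).1 hx
          have h5 := Subgroup.mem_centralizer_iff.1 hc _ hx'
          calc x * (g * c * g⁻¹) = g * (g⁻¹ * x * g * c) * g⁻¹ := by group
            _ = g * (c * (g⁻¹ * x * g)) * g⁻¹ := by rw [h5]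
            _ = g * c * g⁻¹ * x := by group
      have h6 := Subgroup.pow_index_mem (C.subgroupOf N) ⟨n, hn⟩
      rw [show (C.subgroupOf N).index = 3 from hm, Subgroup.mem_subgroupOf] at h6
      have h7 : n ∈ C := by
        have := mul_mem h6 (inv_mem hn2)
        simpa [pow_succ, mul_assoc] using this
      have h8 := Subgroup.mem_centralizer_iff.1 h7 y hy
      rw [mul_assoc, h8, inv_mul_cancel_left] at hnn
      exact hy2 (mul_eq_one_iff_eq_inv.2 hnn)
    · -- products of two involutions of `P` are involutions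
      rw [← he]
      calc b * b' * (b * b') = (b * b) * (b' * b') := by
            rw [mul_assoc, ← mul_assoc b' b, h.mul_comm hb' hb]; group
        _ = 1 := by rw [hinv b h₁, hinv b' h₂, one_mul]
  push Not at hex
  -- exponent two
  have hp2 : p = 2 := by
    have hne : (P : Subgroup G) ≠ ⊥ := fun hb => by
      rw [show Nat.card P = Nat.card (P : Subgroup G) from rfl, hb, Subgroup.card_bot] at hr
      omega
    obtain ⟨y, hy⟩ := (Subgroup.ne_bot_iff_exists_ne_one).1 hne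
    obtain ⟨k, hk⟩ := h.exists_pow_orderOf y.2
    have h2 : orderOf (y : G) = 2 := orderOf_eq_prime (by rw [pow_two]; exact hex y y.2)
      fun e => hy (Subtype.ext e)
    rw [h2] at hk
    exact ((Nat.prime_dvd_prime_iff_eq Nat.prime_two hp.out).1
      (Nat.prime_two.dvd_of_dvd_pow (dvd_of_eq hk))).symm
  have h16 : 10 < Nat.card P := by
    obtain ⟨k, hk⟩ := P.isPGroup'.exists_card_eq
    rw [show Nat.card P = Nat.card (P : Subgroup G) from rfl, hk, hp2] at hr hr3 ⊢
    rcases Nat.lt_or_ge k 4 with hlt | hge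
    · interval_cases k <;> omega
    · exact lt_of_lt_of_le (by norm_num) (Nat.pow_le_pow_right (by norm_num) hge)
  set E : Finset G := Finset.univ.filter fun a => IsConj t a ∧ a ∈ (P : Subgroup G) with hE
  have hEcard : E.card ≤ 3 := by
    rcases E.eq_empty_or_nonempty with he | ⟨a₀, ha₀⟩
    · simp [he]
    obtain ⟨-, ha₀c, ha₀P⟩ := Finset.mem_filter.1 ha₀
    let φ : N ⧸ C.subgroupOf N → G := fun q => (q.out : G) * a₀ * (q.out : G)⁻¹
    have hsub : E ⊆ (Finset.univ.image φ) := by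
      intro a ha
      obtain ⟨-, hac, haP⟩ := Finset.mem_filter.1 ha
      obtain ⟨g, hg⟩ := isConj_iff.1 (ha₀c.symm.trans hac)
      obtain ⟨n, hn, hne⟩ := Sylow.conj_eq_normalizer_conj_of_mem P a₀ g⁻¹ ha₀P
        (by rw [inv_inv, hg]; exact haP)
      rw [inv_inv, hg] at hne
      refine Finset.mem_image.2 ⟨((⟨n, hn⟩⁻¹ : N) : N ⧸ C.subgroupOf N), Finset.mem_univ _, ?_⟩
      obtain ⟨c, hc⟩ := QuotientGroup.mk_out_eq_mul (C.subgroupOf N) (⟨n, hn⟩⁻¹ : N)
      simp only [φ, hc, Subgroup.coe_mul, Subgroup.coe_inv]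
      have h5 : a₀ * ((c : N) : G) = ((c : N) : G) * a₀ :=
        Subgroup.mem_centralizer_iff.1 c.2 a₀ ha₀P
      rw [hne, show n⁻¹ * ((c : N) : G) * a₀ * (n⁻¹ * ((c : N) : G))⁻¹ =
        n⁻¹ * (((c : N) : G) * a₀ * ((c : N) : G)⁻¹) * n by group,
        mul_inv_eq_iff_eq_mul.2 h5.symm]
    refine (Finset.card_le_card hsub).trans (Finset.card_image_le.trans ?_)
    rw [Finset.card_univ, ← Nat.card_eq_fintype_card]
    exact le_of_eq hm
  obtain ⟨y, hy, hy1, hyE⟩ : ∃ y ∈ (P : Subgroup G), y ≠ 1 ∧ ∀ b ∈ E, ∀ b' ∈ E, b * b' ≠ y := by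
    by_contra! hcon
    have hsub : (Finset.univ.filter fun y => y ∈ (P : Subgroup G)) ⊆
        insert 1 ((E ×ˢ E).image fun q => q.1 * q.2) := by
      intro y hy
      by_cases h1 : y = 1
      · exact h1 ▸ Finset.mem_insert_self _ _
      · obtain ⟨b, hb, b', hb', hbb⟩ := hcon y (Finset.mem_filter.1 hy).2 h1
        exact Finset.mem_insert_of_mem (Finset.mem_image.2 ⟨(b, b'), Finset.mem_product.2 ⟨hb, hb'⟩, hbb⟩)
    have h1 := (Finset.card_le_card hsub).trans ((Finset.card_insert_le _ _).trans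
      (Nat.succ_le_succ (Finset.card_image_le.trans (Finset.card_product E E).le)))
    rw [← Fintype.card_subtype, ← Nat.card_eq_fintype_card] at h1
    have : E.card * E.card ≤ 9 := Nat.mul_le_mul hEcard hEcard
    have h2 : Nat.card {x : G // x ∈ (P : Subgroup G)} = Nat.card P := rfl
    omega
  have hyE' : ∀ b b', IsConj t b → IsConj t b' → b ∈ (P : Subgroup G) → b' ∈ (P : Subgroup G) →
      b * b' ≠ y := fun b b' h₁ h₂ hb hb' =>
    hyE b (Finset.mem_filter.2 ⟨Finset.mem_univ _, h₁, hb⟩) b'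
      (Finset.mem_filter.2 ⟨Finset.mem_univ _, h₂, hb'⟩)
  refine ⟨y, hy, hy1, fun t₁ t₂ u h₁ h₂ hu he => ?_, hyE'⟩
  have hyy : y⁻¹ = y := inv_eq_of_mul_eq_one_right (hex y hy)
  set H := Subgroup.centralizer ({y} : Set G) with hH
  have ht1H : t₁ ∈ H := Subgroup.mem_centralizer_singleton_iff.2 (by
    have := hinvy t₁ t₂ u y h₁ h₂ hu he
    rw [hyy] at this
    exact mul_inv_eq_iff_eq_mul.1 this)
  obtain ⟨s, hsu, hs⟩ := Blocks.exists_regular_factor hu
  have huH : u ∈ H := hsu ▸ mul_mem (Subgroup.mem_centralizer_singleton_iff.2 rfl) s.2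
  have ht2H : t₂ ∈ H := by
    have : t₂ = t₁⁻¹ * u := by rw [← he]; group
    rw [this]; exact mul_mem (inv_mem ht1H) huH
  have hPH : (P : Subgroup G) ≤ H := fun x hx =>
    Subgroup.mem_centralizer_singleton_iff.2 (h.mul_comm hx hy)
  obtain ⟨hidx, hreg⟩ := index_pPrimeCore_of_hasNormalPComplement (h.hasNormalPComplement hy hy1)
  set π := QuotientGroup.mk' (pPrimeCore p H) with hπ
  have hinj : ∀ a b : H, (a : G) ∈ (P : Subgroup G) → (b : G) ∈ (P : Subgroup G) → π a = π b →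
      a = b := by
    intro a b ha hb hab
    have hm : a⁻¹ * b ∈ pPrimeCore p H := QuotientGroup.eq.1 hab
    obtain ⟨k, hk⟩ := h.exists_pow_orderOf (mul_mem (inv_mem ha) hb)
    have hd : orderOf (a⁻¹ * b) ∣ Nat.card (pPrimeCore p H) := by
      rw [show orderOf (a⁻¹ * b) = orderOf (⟨_, hm⟩ : pPrimeCore p H) from (Subgroup.orderOf_mk _ hm).symm]
      exact orderOf_dvd_natCard _
    rw [← Subgroup.orderOf_coe] at hd
    rw [show ((a⁻¹ * b : H) : G) = (a : G)⁻¹ * (b : G) from rfl, hk] at hd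
    rcases k with _ | k
    · exact inv_mul_eq_one.1 (Subtype.ext (orderOf_eq_one_iff.1 (hk.trans (pow_zero p))))
    · exact absurd ((dvd_pow_self p k.succ_ne_zero).trans hd) PCore.not_dvd_card_pPrimeCore
  have hcov : ∀ q : H ⧸ pPrimeCore p H, ∃ a : H, (a : G) ∈ (P : Subgroup G) ∧ π a = q := by
    intro q
    obtain ⟨g, rfl⟩ := QuotientGroup.mk_surjective q
    have htop := PCore.sylow_sup_eq_top (P.subtype hPH) (pPrimeCore p H) hidx
    obtain ⟨a, ha, k, hk, rfl⟩ := Subgroup.mem_sup_of_normal_right.1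
      (htop ▸ Subgroup.mem_top g : g ∈ (P.subtype hPH : Subgroup H) ⊔ pPrimeCore p H)
    exact ⟨a, ha, by rw [hπ, QuotientGroup.mk'_apply, QuotientGroup.mk_mul,
      (QuotientGroup.eq_one_iff k).2 hk, mul_one]⟩
  have habel : ∀ q q' : H ⧸ pPrimeCore p H, q * q' = q' * q := by
    intro q q'
    obtain ⟨a, ha, rfl⟩ := hcov q
    obtain ⟨b, hb, rfl⟩ := hcov q'
    rw [← map_mul, ← map_mul, show a * b = b * a from Subtype.ext (h.mul_comm ha hb)]
  have hlift : ∀ (τ : G) (hτ : τ ∈ H), IsConj t τ →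
      ∃ a : H, IsConj t (a : G) ∧ (a : G) ∈ (P : Subgroup G) ∧ π a = π ⟨τ, hτ⟩ := by
    intro τ hτ hcj
    have h2 : IsPGroup p (Subgroup.zpowers (⟨τ, hτ⟩ : H)) := by
      refine IsPGroup.of_card (n := 1) ?_
      rw [Nat.card_zpowers, Subgroup.orderOf_mk, hp2, pow_one]
      obtain ⟨c, rfl⟩ := isConj_iff.1 hcj
      rw [show orderOf (c * t * c⁻¹) = orderOf t from (MulAut.conj c).orderOf_eq t, ht]
    obtain ⟨Q, hQ⟩ := h2.exists_le_sylow
    obtain ⟨c, hc⟩ := MulAction.exists_smul_eq H Q (P.subtype hPH)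
    have hmem : c * ⟨τ, hτ⟩ * c⁻¹ ∈ (P.subtype hPH : Subgroup H) := by
      rw [← hc, Sylow.coe_subgroup_smul]
      exact ⟨_, hQ (Subgroup.mem_zpowers _), rfl⟩
    refine ⟨c * ⟨τ, hτ⟩ * c⁻¹, hcj.trans (isConj_iff.2 ⟨c, rfl⟩), Subgroup.mem_subgroupOf.1 hmem, ?_⟩
    rw [map_mul, map_mul, map_inv, habel (π c), mul_inv_cancel_right]
  obtain ⟨a₁, ha₁c, ha₁P, ha₁⟩ := hlift t₁ ht1H h₁
  obtain ⟨a₂, ha₂c, ha₂P, ha₂⟩ := hlift t₂ ht2H h₂
  have hyH : y ∈ H := hPH hy
  have h3 : π (a₁ * a₂) = π ⟨y, hyH⟩ := by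
    rw [map_mul, ha₁, ha₂, ← map_mul]
    have : (⟨t₁, ht1H⟩ : H) * ⟨t₂, ht2H⟩ = ⟨y, hyH⟩ * s := Subtype.ext (he.trans hsu.symm)
    rw [this, map_mul, show π s = 1 from (QuotientGroup.eq_one_iff s).2 (hreg s hs), mul_one]
  exact hyE' a₁ a₂ ha₁c ha₂c ha₁P ha₂P
    (congrArg Subtype.val (hinj _ _ (mul_mem ha₁P ha₂P) hy h3))

/-! ### Orbit sums -/

/-- `∑_{n ∈ N} l(a^n) = #C θ_l(a)`. -/
theorem FreeData.sum_orbit (h : FreeData P) {l : IrrCharacter (P : Subgroup G)}
    (hl : l ≠ Char.trivialChar _) (a : (P : Subgroup G)) :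
    ∑ n : Subgroup.normalizer ((P : Subgroup G) : Set G), l.1 (nAct P n a) =
      (Nat.card (Subgroup.centralizer ((P : Subgroup G) : Set G)) : ℂ) *
        ∑ μ ∈ Finset.univ.filter (fun μ => NConj P μ l), μ.1 a := by
  rw [← Finset.sum_fiberwise Finset.univ (fun n => nChar l n) fun n => l.1 (nAct P n a),
    Finset.mul_sum, Finset.sum_filter]
  refine Finset.sum_congr rfl fun μ _ => ?_
  rw [Finset.sum_congr rfl fun n hn => show l.1 (nAct P n a) = μ.1 a by
    rw [← (Finset.mem_filter.1 hn).2]; rfl, Finset.sum_const, ← Fintype.card_subtype,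
    ← Nat.card_eq_fintype_card, h.card_fibre hl, nsmul_eq_mul]
  split_ifs <;> simp

/-- The triple sum at a good element. -/
theorem FreeData.sum_triple (h : FreeData P)
    (hm : (Subgroup.centralizer ((P : Subgroup G) : Set G)).relIndex
      (Subgroup.normalizer ((P : Subgroup G) : Set G)) = 3) {a y : (P : Subgroup G)}
    (hne : ∀ n n' : Subgroup.normalizer ((P : Subgroup G) : Set G),
      nAct P n a * nAct P n' a * y ≠ 1) :
    ∑ l ∈ Finset.univ.filter (fun l => l ≠ Char.trivialChar (P : Subgroup G)),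
      (∑ μ ∈ Finset.univ.filter (fun μ => NConj P μ l), μ.1 a) ^ 2 * l.1 y = -9 := by
  set c : ℂ := (Nat.card (Subgroup.centralizer ((P : Subgroup G) : Set G)) : ℂ) with hc
  have hc0 : c ≠ 0 := Nat.cast_ne_zero.2 Nat.card_pos.ne'
  have hN : (Nat.card (Subgroup.normalizer ((P : Subgroup G) : Set G)) : ℂ) = c * 3 := by
    have h1 := Subgroup.card_mul_index ((Subgroup.centralizer ((P : Subgroup G) : Set G)).subgroupOf
      (Subgroup.normalizer ((P : Subgroup G) : Set G)))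
    rw [show ((Subgroup.centralizer ((P : Subgroup G) : Set G)).subgroupOf
      (Subgroup.normalizer ((P : Subgroup G) : Set G))).index = 3 from hm,
      Nat.card_congr (Subgroup.subgroupOfEquivOfLe (Subgroup.centralizer_le_normalizer _)).toEquiv] at h1
    rw [← h1]; push_cast; ring
  have key : ∀ l, l ≠ Char.trivialChar (P : Subgroup G) →
      c ^ 2 * ((∑ μ ∈ Finset.univ.filter (fun μ => NConj P μ l), μ.1 a) ^ 2 * l.1 y) =
        ∑ n : Subgroup.normalizer ((P : Subgroup G) : Set G),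
          ∑ n' : Subgroup.normalizer ((P : Subgroup G) : Set G),
            l.1 (nAct P n a * nAct P n' a * y) := by
    intro l hl
    obtain ⟨lam, hlam⟩ := Char.IsCharacter.exists_monoidHom (Char.irr_isCharacter l) (h.linear l)
    rw [← mul_assoc, ← mul_pow, hc, ← h.sum_orbit hl a, sq, Finset.sum_mul_sum, Finset.sum_mul]
    refine Finset.sum_congr rfl fun n _ => ?_
    rw [Finset.sum_mul]
    refine Finset.sum_congr rfl fun n' _ => ?_
    rw [← hlam]
    simp [map_mul]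
  refine mul_left_cancel₀ (pow_ne_zero 2 hc0) ?_
  rw [Finset.mul_sum, Finset.sum_congr rfl fun l hl => key l (Finset.mem_filter.1 hl).2, Finset.sum_comm,
    Finset.sum_congr rfl fun n _ => by
      rw [Finset.sum_comm, Finset.sum_congr rfl fun n' _ => h.sum_nontrivial (hne n n')]]
  simp only [Finset.sum_const, Finset.card_univ, ← Nat.card_eq_fintype_card, smul_neg, nsmul_eq_mul,
    mul_one]
  rw [hN]; ring

/-! ### Signs and the square -/

theorem square_of_two_neg {xi xj xk : ℕ} {Ai Aj Ak : ℤ} (hk : Ak ≠ 0)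
    (h1 : (xi : ℤ) + 1 = xj + xk) (h2 : Ai = Aj + Ak)
    (h3 : Ai ^ 2 * xj * xk = xi * (Aj ^ 2 * xk + Ak ^ 2 * xj)) :
    IsSquare (xi * xj * xk) := by
  set W : ℤ := Aj * xk * (xj - xi) + Ak * xj * xk with hW
  have h4 : W ^ 2 = ((xi * xj * xk : ℕ) : ℤ) * Ak ^ 2 := by
    rw [hW, h2] at *
    push_cast
    have hx : (xi : ℤ) = xj + xk - 1 := by linarith
    rw [hx] at h3 ⊢
    linear_combination ((xk : ℤ) * (1 - xk)) * h3
  obtain ⟨w, hw⟩ : Ak ∣ W := (Int.pow_dvd_pow_iff two_ne_zero).1 ⟨_, h4.trans (mul_comm _ _)⟩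
  have h5 : ((xi * xj * xk : ℕ) : ℤ) = w * w := by
    rw [hw] at h4
    refine mul_right_cancel₀ (pow_ne_zero 2 hk) ?_
    rw [← h4]; ring
  refine ⟨w.natAbs, ?_⟩
  have := congrArg Int.natAbs h5
  rwa [Int.natAbs_natCast, Int.natAbs_mul] at this

theorem one_neg_false {xi xj xk : ℕ} {Ai Aj Ak : ℤ} (hxi : 0 < xi) (hxj : 0 < xj) (hi : Ai ≠ 0)
    (h1 : (xk : ℤ) = 1 + xi + xj) (h2 : Ak = Ai + Aj)
    (h3 : Ak ^ 2 * xi * xj = xk * (Ai ^ 2 * xj + Aj ^ 2 * xi)) : False := by
  have a : (0 : ℤ) < Ai ^ 2 * xj := by positivity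
  have b : (0 : ℤ) ≤ Aj ^ 2 * xi := by positivity
  rw [h1, h2] at h3
  nlinarith [sq_nonneg (Ai * (xj : ℤ) - Aj * xi)]

theorem signs_of_relations {x y v : ℕ} (hx : 0 < x) (hy : 0 < y) (hv : 0 < v) {A B C c d e : ℤ}
    (hA : A ≠ 0) (hB : B ≠ 0) (hC : C ≠ 0) (hc : c = 1 ∨ c = -1) (hd : d = 1 ∨ d = -1)
    (he : e = 1 ∨ e = -1) (h1 : 1 + c * x + d * y + e * v = 0) (h2 : c * A + d * B + e * C = 0)
    (h3 : c * A ^ 2 * y * v + d * B ^ 2 * x * v + e * C ^ 2 * x * y = 0) :
    ((if c = -1 then 1 else 0) + (if d = -1 then 1 else 0) + (if e = -1 then 1 else 0) = 2) ∧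
      IsSquare (v * (x * y)) := by
  rcases hc with rfl | rfl <;> rcases hd with rfl | rfl <;> rcases he with rfl | rfl
  · exfalso; omega
  · exact (one_neg_false (xk := v) (Ak := C) (Aj := B) hx hy hA (by linarith) (by linarith) (by linarith)).elim
  · exact (one_neg_false (xk := y) (Ak := B) (Aj := C) hx hv hA (by linarith) (by linarith) (by linarith)).elim
  · refine ⟨by norm_num, ?_⟩
    rw [show v * (x * y) = x * y * v by ring]
    exact square_of_two_neg (Ai := A) (Aj := B) hC (by linarith) (by linarith) (by linarith)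
  · exact (one_neg_false (xk := x) (Ak := A) (Aj := C) hy hv hB (by linarith) (by linarith) (by linarith)).elim
  · refine ⟨by norm_num, ?_⟩
    rw [show v * (x * y) = y * x * v by ring]
    exact square_of_two_neg (Ai := B) (Aj := A) hC (by linarith) (by linarith) (by linarith)
  · refine ⟨by norm_num, ?_⟩
    rw [show v * (x * y) = v * x * y by ring]
    exact square_of_two_neg (Ai := C) (Aj := A) hB (by linarith) (by linarith) (by linarith)
  · exfalso; omega

theorem sum_P_dvd (χ : IrrCharacter G) :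
    ∃ n : ℕ, ∑ w : (P : Subgroup G), χ.1 w = (Nat.card P : ℂ) * n := by
  obtain ⟨n, hn⟩ := Char.IsCharacter.exists_nat_classInner
    (Char.IsCharacter.restrict (Char.irr_isCharacter χ) (P : Subgroup G))
    (Char.irr_isCharacter (Char.trivialChar (P : Subgroup G)))
  refine ⟨n, ?_⟩
  rw [← hn, classInner, ← mul_assoc, mul_inv_cancel₀ Char.card_ne_zero, one_mul]
  refine Finset.sum_congr rfl fun w _ => ?_
  rw [show (Char.trivialChar (P : Subgroup G)).1 w = 1 from rfl, map_one, mul_one]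

end Cfsg.Agent.DefectOne
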